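import Cfsg.Agent.M23Ord.TwentyThree

/-!
# Simple groups of order 10200960: the degrees modulo 23

Every degree is congruent to one of 0, ±1, ±11 modulo 23, and only the Sylow subgroup of order 23
centralizes an element of order 23.
-/

set_option autoImplicit false
set_option linter.style.haveILetI false
set_option linter.unusedSectionVars false

namespace CfsgLib.M23Ord

open Cfsg Finset CfsgLib.Block CfsgLib.Block.Chr CfsgLib.BrauerPrime CfsgLib.BrauerPairs
open CfsgLib.Cyclic (deg)

universe u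

variable {G : Type u} [Group G] [Fintype G] [IsSimpleGroup G]

/-- The degrees below `3194` allowed at `p` and at 23. -/
def badDeg (p : ℕ) (extra : ℕ → Bool) (d : ℕ) : Bool :=
  decide (d < 2 * p) || decide (d % 23 ∉ [0, 1, 11, 12, 22]) || extra d

theorem deg_lt (hcard : Nat.card G = 10200960) (χ : IrrCharacter G) :
    charDegree (χ : G → ℂ) < 3194 := by
  have h := deg_sq_le (G := G) χ
  rw [hcard, show deg χ = (charDegree (χ : G → ℂ) : ℤ) from rfl] at h
  by_contra hle
  have h' : (3194 : ℤ) ≤ (charDegree (χ : G → ℂ) : ℤ) := by exact_mod_cast not_lt.1 hle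
  push_cast at h
  nlinarith

/-- Every degree is 0, ±1 or ±11 modulo 23. -/
theorem deg_mod (hcard : Nat.card G = 10200960) (φ : IrrCharacter G) :
    charDegree (φ : G → ℂ) % 23 ∈ [0, 1, 11, 12, 22] := by
  classical
  haveI : Fact (Nat.Prime 23) := ⟨by norm_num⟩
  obtain ⟨S⟩ : Nonempty (Sylow 23 G) := inferInstance
  obtain ⟨hn, hC, hN⟩ := sylow_twentyThree hcard S
  have h : Setup G 23 S := setup hcard S (m := 443520) (by norm_num) (by norm_num)
  obtain ⟨c, e, num⟩ := exists_num h (n := 1753) (by rw [hn])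
  have hc : c = 1 := by
    have h1 := num.cardC
    rw [hC, show Nat.card (S : Subgroup G) = 23 from h.cardP] at h1
    omega
  subst hc
  have he : e = 11 := by
    have h1 := num.cardN
    rw [hN] at h1
    omega
  subst he
  obtain ⟨M, hM⟩ := exists_isPModular (Fact.out : Nat.Prime 23)
  haveI := hM.2.1.isPrime
  obtain ⟨s, X, Y, sg, ε, B⟩ := exists_blk hM h num
  set d := charDegree (φ : G → ℂ)
  by_cases hφ : φ ∈ principalBlock M G
  · rcases (B.mem φ).1 hφ with hX | hY
    · rcases mod_of_modEq (d := d) (r := 1) (B.sign φ hX) (p := 23) (by norm_num) one_pos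
        (by rw [Nat.cast_one, mul_one]; exact B.congX φ hX) with ⟨h1, -⟩ | ⟨h1, -⟩ <;> simp [h1]
    · rcases mod_of_modEq (d := d) (r := 11) B.signY (p := 23) (by norm_num) (by norm_num)
        (B.congY φ hY) with ⟨h1, -⟩ | ⟨h1, -⟩ <;> simp [h1]
  · have := (outside hM h num hφ).1
    have h0 : d % 23 = 0 := Nat.mod_eq_zero_of_dvd this
    simp [h0]

/-- No Sylow subgroup of another prime order is centralized by an element of order 23. -/
theorem not_dvd_centralizer (hcard : Nat.card G = 10200960) {p : ℕ} [Fact p.Prime] (hp : p ≠ 23)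
    {S : Sylow p G} (h : Setup G p S) :
    ¬ 23 ∣ Nat.card (Subgroup.centralizer ((S : Subgroup G) : Set G)) := by
  haveI : Fact (Nat.Prime 23) := ⟨by norm_num⟩
  intro hd
  obtain ⟨⟨z, hz⟩, hzo⟩ := exists_prime_orderOf_dvd_card' 23 hd
  rw [Subgroup.orderOf_mk] at hzo
  obtain ⟨T, hT⟩ := (IsPGroup.of_card (n := 1) (by rw [Nat.card_zpowers, hzo, pow_one]) :
    IsPGroup 23 (Subgroup.zpowers z)).exists_le_sylow
  have h23 : Setup G 23 T := setup hcard T (m := 443520) (by norm_num) (by norm_num)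
  obtain ⟨-, hC, -⟩ := sylow_twentyThree hcard T
  obtain ⟨x, hx, hx1⟩ := exists_ne_one h
  have hz1 : z ≠ 1 := fun e => by rw [e, orderOf_one] at hzo; norm_num at hzo
  have h1 : x ∈ Subgroup.centralizer ({z} : Set G) :=
    Subgroup.mem_centralizer_singleton_iff.2 (Subgroup.mem_centralizer_iff.1 hz x hx)
  rw [centralizer_singleton h23 (hT (Subgroup.mem_zpowers z)) hz1, hC] at h1
  have h2 := Subgroup.orderOf_dvd_natCard _ h1
  rw [orderOf_eq h hx hx1, show Nat.card (T : Subgroup G) = 23 from h23.cardP] at h2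
  exact hp ((Nat.prime_dvd_prime_iff_eq Fact.out (by norm_num)).1 h2)

/-- A principal block whose degrees below `3194` have impossible residues. -/
theorem no_block_small (hcard : Nat.card G = 10200960) {p : ℕ} [Fact p.Prime] {S : Sylow p G}
    {M : Ideal AlgInt} [M.IsPrime] (hM : IsPModular p M) (h : Setup G p S) {c e n s : ℕ}
    (num : Num S c e n) (hc : c ≠ 1) {X Y : Finset (IrrCharacter G)} {sg : IrrCharacter G → ℤ}
    {ε : ℤ} (B : Blk M S e s X Y sg ε) (extra : ℕ → Bool)
    (hextra : ∀ χ : IrrCharacter G, χ ∈ X ∨ χ ∈ Y → χ ≠ trivIrr G →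
      extra (charDegree (χ : G → ℂ)) = false) (m : ℕ) (L : List (ZMod m)) (he : e < p)
    (hX : (List.range 3194).all (goodX p (e * (1 + n * p)) m (badDeg p extra) L) = true)
    (hY : (List.range 3194).all
      (goodY p (e * (1 + n * p)) e m (badDeg p extra) (sums L (e - 1))) = true) : False := by
  classical
  have hbad : ∀ χ : IrrCharacter G, χ ∈ X ∨ χ ∈ Y → χ ≠ trivIrr G →
      badDeg p extra (charDegree (χ : G → ℂ)) = false := fun χ hχ hne => by
    have h1 : ¬ charDegree (χ : G → ℂ) < 2 * p := fun hlt =>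
      hc (c_eq_one_of_lt hM h num B hχ hne hlt)
    simp only [badDeg, Bool.or_eq_false_iff, decide_eq_false_iff_not, not_not]
    exact ⟨⟨h1, deg_mod hcard χ⟩, hextra χ hχ hne⟩
  obtain ⟨θ, hθ⟩ := card_pos.1 (B.cardY ▸ B.spos : 0 < Y.card)
  have hp2 := (Fact.out : p.Prime).two_le
  have hres := residue B hθ m L fun χ hχ hne => by
    have hd := B.dvdX h num hχ
    have hg := all_range hX (deg_lt hcard χ)
    have hc := mod_of_modEq (d := charDegree (χ : G → ℂ)) (r := 1) (B.sign χ hχ) hp2 one_pos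
      (by rw [Nat.cast_one, mul_one]; exact B.congX χ hχ)
    simp only [goodX, hbad χ (Or.inl hχ) hne, hd, and_self, if_true, Bool.and_eq_true] at hg
    show (((sg χ * (charDegree (χ : G → ℂ) : ℤ) : ℤ)) : ZMod m) ∈ L
    rcases hc with ⟨h1, h2⟩ | ⟨h1, h2⟩
    · rw [h2]; simpa [h1] using hg.1
    · rw [h2]; simpa [h1] using hg.2
  have hd := B.dvdY hM h num hθ
  have hg := all_range hY (deg_lt hcard θ)
  have hc' := mod_of_modEq (d := charDegree (θ : G → ℂ)) (r := e) B.signY he
    (by have := num.epos; omega) (B.congY θ hθ)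
  rw [goodY, if_pos ⟨hd, hbad θ (Or.inr hθ) fun hh => B.disj _ B.triv (hh ▸ hθ)⟩,
    Bool.and_eq_true] at hg
  change (((ε * (charDegree (θ : G → ℂ) : ℤ) : ℤ)) : ZMod m) ∈ _ at hres
  rcases hc' with ⟨h1, h2⟩ | ⟨h1, h2⟩ <;> rw [h2] at hres
  · simp [h1] at hg hres
    exact hg.1 hres
  · simp [h1] at hg hres
    exact hg.2 hres

/-- A principal block must contain one of the degrees set apart. -/
theorem exists_extra (hcard : Nat.card G = 10200960) {p : ℕ} [Fact p.Prime] {S : Sylow p G}
    {M : Ideal AlgInt} [M.IsPrime] (hM : IsPModular p M) (h : Setup G p S) {c e n s : ℕ}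
    (num : Num S c e n) (hc : c ≠ 1) {X Y : Finset (IrrCharacter G)} {sg : IrrCharacter G → ℤ}
    {ε : ℤ} (B : Blk M S e s X Y sg ε) (extra : List ℕ) (m : ℕ) (L : List (ZMod m)) (he : e < p)
    (hX : (List.range 3194).all
      (goodX p (e * (1 + n * p)) m (badDeg p fun d => decide (d ∈ extra)) L) = true)
    (hY : (List.range 3194).all
      (goodY p (e * (1 + n * p)) e m (badDeg p fun d => decide (d ∈ extra)) (sums L (e - 1))) = true) :
    ∃ χ : IrrCharacter G, (χ ∈ X ∨ χ ∈ Y) ∧ charDegree (χ : G → ℂ) ∈ extra := by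
  by_contra hno
  push Not at hno
  exact no_block_small hcard hM h num hc B _ (fun χ hχ _ => decide_eq_false (hno χ hχ)) m L he hX hY

end CfsgLib.M23Ord
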