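import Cfsg.Agent.M23Ord.Eleven
import Cfsg.Agent.Blocks.Regular

/-!
# Simple groups of order 10200960: the degrees modulo 11 and 23 together

The two characters with degree congruent to ±11 modulo 23 agree outside the elements of order 23,
the two with degree congruent to ±5 modulo 11 agree outside the elements of order 11, and no
degree has both properties.
-/

set_option autoImplicit false
set_option linter.style.haveILetI false
set_option linter.unusedSectionVars false

namespace CfsgLib.M23Ord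

open Cfsg Finset CfsgLib.Block CfsgLib.Block.Chr CfsgLib.BrauerPrime CfsgLib.BrauerPairs
open CfsgLib.Cyclic (deg)
open CfsgLib.GaloisParity (twist twist_apply twist_deg)

universe u

variable {G : Type u} [Group G] [Fintype G]

/-- The possible degrees. -/
def okDeg (d : ℕ) : Bool :=
  decide (d < 3194) && decide (10200960 % d = 0) && decide (d % 23 ∈ [0, 1, 11, 12, 22]) &&
    decide (d % 11 ∈ [0, 1, 5, 6, 10]) &&
    !(decide (d % 23 ∈ [11, 12]) && decide (d % 11 ∈ [5, 6]))

variable [IsSimpleGroup G]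

/-- An element of prime order dividing the group order once generates a Sylow subgroup. -/
theorem exists_setup (hcard : Nat.card G = 10200960) {p k : ℕ} [Fact p.Prime]
    (hk : 10200960 = p * k) (hpk : ¬ p ∣ k) {z : G} (hz : orderOf z = p) :
    ∃ S : Sylow p G, Setup G p S ∧ z ∈ (S : Subgroup G) ∧ Subgroup.zpowers z = (S : Subgroup G) ∧
      Subgroup.centralizer ({z} : Set G) = Subgroup.centralizer ((S : Subgroup G) : Set G) := by
  obtain ⟨S, hS⟩ := (IsPGroup.of_card (n := 1) (by rw [Nat.card_zpowers, hz, pow_one]) :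
    IsPGroup p (Subgroup.zpowers z)).exists_le_sylow
  have h : Setup G p S := setup hcard S hk hpk
  have hz1 : z ≠ 1 := fun e => by
    rw [e, orderOf_one] at hz; exact (Fact.out : p.Prime).one_lt.ne hz
  have hzS := hS (Subgroup.mem_zpowers z)
  exact ⟨S, h, hzS, zpowers_eq h hzS hz1, centralizer_singleton h hzS hz1⟩

theorem centralizer_twentyThree (hcard : Nat.card G = 10200960) {z : G} (hz : orderOf z = 23) :
    Nat.card (Subgroup.centralizer ({z} : Set G)) = 23 := by
  haveI : Fact (Nat.Prime 23) := ⟨by norm_num⟩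
  obtain ⟨S, h, -, -, hC⟩ := exists_setup hcard (k := 443520) (by norm_num) (by norm_num) hz
  rw [hC, (sylow_twentyThree hcard S).2.1]
  exact h.cardP

theorem centralizer_eleven (hcard : Nat.card G = 10200960) {z : G} (hz : orderOf z = 11) :
    Nat.card (Subgroup.centralizer ({z} : Set G)) = 11 := by
  haveI : Fact (Nat.Prime 11) := ⟨by norm_num⟩
  obtain ⟨S, h, -, -, hC⟩ := exists_setup hcard (k := 927360) (by norm_num) (by norm_num) hz
  rw [hC, (sylow_eleven hcard S).2.1]
  exact h.cardP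

/-- The order of a commuting element divides the order of the centralizer. -/
theorem orderOf_dvd_centralizer {g z : G} (h : Commute g z) :
    orderOf g ∣ Nat.card (Subgroup.centralizer ({z} : Set G)) :=
  Subgroup.orderOf_dvd_natCard _ (Subgroup.mem_centralizer_singleton_iff.2 h.eq)

/-- An element of order divisible by 23 has order 23. -/
theorem orderOf_of_twentyThree (hcard : Nat.card G = 10200960) {g : G} (h : 23 ∣ orderOf g) :
    orderOf g = 23 := by
  have hz : orderOf (g ^ (orderOf g / 23)) = 23 := by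
    rw [orderOf_pow_orderOf_div (orderOf_pos g).ne' h]
  exact Nat.dvd_antisymm
    (centralizer_twentyThree hcard hz ▸ orderOf_dvd_centralizer (Commute.self_pow g _)) h

/-- The two characters with degree ±11 modulo 23. -/
theorem theta_twentyThree (hcard : Nat.card G = 10200960) :
    ∃ Y : Finset (IrrCharacter G), Y.card = 2 ∧
      (∀ φ : IrrCharacter G, charDegree (φ : G → ℂ) % 23 ∈ [11, 12] → φ ∈ Y) ∧
      (∀ φ ∈ Y, charDegree (φ : G → ℂ) % 23 ∈ [11, 12]) ∧
      ∀ φ ∈ Y, ∀ ψ ∈ Y, deg φ = deg ψ ∧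
        ∀ g : G, ¬ 23 ∣ orderOf g → (φ : G → ℂ) g = (ψ : G → ℂ) g := by
  classical
  haveI : Fact (Nat.Prime 23) := ⟨by norm_num⟩
  obtain ⟨S⟩ : Nonempty (Sylow 23 G) := inferInstance
  obtain ⟨hn, hC, hN⟩ := sylow_twentyThree hcard S
  have h : Setup G 23 S := setup hcard S (m := 443520) (by norm_num) (by norm_num)
  obtain ⟨c, e, num⟩ := exists_num h (n := 1753) (by rw [hn])
  obtain rfl : c = 1 := by
    have h1 := num.cardC
    rw [hC, show Nat.card (S : Subgroup G) = 23 from h.cardP] at h1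
    omega
  obtain rfl : e = 11 := by
    have h1 := num.cardN
    rw [hN] at h1
    omega
  obtain ⟨M, hM⟩ := exists_isPModular (Fact.out : Nat.Prime 23)
  haveI := hM.2.1.isPrime
  obtain ⟨s, X, Y, sg, ε, B⟩ := exists_blk hM h num
  refine ⟨Y, by have := B.hes; have := B.cardY; omega, fun φ hφ => ?_, fun φ hφ => ?_,
    fun φ hφ ψ hψ => ⟨B.deg_agree hφ hψ, B.agree φ hφ ψ hψ⟩⟩
  · by_cases hb : φ ∈ principalBlock M G
    · refine ((B.mem φ).1 hb).resolve_left fun hX => ?_
      rcases mod_of_modEq (d := charDegree (φ : G → ℂ)) (r := 1) (B.sign φ hX) (p := 23)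
        (by norm_num) one_pos (by rw [Nat.cast_one, mul_one]; exact B.congX φ hX) with
        ⟨h1, -⟩ | ⟨h1, -⟩ <;> simp [h1] at hφ
    · have h0 := Nat.mod_eq_zero_of_dvd (outside hM h num hb).1
      simp [h0] at hφ
  · rcases mod_of_modEq (d := charDegree (φ : G → ℂ)) (r := 11) B.signY (p := 23) (by norm_num)
      (by norm_num) (B.congY φ hφ) with ⟨h1, -⟩ | ⟨h1, -⟩ <;> simp [h1]

/-- The two characters with degree ±5 modulo 11, and every degree modulo 11. -/
theorem theta_eleven (hcard : Nat.card G = 10200960) :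
    ∃ Y : Finset (IrrCharacter G), Y.card = 2 ∧
      (∀ φ : IrrCharacter G, charDegree (φ : G → ℂ) % 11 ∈ [5, 6] → φ ∈ Y) ∧
      (∀ φ ∈ Y, charDegree (φ : G → ℂ) % 11 ∈ [5, 6]) ∧
      (∀ φ ∈ Y, ∀ ψ ∈ Y, deg φ = deg ψ ∧
        ∀ g : G, ¬ 11 ∣ orderOf g → (φ : G → ℂ) g = (ψ : G → ℂ) g) ∧
      ∀ φ : IrrCharacter G, charDegree (φ : G → ℂ) % 11 ∈ [0, 1, 5, 6, 10] := by
  classical
  haveI : Fact (Nat.Prime 11) := ⟨by norm_num⟩
  obtain ⟨S⟩ : Nonempty (Sylow 11 G) := inferInstance
  obtain ⟨hn, hC, hN⟩ := sylow_eleven hcard S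
  have h : Setup G 11 S := setup hcard S (m := 927360) (by norm_num) (by norm_num)
  obtain ⟨c, e, num⟩ := exists_num h (n := 16861) (by rw [hn])
  obtain rfl : c = 1 := by
    have h1 := num.cardC
    rw [hC, show Nat.card (S : Subgroup G) = 11 from h.cardP] at h1
    omega
  obtain rfl : e = 5 := by
    have h1 := num.cardN
    rw [hN] at h1
    omega
  obtain ⟨M, hM⟩ := exists_isPModular (Fact.out : Nat.Prime 11)
  haveI := hM.2.1.isPrime
  obtain ⟨s, X, Y, sg, ε, B⟩ := exists_blk hM h num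
  have hX : ∀ φ ∈ X, charDegree (φ : G → ℂ) % 11 ∈ [1, 10] := fun φ hX => by
    rcases mod_of_modEq (d := charDegree (φ : G → ℂ)) (r := 1) (B.sign φ hX) (p := 11)
      (by norm_num) one_pos (by rw [Nat.cast_one, mul_one]; exact B.congX φ hX) with
      ⟨h1, -⟩ | ⟨h1, -⟩ <;> simp [h1]
  have hY : ∀ φ ∈ Y, charDegree (φ : G → ℂ) % 11 ∈ [5, 6] := fun φ hφ => by
    rcases mod_of_modEq (d := charDegree (φ : G → ℂ)) (r := 5) B.signY (p := 11) (by norm_num)
      (by norm_num) (B.congY φ hφ) with ⟨h1, -⟩ | ⟨h1, -⟩ <;> simp [h1]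
  refine ⟨Y, by have := B.hes; have := B.cardY; omega, fun φ hφ => ?_, hY,
    fun φ hφ ψ hψ => ⟨B.deg_agree hφ hψ, B.agree φ hφ ψ hψ⟩, fun φ => ?_⟩
  · by_cases hb : φ ∈ principalBlock M G
    · refine ((B.mem φ).1 hb).resolve_left fun hX' => ?_
      have h1 := hX φ hX'
      simp at h1 hφ
      omega
    · have h0 := Nat.mod_eq_zero_of_dvd (outside hM h num hb).1
      simp [h0] at hφ
  · by_cases hb : φ ∈ principalBlock M G
    · rcases (B.mem φ).1 hb with h1 | h1
      · have h2 := hX φ h1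
        simp at h2 ⊢
        omega
      · have h2 := hY φ h1
        simp at h2 ⊢
        omega
    · simp [Nat.mod_eq_zero_of_dvd (outside hM h num hb).1]

/-- Equal behaviour at both primes forces equality, so no degree is exceptional for both. -/
theorem deg_not_both (hcard : Nat.card G = 10200960) (φ : IrrCharacter G) :
    ¬ (charDegree (φ : G → ℂ) % 23 ∈ [11, 12] ∧ charDegree (φ : G → ℂ) % 11 ∈ [5, 6]) := by
  classical
  rintro ⟨ha, hb⟩
  obtain ⟨Y, hY, hmem, -, hagree⟩ := theta_twentyThree hcard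
  obtain ⟨Y', -, hmem', -, hagree', -⟩ := theta_eleven hcard
  have hφ := hmem φ ha
  obtain ⟨ψ, hψ, hne⟩ : ∃ ψ ∈ Y, ψ ≠ φ := exists_mem_ne (by omega) φ
  refine hne (Subtype.ext (funext fun g => ?_))
  have hd : charDegree (ψ : G → ℂ) = charDegree (φ : G → ℂ) := by
    have h1 := (hagree ψ hψ φ hφ).1
    exact_mod_cast h1
  by_cases h23 : 23 ∣ orderOf g
  · refine (hagree' ψ (hmem' ψ (hd ▸ hb)) φ (hmem' φ hb)).2 g ?_
    rw [orderOf_of_twentyThree hcard h23]
    norm_num
  · exact (hagree ψ hψ φ hφ).2 g h23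

theorem okDeg_irr (hcard : Nat.card G = 10200960) (φ : IrrCharacter G) :
    okDeg (charDegree (φ : G → ℂ)) = true := by
  have h1 := deg_lt hcard φ
  have h2 := deg_mod hcard φ
  obtain ⟨Y, -, -, -, -, h3⟩ := theta_eleven hcard
  have h4 := deg_not_both hcard φ
  have h5 : 10200960 % charDegree (φ : G → ℂ) = 0 :=
    Nat.mod_eq_zero_of_dvd (hcard ▸ CfsgLib.Block.charDegree_dvd_card φ)
  simp only [okDeg, Bool.and_eq_true, decide_eq_true_eq, Bool.not_eq_true', Bool.and_eq_false_iff,
    decide_eq_false_iff_not]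
  exact ⟨⟨⟨⟨h1, h5⟩, h2⟩, h3 φ⟩, not_and_or.1 h4⟩

/-- The two characters of degree congruent to ±11 modulo 23 have the same degree. -/
theorem deg_eq_of_twentyThree (hcard : Nat.card G = 10200960) {φ ψ : IrrCharacter G}
    (hφ : charDegree (φ : G → ℂ) % 23 ∈ [11, 12]) (hψ : charDegree (ψ : G → ℂ) % 23 ∈ [11, 12]) :
    charDegree (φ : G → ℂ) = charDegree (ψ : G → ℂ) ∧
      ∀ g : G, ¬ 23 ∣ orderOf g → (φ : G → ℂ) g = (ψ : G → ℂ) g := by
  obtain ⟨Y, -, hmem, -, hagree⟩ := theta_twentyThree hcard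
  obtain ⟨h1, h2⟩ := hagree φ (hmem φ hφ) ψ (hmem ψ hψ)
  exact ⟨by exact_mod_cast h1, h2⟩

/-- The two characters of degree congruent to ±5 modulo 11 have the same degree. -/
theorem deg_eq_of_eleven (hcard : Nat.card G = 10200960) {φ ψ : IrrCharacter G}
    (hφ : charDegree (φ : G → ℂ) % 11 ∈ [5, 6]) (hψ : charDegree (ψ : G → ℂ) % 11 ∈ [5, 6]) :
    charDegree (φ : G → ℂ) = charDegree (ψ : G → ℂ) ∧
      ∀ g : G, ¬ 11 ∣ orderOf g → (φ : G → ℂ) g = (ψ : G → ℂ) g := by
  obtain ⟨Y, -, hmem, -, hagree, -⟩ := theta_eleven hcard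
  obtain ⟨h1, h2⟩ := hagree φ (hmem φ hφ) ψ (hmem ψ hψ)
  exact ⟨by exact_mod_cast h1, h2⟩

/-- An exceptional character at 23 is rational outside the elements of order 23. -/
theorem int_value_twentyThree (hcard : Nat.card G = 10200960) {φ : IrrCharacter G}
    (hφ : charDegree (φ : G → ℂ) % 23 ∈ [11, 12]) {y : G} (hy : ¬ 23 ∣ orderOf y) :
    ∃ j : ℤ, (φ : G → ℂ) y = (j : ℂ) := by
  refine CfsgLib.Char.IsCharacter.exists_int_apply (isCharacter_irr φ) fun k hk => ?_
  rw [← twist_apply hk φ y]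
  exact (deg_eq_of_twentyThree hcard (by rwa [twist_deg hk φ]) hφ).2 y hy

/-- An exceptional character at 11 is rational outside the elements of order 11. -/
theorem int_value_eleven (hcard : Nat.card G = 10200960) {φ : IrrCharacter G}
    (hφ : charDegree (φ : G → ℂ) % 11 ∈ [5, 6]) {y : G} (hy : ¬ 11 ∣ orderOf y) :
    ∃ j : ℤ, (φ : G → ℂ) y = (j : ℂ) := by
  refine CfsgLib.Char.IsCharacter.exists_int_apply (isCharacter_irr φ) fun k hk => ?_
  rw [← twist_apply hk φ y]
  exact (deg_eq_of_eleven hcard (by rwa [twist_deg hk φ]) hφ).2 y hy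

end CfsgLib.M23Ord
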