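import Cfsg.Agent.M23Ord.Tools
import Cfsg.Agent.BlocksB.GaloisParity
import Cfsg.Agent.Char.Galois

/-!
# Rational values of principal block characters on the centralizer of a Sylow subgroup

A member of the principal block that is fixed by the power maps takes integer values on the
regular elements centralizing the Sylow subgroup, congruent to the degree; at an element of prime
order `q` this leaves only the degree when `p (q - 1)` exceeds it.
-/

set_option autoImplicit false
set_option linter.style.haveILetI false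
set_option linter.unusedSectionVars false

namespace CfsgLib.M23Ord

open Cfsg Finset CfsgLib.Block CfsgLib.Block.Chr CfsgLib.BrauerPrime CfsgLib.BrauerPairs
open CfsgLib.Cyclic (deg)
open CfsgLib.GaloisParity (twist twist_apply twist_deg twist_mem_principal)

universe u

variable {G : Type u} [Group G] [Fintype G] {p : ℕ} [Fact p.Prime] {S : Sylow p G}
  {M : Ideal AlgInt} [M.IsPrime] {c e n s : ℕ} {X Y : Finset (IrrCharacter G)}
  {sg : IrrCharacter G → ℤ} {ε : ℤ}

theorem deg_twist {k : ℕ} (hk : k.Coprime (Nat.card G)) (χ : IrrCharacter G) :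
    deg (twist hk χ) = deg χ := congrArg Nat.cast (twist_deg hk χ)

theorem pow_regular {y : G} (hy : ¬ p ∣ orderOf y) (k : ℕ) : ¬ p ∣ orderOf (y ^ k) :=
  fun h => hy (h.trans (orderOf_dvd_of_pow_eq_one
    (by rw [← pow_mul, mul_comm, pow_mul, pow_orderOf_eq_one, one_pow])))

/-- An exceptional character with a degree of its own is rational on the regular elements. -/
theorem Y_rational (hM : IsPModular p M) (B : Blk M S e s X Y sg ε) {θ : IrrCharacter G}
    (hθ : θ ∈ Y) (hX : ∀ χ ∈ X, deg χ ≠ deg θ) {y : G} (hy : ¬ p ∣ orderOf y) :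
    ∃ j : ℤ, (θ : G → ℂ) y = (j : ℂ) := by
  refine CfsgLib.Char.IsCharacter.exists_int_apply (isCharacter_irr θ) fun k hk => ?_
  have hmem : twist hk θ ∈ Y := ((B.mem _).1 ((twist_mem_principal hM hk θ).2
    ((B.mem θ).2 (Or.inr hθ)))).resolve_left fun h => hX _ h (deg_twist hk θ)
  exact (twist_apply hk θ y).symm.trans (B.agree _ hmem θ hθ y hy)

/-- A member of the block alone with its degree is rational. -/
theorem X_rational (hM : IsPModular p M) (B : Blk M S e s X Y sg ε) {χ : IrrCharacter G}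
    (hχ : χ ∈ X) (huniq : ∀ φ : IrrCharacter G, φ ∈ X ∨ φ ∈ Y → deg φ = deg χ → φ = χ) (y : G) :
    ∃ j : ℤ, (χ : G → ℂ) y = (j : ℂ) := by
  refine CfsgLib.Char.IsCharacter.exists_int_apply (isCharacter_irr χ) fun k hk => ?_
  have h1 := huniq _ ((B.mem _).1 ((twist_mem_principal hM hk χ).2
    ((B.mem χ).2 (Or.inl hχ)))) (deg_twist hk χ)
  rw [← twist_apply hk χ y, h1]

/-- An integral value on the centralizer is congruent to the degree. -/
theorem value_modEq (hM : IsPModular p M) (S : Sylow p G) {χ : IrrCharacter G}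
    (hχ : χ ∈ principalBlock M G) {y : G}
    (hy : y ∈ Subgroup.centralizer ((S : Subgroup G) : Set G)) {j : ℤ}
    (hj : (χ : G → ℂ) y = (j : ℂ)) : j ≡ deg χ [ZMOD p] := by
  have hd : (charDegree (χ : G → ℂ) : ℂ) ≠ 0 := Nat.cast_ne_zero.2 (irr_one χ).2.ne'
  have h1 := memLocalIdeal_mul_right (CfsgLib.SmallFaithful.value_cong hM S hχ hy)
    (natCast_mem_localRing (M := M) (charDegree (χ : G → ℂ)))
  rw [hj, sub_mul, div_mul_cancel₀ _ hd, one_mul] at h1
  have h2 : MemLocalIdeal M (((j - deg χ : ℤ)) : ℂ) := by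
    rw [show deg χ = (charDegree (χ : G → ℂ) : ℤ) from rfl]
    push_cast
    exact h1
  exact (Int.modEq_iff_dvd.2 ((memLocalIdeal_intCast_iff hM).1 h2)).symm

theorem value_abs_le (χ : IrrCharacter G) {y : G} {j : ℤ} (hj : (χ : G → ℂ) y = (j : ℂ)) :
    |j| ≤ deg χ := by
  have h1 := CfsgLib.Char.IsCharacter.norm_apply_le (isCharacter_irr χ) y
  rw [hj, (irr_one χ).1, Complex.natCast_re, Complex.norm_intCast] at h1
  have h2 : ((|j| : ℤ) : ℝ) ≤ ((deg χ : ℤ) : ℝ) := by
    rw [show deg χ = (charDegree (χ : G → ℂ) : ℤ) from rfl]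
    push_cast
    exact h1
  exact_mod_cast h2

/-- The multiplicity of the trivial character on a cyclic group of prime order. -/
theorem value_mult (χ : IrrCharacter G) {y : G} {q : ℕ} [Fact q.Prime] (hy : orderOf y = q) {j : ℤ}
    (hj : ∀ k : ℕ, ¬ q ∣ k → (χ : G → ℂ) (y ^ k) = (j : ℂ)) :
    ∃ m : ℕ, deg χ + ((q : ℤ) - 1) * j = q * m := by
  classical
  obtain ⟨m, hm⟩ := sum_over (isCharacter_irr χ) (Subgroup.zpowers y)
  have hcard : Nat.card (Subgroup.zpowers y) = q := by rw [Nat.card_zpowers, hy]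
  refine ⟨m, ?_⟩
  rw [hcard, ← add_sum_erase univ _ (mem_univ (1 : Subgroup.zpowers y)),
    sum_congr rfl (g := fun _ => (j : ℂ)) fun g hg => by
      obtain ⟨k, hk⟩ : ∃ k : ℕ, y ^ k = (g : G) :=
        Submonoid.mem_powers_iff _ _ |>.1 (mem_powers_iff_mem_zpowers.2 g.2)
      rw [← hk]
      refine hj k fun hd => ne_of_mem_erase hg (Subtype.ext ?_)
      obtain ⟨i, rfl⟩ := hd
      rw [← hk, pow_mul, ← hy, pow_orderOf_eq_one, one_pow]
      rfl,
    sum_const, card_erase_of_mem (mem_univ _), card_univ, ← Nat.card_eq_fintype_card, hcard,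
    nsmul_eq_mul, Nat.cast_sub (Fact.out : q.Prime).one_lt.le, Nat.cast_one,
    show (((1 : Subgroup.zpowers y)) : G) = 1 from rfl, apply_one_eq] at hm
  exact_mod_cast hm

/-- An integral value is shared by the other generators. -/
theorem value_pow (χ : IrrCharacter G) {y : G} {q : ℕ} [Fact q.Prime] (hy : orderOf y = q) {j : ℤ}
    (hj : (χ : G → ℂ) y = (j : ℂ)) (k : ℕ) (hk : ¬ q ∣ k) : (χ : G → ℂ) (y ^ k) = (j : ℂ) := by
  obtain ⟨σ, hσ⟩ := CfsgLib.Char.exists_ringEquiv_pow (orderOf_pos y)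
    (t := k) (by rw [hy]; exact ((Fact.out : q.Prime).coprime_iff_not_dvd.2 hk).symm)
  rw [← CfsgLib.Char.IsCharacter.map_ringEquiv_eq_pow (isCharacter_irr χ) σ hσ, hj, map_intCast]

/-- No element of prime order `q` with `d < p (q - 1)` centralizes the Sylow subgroup. -/
theorem no_prime [IsSimpleGroup G] (hM : IsPModular p M) (h : Setup G p S) {χ : IrrCharacter G}
    (hχ : χ ∈ principalBlock M G) (hne : χ ≠ trivIrr G) {q : ℕ} [Fact q.Prime] (hqp : q ≠ p)
    {y : G} (hy : y ∈ Subgroup.centralizer ((S : Subgroup G) : Set G)) (hyo : orderOf y = q)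
    {j : ℤ} (hj : ∀ k : ℕ, ¬ q ∣ k → (χ : G → ℂ) (y ^ k) = (j : ℂ))
    (hd : deg χ < (p : ℤ) * ((q : ℤ) - 1)) : False := by
  have hp : p.Prime := Fact.out
  have hq : q.Prime := Fact.out
  have hj1 : (χ : G → ℂ) y = (j : ℂ) := by
    simpa using hj 1 (fun h1 => hq.one_lt.ne' (Nat.dvd_one.1 h1))
  obtain ⟨m, hm⟩ := value_mult χ hyo hj
  have hne' : j ≠ deg χ := fun e => by
    have h1 := faithful_of_simple h hne y (by rw [hj1, e, apply_one_eq])
    rw [h1, orderOf_one] at hyo
    exact hq.one_lt.ne hyo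
  have hdp : (p : ℤ) ∣ deg χ - j := Int.modEq_iff_dvd.1 (value_modEq hM S hχ hy hj1)
  have hdq : (q : ℤ) ∣ deg χ - j := ⟨(m : ℤ) - j, by linarith⟩
  have hdpq : ((p * q : ℕ) : ℤ) ∣ deg χ - j := by
    refine Int.natCast_dvd.2 ?_
    exact Nat.Coprime.mul_dvd_of_dvd_of_dvd ((Nat.coprime_primes hp hq).2 hqp.symm)
      (Int.natCast_dvd.1 hdp) (Int.natCast_dvd.1 hdq)
  have hle := abs_le.1 (value_abs_le χ hj1)
  have hlt : j < deg χ := lt_of_le_of_ne hle.2 hne'
  have h1 := Int.le_of_dvd (by linarith) hdpq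
  push_cast at h1
  have hm0 : (0 : ℤ) ≤ (q : ℤ) * m := by positivity
  have hq1 : (0 : ℤ) ≤ (q : ℤ) - 1 := by have := hq.two_le; omega
  have h2 := mul_le_mul_of_nonneg_right h1 hq1
  have h3 : (p : ℤ) * q * ((q : ℤ) - 1) ≤ (q : ℤ) * deg χ := by linarith
  have h4 : (p : ℤ) * ((q : ℤ) - 1) * q ≤ deg χ * q := by linarith
  have := le_of_mul_le_mul_right h4 (by exact_mod_cast hq.pos)
  linarith

end CfsgLib.M23Ord
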