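import Cfsg.Agent.M23Ord.DegreeMod
import Cfsg.Agent.M23Ord.Value
import Cfsg.Agent.M23Nse.NormE.Fixed

/-!
# Simple groups of order 10200960: the case of 15456 Sylow subgroups of order 11

The exceptional character of degree 160 has defect zero at five; its value at an element of order
three centralizing the Sylow subgroup of order 11 makes the centralizer of that element too small.
-/

set_option autoImplicit false
set_option linter.style.haveILetI false
set_option linter.unusedSectionVars false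

namespace CfsgLib.M23Ord

open Cfsg Finset CfsgLib.Block CfsgLib.Block.Chr CfsgLib.BrauerPrime CfsgLib.BrauerPairs
open CfsgLib.Cyclic (deg)

universe u

variable {G : Type u} [Group G] [Fintype G]

/-- The sum over the product with an element of order five on whose multiples the character
vanishes. -/
theorem mult_five (χ : IrrCharacter G) {u w : G} {q : ℕ} [Fact q.Prime] (hq5 : q ≠ 5)
    (hu : orderOf u = q) (hw : orderOf w = 5) (huw : Commute u w) {j : ℤ}
    (hj : ∀ k : ℕ, ¬ q ∣ k → (χ : G → ℂ) (u ^ k) = (j : ℂ))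
    (hv : ∀ g : G, 5 ∣ orderOf g → (χ : G → ℂ) g = 0) :
    ∃ m : ℕ, deg χ + ((q : ℤ) - 1) * j = 5 * q * m := by
  classical
  haveI : Fact (Nat.Prime 5) := ⟨by norm_num⟩
  have hco : Nat.Coprime q 5 := (Nat.coprime_primes Fact.out (by norm_num)).2 hq5
  have ho : orderOf (u * w) = q * 5 := by
    rw [huw.orderOf_mul_eq_mul_orderOf_of_coprime (by rw [hu, hw]; exact hco), hu, hw]
  obtain ⟨m, hm⟩ := sum_over (isCharacter_irr χ) (Subgroup.zpowers (u * w))
  refine ⟨m, ?_⟩
  rw [Nat.card_zpowers, ho] at hm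
  have huH : u ∈ Subgroup.zpowers (u * w) := by
    obtain ⟨a, ha⟩ : ∃ a : ℕ, 5 * a ≡ 1 [MOD q] :=
      ⟨(Nat.exists_mul_mod_eq_one_of_coprime hco.symm (Fact.out : q.Prime).one_lt).choose,
        by
          have := (Nat.exists_mul_mod_eq_one_of_coprime hco.symm (Fact.out : q.Prime).one_lt).choose_spec
          rw [Nat.ModEq, Nat.one_mod_eq_one.2 (Fact.out : q.Prime).one_lt.ne']
          exact this.2⟩
    refine ⟨((5 * a : ℕ) : ℤ), ?_⟩
    show (u * w) ^ ((5 * a : ℕ) : ℤ) = u
    rw [zpow_natCast, huw.mul_pow, pow_mul w, ← hw, pow_orderOf_eq_one, one_pow, mul_one, hw]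
    calc u ^ (5 * a) = u ^ 1 := pow_eq_pow_iff_modEq.2 (hu ▸ ha)
      _ = u := pow_one u
  set K := Subgroup.zpowers u
  have hK : Nat.card K = q := by rw [Nat.card_zpowers, hu]
  have hle : K ≤ Subgroup.zpowers (u * w) := Subgroup.zpowers_le.2 huH
  have hsum : ∑ g : Subgroup.zpowers (u * w), (χ : G → ℂ) (g : G) = ∑ g : K, (χ : G → ℂ) (g : G) := by
    rw [← sum_filter_add_sum_filter_not univ
      (fun g : Subgroup.zpowers (u * w) => (g : G) ∈ K) (fun g => (χ : G → ℂ) (g : G)),
      sum_eq_zero (s := univ.filter fun g : Subgroup.zpowers (u * w) => ¬ (g : G) ∈ K) fun g hg => ?_,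
      add_zero]
    · refine sum_bij' (fun g hg => ⟨(g : G), (mem_filter.1 hg).2⟩) (fun g _ => ⟨(g : G), hle g.2⟩)
        (fun g _ => mem_univ _) (fun g _ => mem_filter.2 ⟨mem_univ _, g.2⟩) (fun g _ => rfl)
        (fun g _ => rfl) fun g _ => rfl
    · refine hv _ ?_
      by_contra h5
      refine (mem_filter.1 hg).2 ?_
      have hd : orderOf (g : G) ∣ q * 5 := by
        exact (Subgroup.orderOf_dvd_natCard _ g.2).trans (by rw [Nat.card_zpowers, ho])
      have hdq : orderOf (g : G) ∣ q :=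
        ((show Nat.Prime 5 by norm_num).coprime_iff_not_dvd.2 h5).symm.dvd_of_dvd_mul_right hd
      -- the cyclic group has one subgroup of order `q`
      obtain ⟨i, hi⟩ : ∃ i : ℕ, (u * w) ^ i = (g : G) :=
        Submonoid.mem_powers_iff _ _ |>.1 (mem_powers_iff_mem_zpowers.2 g.2)
      have h1 : (u * w) ^ (i * q) = 1 := by
        rw [pow_mul, hi]; exact orderOf_dvd_iff_pow_eq_one.1 hdq
      have h2 : q * 5 ∣ i * q := ho ▸ orderOf_dvd_iff_pow_eq_one.2 h1
      have h3 : 5 ∣ i := by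
        rw [mul_comm i q] at h2
        exact Nat.dvd_of_mul_dvd_mul_left (Fact.out : q.Prime).pos h2
      obtain ⟨i', rfl⟩ := h3
      rw [← hi, huw.mul_pow, pow_mul w, ← hw, pow_orderOf_eq_one, one_pow, mul_one]
      exact Subgroup.pow_mem _ (Subgroup.mem_zpowers u) _
  rw [hsum, ← add_sum_erase univ _ (mem_univ (1 : K)),
    sum_congr rfl (g := fun _ => (j : ℂ)) fun g hg => by
      obtain ⟨k, hk⟩ : ∃ k : ℕ, u ^ k = (g : G) :=
        Submonoid.mem_powers_iff _ _ |>.1 (mem_powers_iff_mem_zpowers.2 g.2)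
      rw [← hk]
      refine hj k fun hd => ne_of_mem_erase hg (Subtype.ext ?_)
      obtain ⟨i, rfl⟩ := hd
      rw [← hk, pow_mul, ← hu, pow_orderOf_eq_one, one_pow]
      rfl,
    sum_const, card_erase_of_mem (mem_univ _), card_univ, ← Nat.card_eq_fintype_card, hK,
    nsmul_eq_mul, Nat.cast_sub (Fact.out : q.Prime).one_lt.le, Nat.cast_one,
    show (((1 : K)) : G) = 1 from rfl, apply_one_eq] at hm
  have h' : ((deg χ + ((q : ℤ) - 1) * j : ℤ) : ℂ) = ((5 * q * m : ℤ) : ℂ) := by
    push_cast at hm ⊢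
    linear_combination hm
  exact_mod_cast h'

section Complement

variable [Fact (Nat.Prime 11)] {S : Sylow 11 G}

/-- The complement of the Sylow subgroup in its centralizer. -/
theorem complement (h : Setup G 11 S)
    (hC : Nat.card (Subgroup.centralizer ((S : Subgroup G) : Set G)) = 11 * 12) :
    ∃ Q : Subgroup G, Nat.card Q = 12 ∧ Q ≤ Subgroup.centralizer ((S : Subgroup G) : Set G) ∧
      ∀ g ∈ Subgroup.normalizer ((S : Subgroup G) : Set G), ∀ u ∈ Q, g * u * g⁻¹ ∈ Q := by
  set C := Subgroup.centralizer ((S : Subgroup G) : Set G) with hCdef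
  set P := (S : Subgroup G).subgroupOf C
  have hP : Nat.card P = 11 := by
    rw [Nat.card_congr (Subgroup.subgroupOfEquivOfLe (le_centralizer h)).toEquiv]; exact h.cardP
  have hcomm : ∀ a : P, ∀ b : C, Commute (a : C) b := fun a b =>
    Subtype.ext (Subgroup.mem_centralizer_iff.1 b.2 ((a : C) : G) a.2)
  haveI : P.Normal := ⟨fun a ha b => by rw [← (hcomm ⟨a, ha⟩ b).eq, mul_inv_cancel_right]; exact ha⟩
  have hidx : P.index = 12 := by
    have h1 := P.card_mul_index
    rw [hP, hC] at h1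
    omega
  obtain ⟨Q, hQ⟩ := Subgroup.exists_right_complement'_of_coprime (N := P) (by rw [hP, hidx]; norm_num)
  have hQc : Nat.card Q = 12 := by
    have h1 := hQ.card_mul_card
    rw [hP, hC] at h1
    omega
  haveI : Q.Normal := by
    refine Subgroup.normalizer_eq_top_iff.1 (top_le_iff.1 ?_)
    rw [← hQ.sup_eq_top]
    exact sup_le (fun a ha => Subgroup.centralizer_le_normalizer _
      (Subgroup.mem_centralizer_iff.2 fun b _ => (hcomm ⟨a, ha⟩ b).eq.symm)) Subgroup.le_normalizer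
  have hmem : ∀ u : C, u ^ 12 = 1 → u ∈ Q := fun u hu => by
    rw [← QuotientGroup.eq_one_iff (N := Q), ← orderOf_eq_one_iff]
    refine Nat.eq_one_of_dvd_coprimes (show Nat.Coprime 11 12 by norm_num) ?_
      ((orderOf_map_dvd (QuotientGroup.mk' Q) u).trans (orderOf_dvd_of_pow_eq_one hu))
    have h1 := orderOf_dvd_natCard (u : C ⧸ Q)
    have h2 := Q.card_mul_index
    rw [hQc, hC] at h2
    rwa [show Nat.card (C ⧸ Q) = 11 by rw [← Subgroup.index_eq_card]; omega] at h1
  refine ⟨Q.map C.subtype, by rw [Subgroup.card_map_of_injective C.subtype_injective, hQc],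
    Subgroup.map_subtype_le _, fun g hg u hu => ?_⟩
  obtain ⟨v, hv, rfl⟩ := hu
  have hgv : g * (v : G) * g⁻¹ ∈ C := by
    refine Subgroup.mem_centralizer_iff.2 fun a ha => ?_
    have h1 : g⁻¹ * a * g ∈ (S : Subgroup G) := by
      have := (Subgroup.mem_normalizer_iff.1 hg (g⁻¹ * a * g)).2 (by rw [show g * (g⁻¹ * a * g) * g⁻¹ = a by group]; exact ha)
      exact this
    have h2 := Subgroup.mem_centralizer_iff.1 v.2 _ h1
    calc a * (g * (v : G) * g⁻¹) = g * (g⁻¹ * a * g * (v : G)) * g⁻¹ := by group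
      _ = g * ((v : G) * (g⁻¹ * a * g)) * g⁻¹ := by rw [h2]
      _ = g * (v : G) * g⁻¹ * a := by group
  have hv12 : (v : G) ^ 12 = 1 := by
    have := Subgroup.orderOf_dvd_natCard Q hv
    rw [hQc, ← Subgroup.orderOf_coe] at this
    exact orderOf_dvd_iff_pow_eq_one.1 this
  exact ⟨⟨_, hgv⟩, hmem _ (Subtype.ext (by
    rw [SubgroupClass.coe_pow]; simp [conj_pow, hv12])), rfl⟩

end Complement

/-- An element of order five normalizing a group of order twelve centralizes it. -/
theorem five_centralizes {w : G} (hw : orderOf w = 5) {Q : Subgroup G} (hQ : Nat.card Q = 12)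
    (hn : ∀ u ∈ Q, w * u * w⁻¹ ∈ Q) : ∀ u ∈ Q, Commute u w := by
  classical
  haveI : Fact (Nat.Prime 5) := ⟨by norm_num⟩
  haveI : Fact (Nat.Prime 3) := ⟨by norm_num⟩
  have hw5 : w ^ 5 = 1 := hw ▸ pow_orderOf_eq_one w
  have hmod := CfsgLib.M23Nse.cent_mod (q := 5) hw5 Q hn
  set A := Q ⊓ Subgroup.centralizer ({w} : Set G) with hAdef
  have hA : Nat.card A ∣ 12 := hQ ▸ Subgroup.card_dvd_of_le inf_le_left
  have h12 : Nat.card A = 12 := by
    rw [hQ] at hmod
    have hle := Nat.le_of_dvd (by norm_num) hA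
    by_contra hne
    have hA2 : Nat.card A = 2 := by
      interval_cases hc : Nat.card A <;> first | omega | (norm_num at hA)
    -- two elements fixed and ten moved: count those of order three
    set Ω := {u : Q // orderOf (u : G) = 3}
    let σ : Equiv.Perm Ω := Equiv.ofBijective
      (fun u => ⟨⟨w * (u.1 : G) * w⁻¹, hn _ u.1.2⟩, by
        show orderOf (w * (u.1 : G) * w⁻¹) = 3
        rw [← MulAut.conj_apply, MulEquiv.orderOf_eq]; exact u.2⟩)
      (Finite.injective_iff_bijective.1 fun a b hab => by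
        have h1 := congrArg (fun u : Ω => ((u.1 : Q) : G)) hab
        simp only [mul_right_cancel_iff, mul_left_cancel_iff] at h1
        exact Subtype.ext (Subtype.ext h1))
    obtain ⟨⟨y, hyQ⟩, hyo⟩ := exists_prime_orderOf_dvd_card' (G := Q) 3 (by rw [hQ]; norm_num)
    rw [Subgroup.orderOf_mk] at hyo
    have hσn : ∀ (k : ℕ) (u : Ω), ((((σ ^ k) u).1 : Q) : G) = w ^ k * (u.1 : G) * (w ^ k)⁻¹ := by
      intro k
      induction k with
      | zero => intro u; simp
      | succ k ih =>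
        intro u
        rw [pow_succ, Equiv.Perm.mul_apply, ih, pow_succ]
        show w ^ k * (w * (u.1 : G) * w⁻¹) * (w ^ k)⁻¹ = _
        group
    have hfix := CfsgLib.M23Nse.fixed_mod (q := 5) σ (Equiv.ext fun u => Subtype.ext (Subtype.ext (by
      rw [hσn, hw5]; simp)))
    haveI : IsEmpty {u : Ω // σ u = u} := ⟨fun ⟨u, hu⟩ => by
      have h1 : (u.1 : G) ∈ A := ⟨u.1.2, Subgroup.mem_centralizer_singleton_iff.2
        (mul_inv_eq_iff_eq_mul.1 (congrArg (fun v : Ω => ((v.1 : Q) : G)) hu)).symm⟩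
      have h2 := Subgroup.orderOf_dvd_natCard A h1
      rw [u.2, hA2] at h2
      norm_num at h2⟩
    rw [Nat.card_of_isEmpty] at hfix
    -- the number of elements of order three
    have hcount : Nat.card Ω = 2 * Nat.card (Sylow 3 Q) := by
      haveI := Fintype.ofFinite Ω
      haveI := Fintype.ofFinite (Sylow 3 Q)
      have hR : ∀ R : Sylow 3 Q, Nat.card (R : Subgroup Q) = 3 := fun R => by
        simpa using CfsgLib.SmallSimple.card_sylow_eq R (k := 1) (m := 4) (by rw [hQ]; norm_num) (by norm_num)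
      have e : (Σ R : Sylow 3 Q, {u : (R : Subgroup Q) // u ≠ 1}) ≃ Ω := Equiv.ofBijective
        (fun p => ⟨(p.2.1 : Q), by
          rw [Subgroup.orderOf_coe, Subgroup.orderOf_coe]
          refine ((Nat.dvd_prime (by norm_num : Nat.Prime 3)).1 ((orderOf_dvd_natCard p.2.1).trans (hR p.1).dvd)).resolve_left ?_
          exact fun h1 => p.2.2 (orderOf_eq_one_iff.1 h1)⟩) ⟨by
        rintro ⟨R, ⟨a, ha⟩, ha1⟩ ⟨R', ⟨b, hb⟩, hb1⟩ he
        have hab : a = b := congrArg Subtype.val he
        subst hab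
        have hz : ∀ T : Sylow 3 Q, a ∈ (T : Subgroup Q) → (T : Subgroup Q) = Subgroup.zpowers a := fun T hT => by
          refine (Subgroup.eq_of_le_of_card_ge (Subgroup.zpowers_le.2 hT) ?_).symm
          rw [hR, Nat.card_zpowers]
          refine Nat.le_of_eq (((Nat.dvd_prime (by norm_num : Nat.Prime 3)).1
            (hR T ▸ Subgroup.orderOf_dvd_natCard _ hT)).resolve_left fun h1 => ha1 ?_).symm
          exact Subtype.ext (orderOf_eq_one_iff.1 h1)
        obtain rfl : R = R' := Sylow.ext ((hz R ha).trans (hz R' hb).symm)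
        rfl, fun u => by
        have ho : orderOf (u.1 : Q) = 3 := by rw [← Subgroup.orderOf_coe]; exact u.2
        obtain ⟨R, hRle⟩ := (IsPGroup.of_card (n := 1) (by rw [Nat.card_zpowers, ho, pow_one]) :
          IsPGroup 3 (Subgroup.zpowers (u.1 : Q))).exists_le_sylow
        exact ⟨⟨R, ⟨u.1, hRle (Subgroup.mem_zpowers _)⟩, fun h1 => by
          have h2 : (u.1 : Q) = 1 := congrArg Subtype.val h1
          rw [h2, orderOf_one] at ho
          norm_num at ho⟩, rfl⟩⟩
      have hfib : ∀ R : Sylow 3 Q, Nat.card {u : (R : Subgroup Q) // u ≠ 1} = 2 := fun R => by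
        haveI := Fintype.ofFinite (R : Subgroup Q)
        rw [Nat.card_eq_fintype_card, Fintype.card_subtype_compl, Fintype.card_subtype_eq,
          ← Nat.card_eq_fintype_card, hR]
      rw [← Nat.card_congr e, Nat.card_sigma, sum_congr rfl fun R _ => hfib R, sum_const, card_univ,
        smul_eq_mul, ← Nat.card_eq_fintype_card, mul_comm]
    have hn3 : Nat.card (Sylow 3 Q) ∣ 4 := by
      obtain ⟨R⟩ : Nonempty (Sylow 3 Q) := inferInstance
      refine (Sylow.card_dvd_index R).trans ?_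
      have h1 := (R : Subgroup Q).card_mul_index
      rw [show Nat.card (R : Subgroup Q) = 3 by
        simpa using CfsgLib.SmallSimple.card_sylow_eq R (k := 1) (m := 4) (by rw [hQ]; norm_num) (by norm_num), hQ] at h1
      exact ⟨1, by omega⟩
    have := Nat.le_of_dvd (by norm_num) hn3
    have : 0 < Nat.card (Sylow 3 Q) := Nat.card_pos
    omega
  intro u hu
  have hAQ : A = Q := Subgroup.eq_of_le_of_card_ge inf_le_left (by rw [h12, hQ])
  exact Subgroup.mem_centralizer_singleton_iff.1 (hAQ.ge hu).2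

/-- In a group of order twelve, either an involution commutes with a given element of order three,
or three conjugate involutions form a group with the identity. -/
theorem twelve {Q : Subgroup G} (hQ : Nat.card Q = 12) {y : G} (hyQ : y ∈ Q) (hy : orderOf y = 3) :
    (∃ t ∈ Q, orderOf t = 2 ∧ Commute t y) ∨
      ∃ R : Subgroup G, R ≤ Q ∧ Nat.card R = 4 ∧
        ∃ r ∈ R, orderOf r = 2 ∧ ∀ a ∈ R, a ≠ 1 → IsConj r a := by
  classical
  haveI : Fact (Nat.Prime 2) := ⟨Nat.prime_two⟩
  by_contra hno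
  rw [not_or] at hno
  obtain ⟨hno, hno'⟩ := hno
  push Not at hno
  obtain ⟨R⟩ : Nonempty (Sylow 2 Q) := inferInstance
  have hR : Nat.card (R : Subgroup Q) = 4 := by
    simpa using CfsgLib.SmallSimple.card_sylow_eq R (k := 2) (m := 3) (by rw [hQ]; norm_num) (by norm_num)
  have hRidx : (R : Subgroup Q).index = 3 := by
    have := (R : Subgroup Q).card_mul_index
    rw [hR, hQ] at this
    omega
  -- the kernel on the cosets
  set K := (R : Subgroup Q).normalCore
  have hKR : K ≤ (R : Subgroup Q) := Subgroup.normalCore_le _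
  have hKidx : K.index ∣ 6 := by
    rw [show K = (MulAction.toPermHom Q (Q ⧸ (R : Subgroup Q))).ker from Subgroup.normalCore_eq_ker _,
      Subgroup.index_ker]
    have := Subgroup.card_subgroup_dvd_card (MulAction.toPermHom Q (Q ⧸ (R : Subgroup Q))).range
    rwa [Nat.card_perm, ← Subgroup.index_eq_card, hRidx] at this
  have hK4 : Nat.card K ∣ 4 := hR ▸ Subgroup.card_dvd_of_le hKR
  have hK2 : Nat.card K = 2 ∨ Nat.card K = 4 := by
    have h1 := K.card_mul_index
    rw [hQ] at h1
    have := Nat.le_of_dvd (by norm_num) hK4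
    have := Nat.le_of_dvd (by norm_num) hKidx
    interval_cases hc : Nat.card K <;> simp_all <;> omega
  set y' : Q := ⟨y, hyQ⟩
  have hy' : orderOf y' = 3 := by rw [← hy, ← Subgroup.orderOf_coe]
  rcases hK2 with hK | hK
  · obtain ⟨⟨k, hk⟩, hko⟩ := exists_prime_orderOf_dvd_card' (G := K) 2 (by rw [hK])
    rw [Subgroup.orderOf_mk] at hko
    have hk1 : k ≠ 1 := fun e => by rw [e, orderOf_one] at hko; norm_num at hko
    refine hno k k.2 (by rw [Subgroup.orderOf_coe, hko]) ?_
    have hconj : y' * k * y'⁻¹ ∈ K := (inferInstance : K.Normal).conj_mem k hk y'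
    have hKz : K = Subgroup.zpowers k := (Subgroup.eq_of_le_of_card_ge (Subgroup.zpowers_le.2 hk)
      (by rw [hK, Nat.card_zpowers, hko])).symm
    rw [hKz, ← mem_powers_iff_mem_zpowers, Submonoid.mem_powers_iff] at hconj
    obtain ⟨i, hi⟩ := hconj
    have hi' : y' * k * y'⁻¹ = k := by
      rw [← pow_mod_orderOf, hko] at hi
      rcases Nat.mod_two_eq_zero_or_one i with e | e <;> rw [e] at hi
      · rw [pow_zero] at hi
        exact absurd (mul_eq_left.1 (mul_inv_eq_one.1 hi.symm)) hk1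
      · rw [← hi, pow_one]
    exact (congrArg Subtype.val (mul_inv_eq_iff_eq_mul.1 hi')).symm
  · have hKR' : K = (R : Subgroup Q) := Subgroup.eq_of_le_of_card_ge hKR (by rw [hK, hR])
    haveI hRn : (R : Subgroup Q).Normal := hKR' ▸ (inferInstance : K.Normal)
    -- no nontrivial element is fixed by `y`
    have hnofix : ∀ a ∈ (R : Subgroup Q), a ≠ 1 → y' * a ≠ a * y' := by
      intro a ha ha1 hc
      have ho : orderOf a ∣ 4 := hR ▸ Subgroup.orderOf_dvd_natCard _ ha
      obtain ⟨b, hb, hbe⟩ := (Nat.dvd_prime_pow Nat.prime_two).1 (show orderOf a ∣ 2 ^ 2 from ho)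
      have hc' : Commute (a : G) y := (congrArg Subtype.val hc).symm
      interval_cases b
      · rw [pow_zero] at hbe; exact ha1 (orderOf_eq_one_iff.1 hbe)
      · exact hno a a.2 (by rw [Subgroup.orderOf_coe, hbe]; norm_num) hc'
      · refine hno ((a : G) ^ 2) (pow_mem a.2 2) ?_ (hc'.pow_left 2)
        rw [orderOf_pow, Subgroup.orderOf_coe, hbe]
        norm_num
    obtain ⟨⟨r, hr⟩, hro⟩ := exists_prime_orderOf_dvd_card' (G := (R : Subgroup Q)) 2 (by rw [hR]; norm_num)
    rw [Subgroup.orderOf_mk] at hro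
    have hr1 : r ≠ 1 := fun e => by rw [e, orderOf_one] at hro; norm_num at hro
    set a1 := y' * r * y'⁻¹ with ha1def
    set a2 := y' * a1 * y'⁻¹ with ha2def
    have h1R : a1 ∈ (R : Subgroup Q) := hRn.conj_mem r hr y'
    have h2R : a2 ∈ (R : Subgroup Q) := hRn.conj_mem a1 h1R y'
    have hy3 : y' * y' * y' = 1 := by
      rw [← pow_orderOf_eq_one y', hy', pow_succ, pow_two]
    have ha3 : y' * a2 * y'⁻¹ = r := by
      rw [ha2def, ha1def]
      calc y' * (y' * (y' * r * y'⁻¹) * y'⁻¹) * y'⁻¹ = (y' * y' * y') * r * (y' * y' * y')⁻¹ := by group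
        _ = r := by rw [hy3]; group
    have ne01 : r ≠ a1 := fun e => hnofix r hr hr1 (mul_inv_eq_iff_eq_mul.1 (ha1def.symm.trans e.symm))
    have hne1 : a1 ≠ 1 := fun e => hr1 (by
      rw [ha1def, mul_inv_eq_one] at e
      exact mul_eq_left.1 e)
    have ne12 : a1 ≠ a2 := fun e => hnofix a1 h1R hne1 (mul_inv_eq_iff_eq_mul.1 (ha2def.symm.trans e.symm))
    have hne2 : a2 ≠ 1 := fun e => hne1 (by
      rw [ha2def, mul_inv_eq_one] at e
      exact mul_eq_left.1 e)
    have ne20 : r ≠ a2 := fun e => ne01 ((congrArg (fun z => y' * z * y'⁻¹) e).trans ha3).symm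
    refine hno' ⟨(R : Subgroup Q).map Q.subtype, Subgroup.map_subtype_le _,
      by rw [Subgroup.card_map_of_injective Q.subtype_injective, hR], r, ⟨r, hr, rfl⟩,
      by rw [Subgroup.orderOf_coe, hro], ?_⟩
    rintro _ ⟨a, ha, rfl⟩ hane
    haveI := Fintype.ofFinite (R : Subgroup Q)
    have hall : a = r ∨ a = a1 ∨ a = a2 := by
      by_contra hh
      push Not at hh
      have hcard : ({⟨1, one_mem _⟩, ⟨r, hr⟩, ⟨a1, h1R⟩, ⟨a2, h2R⟩, ⟨a, ha⟩} : Finset (R : Subgroup Q)).card ≤ 4 := by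
        rw [← hR, Nat.card_eq_fintype_card]; exact card_le_univ _
      have ha1' : a ≠ 1 := fun e => hane (by rw [e]; rfl)
      rw [card_insert_of_notMem, card_insert_of_notMem, card_insert_of_notMem, card_insert_of_notMem,
        card_singleton] at hcard
      · omega
      all_goals simp only [mem_insert, mem_singleton, Subtype.mk.injEq, not_or]
      · exact hh.2.2.symm
      · exact ⟨ne12, hh.2.1.symm⟩
      · exact ⟨ne01, ne20, hh.1.symm⟩
      · exact ⟨hr1.symm, hne1.symm, hne2.symm, ha1'.symm⟩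
    show IsConj (r : G) (a : G)
    rcases hall with rfl | rfl | rfl
    · exact IsConj.refl _
    · exact isConj_iff.2 ⟨y, rfl⟩
    · exact isConj_iff.2 ⟨y * y, by
        simp only [y', ha2def, ha1def, Subgroup.coe_mul, Subgroup.coe_inv]; group⟩

theorem final_count {C N n : ℕ} (hC : C ∣ 13860) (h9 : 9 ∣ C) (hN : N ∣ 660) (h330 : 330 ∣ N)
    (hmul : n * N = C) (hn : n % 11 = 1) : False := by
  obtain ⟨k, rfl⟩ := h330
  subst hmul
  obtain ⟨l, hl⟩ := hC
  have hk : k ∣ 2 := Nat.dvd_of_mul_dvd_mul_left (show 0 < 330 by norm_num) hN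
  rcases (Nat.dvd_prime Nat.prime_two).1 hk with rfl | rfl
  · have h1 : n * l = 42 := by linarith
    have hle := Nat.le_of_dvd (by norm_num) (show n ∣ 42 from ⟨l, h1.symm⟩)
    interval_cases n <;> omega
  · have h1 : n * l = 21 := by linarith
    have hle := Nat.le_of_dvd (by norm_num) (show n ∣ 21 from ⟨l, h1.symm⟩)
    interval_cases n <;> omega

section Main

variable [IsSimpleGroup G] [Fact (Nat.Prime 11)] {M : Ideal AlgInt} [M.IsPrime] {S : Sylow 11 G}
  {X Y : Finset (IrrCharacter G)} {sg : IrrCharacter G → ℤ} {ε : ℤ} {s : ℕ}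

/-- **There are not 15456 Sylow subgroups of order 11.** -/
theorem no_five (hcard : Nat.card G = 10200960) (hM : IsPModular 11 M) (h : Setup G 11 S)
    (num : Num S 12 5 1405) (B : Blk M S 5 s X Y sg ε) : False := by
  classical
  haveI : Fact (Nat.Prime 5) := ⟨by norm_num⟩
  haveI : Fact (Nat.Prime 3) := ⟨by norm_num⟩
  haveI : Fact (Nat.Prime 2) := ⟨Nat.prime_two⟩
  obtain ⟨θ, hθ, hθd⟩ := exists_extra hcard hM h num (by norm_num) B [160] 23 [0] (by norm_num)
    (by decide +kernel) (by decide +kernel)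
  haveI : Fact (Nat.Prime 23) := ⟨by norm_num⟩
  replace hθd : charDegree (θ : G → ℂ) = 160 := by simpa using hθd
  have hdeg : deg θ = 160 := by show (charDegree (θ : G → ℂ) : ℤ) = 160; rw [hθd]; rfl
  have hnX : ∀ φ ∈ X, deg φ ≠ deg θ := fun φ hφ hh => by
    have h1 := B.congX φ hφ
    rw [hh, hdeg] at h1
    rcases B.sign φ hφ with h2 | h2 <;> rw [h2] at h1 <;> exact absurd h1 (by decide)
  have hY : θ ∈ Y := hθ.resolve_left fun hX => hnX θ hX rfl
  have hθne : θ ≠ trivIrr G := fun e => B.disj _ B.triv (e ▸ hY)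
  have hmem : θ ∈ principalBlock M G := (B.mem θ).2 (Or.inr hY)
  have hv : ∀ g : G, 5 ∣ orderOf g → (θ : G → ℂ) g = 0 := fun g hg =>
    eq_zero_of_defectZero (p := 5) (by norm_num) θ (by
      rw [CfsgLib.FixedPoints.factorization_eq_one (by norm_num) Nat.card_pos.ne'
        (by rw [hcard]; norm_num) (by rw [hcard]; norm_num), hθd, pow_one]
      norm_num) hg
  obtain ⟨Q, hQ, hQC, hQn⟩ := complement h num.cardC
  set NP := Subgroup.normalizer ((S : Subgroup G) : Set G) with hNP
  obtain ⟨⟨w, hwN⟩, hwo⟩ := exists_prime_orderOf_dvd_card' (G := NP) 5 (by rw [num.cardN]; norm_num)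
  rw [Subgroup.orderOf_mk] at hwo
  have hwc := five_centralizes hwo hQ (fun u hu => hQn w hwN u hu)
  -- values at elements of order two and three
  have hval : ∀ u ∈ Q, ∀ q : ℕ, [Fact q.Prime] → q ≠ 5 → q ≠ 11 → orderOf u = q →
      ∃ j : ℤ, (θ : G → ℂ) u = (j : ℂ) ∧ j ≡ 160 [ZMOD 11] ∧ |j| ≤ 160 ∧ j ≠ 160 ∧
        ∃ m : ℕ, 160 + ((q : ℤ) - 1) * j = 5 * q * m := by
    intro u hu q _ hq5 hq11 hq
    have hreg : ¬ 11 ∣ orderOf u := fun hd => by
      rw [hq] at hd
      exact hq11 ((Nat.prime_dvd_prime_iff_eq (by norm_num) Fact.out).1 hd).symm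
    obtain ⟨j, hj⟩ := Y_rational hM B hY hnX hreg
    refine ⟨j, hj, hdeg ▸ value_modEq hM S hmem (hQC hu) hj, hdeg ▸ value_abs_le θ hj, fun e => ?_, ?_⟩
    · have h1 := faithful_of_simple h hθne u (by rw [hj, e, apply_one_eq, hdeg])
      rw [h1, orderOf_one] at hq
      exact (Fact.out : q.Prime).one_lt.ne hq
    · exact hdeg ▸ mult_five θ hq5 hq hwo (hwc u hu) (value_pow θ hq hj) hv
  obtain ⟨⟨y, hyQ⟩, hyo⟩ := exists_prime_orderOf_dvd_card' (G := Q) 3 (by rw [hQ]; norm_num)
  rw [Subgroup.orderOf_mk] at hyo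
  obtain ⟨jy, hjy, hjy1, hjy2, hjy3, my, hjy4⟩ := hval y hyQ 3 (by norm_num) (by norm_num) hyo
  have hjy5 : jy = -5 := by
    rw [abs_le] at hjy2
    rw [Int.ModEq] at hjy1
    push_cast at hjy4
    omega
  rcases twelve hQ hyQ hyo with ⟨t, htQ, hto, hty⟩ | ⟨R, hRQ, hR, r, hrR, hro, hconj⟩
  swap
  · obtain ⟨v, hv', hv1, hv2, hv3, mv, hv4⟩ := hval r (hRQ hrR) 2 (by norm_num) (by norm_num) hro
    obtain ⟨m, hm⟩ := sum_over (isCharacter_irr θ) R
    rw [hR, ← add_sum_erase univ _ (mem_univ (1 : R)),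
      sum_congr rfl (g := fun _ => (v : ℂ)) fun a ha => by
        obtain ⟨g, hg⟩ := isConj_iff.1 (hconj a a.2 fun e => ne_of_mem_erase ha (Subtype.ext e))
        rw [← hg, CfsgLib.Char.IsIrrCharacter.isClassFunction θ.2, hv'],
      sum_const, card_erase_of_mem (mem_univ _), card_univ, ← Nat.card_eq_fintype_card, hR,
      nsmul_eq_mul, show (((1 : R)) : G) = 1 from rfl, apply_one_eq, hdeg] at hm
    have h2 : (160 : ℤ) + 3 * v = 4 * m := by
      have h' : (((160 : ℤ) + 3 * v : ℤ) : ℂ) = ((4 * m : ℤ) : ℂ) := by push_cast at hm ⊢; linear_combination hm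
      exact_mod_cast h'
    rw [abs_le] at hv2
    rw [Int.ModEq] at hv1
    push_cast at hv4
    omega
  -- the centralizer of `y`
  set Cy := Subgroup.centralizer ({y} : Set G) with hCy
  have hyC : y ∈ Subgroup.centralizer ((S : Subgroup G) : Set G) := hQC hyQ
  have h32 : 32 ∣ Cy.index := by
    have h1 := CfsgLib.Char.IsIrrCharacter.isIntegral_class_mul_div θ.2 y
    rw [hjy, hjy5, (irr_one θ).1, hθd] at h1
    have h2 : IsIntegral ℤ ((((Cy.index : ℕ) : ℚ) * (-5) / 160 : ℚ) : ℂ) := by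
      push_cast at h1 ⊢; exact h1
    obtain ⟨z, hz⟩ := exists_int_of_isIntegral_ratCast h2
    have hz : (Cy.index : ℚ) * (-5) / 160 = (z : ℚ) := by exact_mod_cast hz
    have h3 : (Cy.index : ℚ) = -32 * (z : ℚ) := by linarith
    have h4 : (Cy.index : ℤ) = -32 * z := by exact_mod_cast h3
    exact Int.natCast_dvd_natCast.1 ⟨-z, by rw [h4]; ring⟩
  have h318 : Nat.card Cy ∣ 318780 := by
    obtain ⟨k, hk⟩ := h32
    refine ⟨k, Nat.eq_of_mul_eq_mul_left (show 0 < 32 by norm_num) ?_⟩
    calc 32 * 318780 = Nat.card G := by rw [hcard]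
      _ = Nat.card Cy * Cy.index := (Cy.card_mul_index).symm
      _ = _ := by rw [hk]; ring
  have h23 : ¬ 23 ∣ Nat.card Cy := by
    intro hd
    obtain ⟨⟨z, hz⟩, hzo⟩ := exists_prime_orderOf_dvd_card' 23 hd
    rw [Subgroup.orderOf_mk] at hzo
    obtain ⟨T, hT⟩ := (IsPGroup.of_card (n := 1) (by rw [Nat.card_zpowers, hzo, pow_one]) :
      IsPGroup 23 (Subgroup.zpowers z)).exists_le_sylow
    have h23' : Setup G 23 T := setup hcard T (m := 443520) (by norm_num) (by norm_num)
    have hz1 : z ≠ 1 := fun e => by rw [e, orderOf_one] at hzo; norm_num at hzo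
    have h1 : y ∈ Subgroup.centralizer ({z} : Set G) :=
      Subgroup.mem_centralizer_singleton_iff.2 (Subgroup.mem_centralizer_singleton_iff.1 hz).symm
    rw [centralizer_singleton h23' (hT (Subgroup.mem_zpowers z)) hz1,
      (sylow_twentyThree hcard T).2.1] at h1
    have h2 := Subgroup.orderOf_dvd_natCard _ h1
    rw [hyo, show Nat.card (T : Subgroup G) = 23 from h23'.cardP] at h2
    norm_num at h2
  have h13860 : Nat.card Cy ∣ 13860 :=
    (((show Nat.Prime 23 by norm_num).coprime_iff_not_dvd.2 h23).symm).dvd_of_dvd_mul_left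
      (show Nat.card Cy ∣ 23 * 13860 from h318)
  -- its Sylow subgroup of order nine
  have h9 : 9 ∣ Nat.card Cy := by
    obtain ⟨T, hT⟩ := (IsPGroup.of_card (n := 1) (by rw [Nat.card_zpowers, hyo, pow_one]) :
      IsPGroup 3 (Subgroup.zpowers y)).exists_le_sylow
    have hTc : Nat.card (T : Subgroup G) = 9 := by
      simpa using CfsgLib.SmallSimple.card_sylow_eq T (k := 2) (m := 1133440) (by rw [hcard]; norm_num) (by norm_num)
    have hcm := IsPGroup.isMulCommutative_of_card_eq_prime_sq (p := 3) (G := (T : Subgroup G)) (by rw [hTc]; norm_num)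
    have hle : (T : Subgroup G) ≤ Cy := fun a ha => Subgroup.mem_centralizer_singleton_iff.2
      (congrArg Subtype.val (hcm.is_comm.comm ⟨a, ha⟩ ⟨y, hT (Subgroup.mem_zpowers y)⟩))
    exact hTc ▸ Subgroup.card_dvd_of_le hle
  -- the Sylow subgroup of order eleven inside it
  have hSle : (S : Subgroup G) ≤ Cy := fun a ha => Subgroup.mem_centralizer_singleton_iff.2
    (Subgroup.mem_centralizer_iff.1 hyC a ha)
  set P' : Sylow 11 Cy := S.subtype hSle
  set Ny := Subgroup.normalizer ((P' : Subgroup Cy) : Set Cy) with hNy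
  have hNy' : Ny = NP.subgroupOf Cy := by
    rw [hNy, Sylow.coe_subtype, ← Subgroup.subgroupOf_normalizer_eq hSle]
  have hNyd : Nat.card Ny ∣ 660 := by
    rw [hNy']
    have h1 : NP.subgroupOf Cy = (NP ⊓ Cy).subgroupOf Cy := Subgroup.inf_subgroupOf_right NP Cy |>.symm
    rw [h1, Nat.card_congr (Subgroup.subgroupOfEquivOfLe inf_le_right).toEquiv]
    have := Subgroup.card_dvd_of_le (inf_le_left : NP ⊓ Cy ≤ NP)
    rwa [hNP, num.cardN] at this
  have hmemN : ∀ g : G, g ∈ NP → g ∈ Cy → orderOf g ∣ Nat.card Ny := by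
    intro g hg hgC
    have h1 : (⟨g, hgC⟩ : Cy) ∈ Ny := by rw [hNy']; exact hg
    have h2 := Subgroup.orderOf_dvd_natCard Ny h1
    rwa [← Subgroup.orderOf_coe] at h2
  have hCN := Subgroup.centralizer_le_normalizer ((S : Subgroup G) : Set G)
  have hN3 : 3 ∣ Nat.card Ny := hyo ▸ hmemN y (hCN hyC) (Subgroup.mem_centralizer_singleton_iff.2 rfl)
  have hN2 : 2 ∣ Nat.card Ny := hto ▸ hmemN t (hCN (hQC htQ)) (Subgroup.mem_centralizer_singleton_iff.2 hty.eq)
  have hN5 : 5 ∣ Nat.card Ny := hwo ▸ hmemN w hwN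
    (Subgroup.mem_centralizer_singleton_iff.2 (hwc y hyQ).symm.eq)
  have hN11 : 11 ∣ Nat.card Ny := by
    obtain ⟨x, hx, hx1⟩ := exists_ne_one h
    exact orderOf_eq h hx hx1 ▸ hmemN x (Subgroup.le_normalizer hx) (hSle hx)
  exact final_count h13860 h9 hNyd
    (Nat.Coprime.mul_dvd_of_dvd_of_dvd (show Nat.Coprime 30 11 by norm_num)
      (Nat.Coprime.mul_dvd_of_dvd_of_dvd (show Nat.Coprime 6 5 by norm_num)
        (Nat.Coprime.mul_dvd_of_dvd_of_dvd (show Nat.Coprime 2 3 by norm_num) hN2 hN3) hN5) hN11)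
    (CfsgLib.SmallSimple.card_sylow_mul P') (card_sylow_modEq_one 11 Cy)

end Main

end CfsgLib.M23Ord
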