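import Cfsg.Agent.M23Ord.Tools
import Cfsg.Agent.BlocksB.PrincipalColumns
import Cfsg.Agent.BlocksB.ClassSum
import Cfsg.Agent.BrauerPrime.Reduction

/-!
# Pairs of conjugates with product in a section

For an element `x` of prime order whose centralizer has a normal complement `N`, the number of
pairs of conjugates of `t` with product in the inverse of `x N` only depends on the principal
block.
-/

set_option autoImplicit false
set_option linter.style.haveILetI false
set_option linter.unusedSectionVars false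

namespace CfsgLib.M23Ord

open Cfsg Finset CfsgLib.Block CfsgLib.Block.Chr CfsgLib.BrauerPrime
open scoped ComplexConjugate

universe u

variable {G : Type u} [Group G] [Fintype G] {p : ℕ} [Fact p.Prime] {M : Ideal AlgInt} [M.IsPrime]

open Classical in
/-- **Pairs of conjugates with product in a section.** -/
theorem section_pairs (hM : IsPModular p M) [Fintype (IrrCharacter G)] {x : G} (hx : orderOf x = p)
    (N : Subgroup (Subgroup.centralizer ({x} : Set G))) [N.Normal] [Fintype N]
    (hN : ¬ p ∣ Nat.card N) (hidx : N.index = p) (t : G) :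
    ((univ.filter fun gh : G × G => ∃ s ∈ N,
        gh.1 * t * gh.1⁻¹ * (gh.2 * t * gh.2⁻¹) = (x * (s : G))⁻¹).card : ℂ) =
      (Nat.card G : ℂ) * (Nat.card N : ℂ) *
        ∑ χ ∈ univ.filter (· ∈ principalBlock M G),
          (χ : G → ℂ) x * ((χ : G → ℂ) t ^ 2 / (χ : G → ℂ) 1) := by
  have hp : p.Prime := Fact.out
  have hxk : orderOf x = p ^ 1 := by rw [pow_one, hx]
  haveI : Fintype (Subgroup.centralizer ({x} : Set G)) := Fintype.ofFinite _
  letI := irrFintype (G := (Subgroup.centralizer ({x} : Set G)))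
  -- the regular elements of the centralizer
  have hreg : ∀ u : (Subgroup.centralizer ({x} : Set G)), u ∈ N → ¬ p ∣ orderOf u := fun u hu hd =>
    hN (hd.trans (Subgroup.orderOf_dvd_natCard N hu))
  have hmemN : ∀ u : (Subgroup.centralizer ({x} : Set G)), ¬ p ∣ orderOf u → u ∈ N := by
    intro u hu
    rw [← QuotientGroup.eq_one_iff (N := N), ← orderOf_eq_one_iff]
    refine Nat.eq_one_of_dvd_coprimes (hp.coprime_iff_not_dvd.2 hu) ?_
      (orderOf_map_dvd (QuotientGroup.mk' N) u)
    rw [← hidx, Subgroup.index]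
    exact orderOf_dvd_natCard _
  have hH : Nat.card (Subgroup.centralizer ({x} : Set G)) = p * Nat.card N := by rw [← N.index_mul_card, hidx]
  set F : IrrCharacter G → ℂ := fun χ => (χ : G → ℂ) t ^ 2 / (χ : G → ℂ) 1
  set Gs : (Subgroup.centralizer ({x} : Set G)) → ℂ := fun u => ∑ χ : IrrCharacter G, (χ : G → ℂ) (x * (u : G)) * F χ with hGs
  -- the pairs with a given product
  have hpairs : ∀ u : (Subgroup.centralizer ({x} : Set G)), ((univ.filter fun gh : G × G =>
      gh.1 * t * gh.1⁻¹ * (gh.2 * t * gh.2⁻¹) = (x * (u : G))⁻¹).card : ℂ) =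
      (Nat.card G : ℂ) * Gs u := by
    intro u
    rw [CfsgLib.BlocksB.card_pairs, ← sum_irr_eq (fun χ => χ t * χ t * χ (x * (u : G))⁻¹⁻¹ / χ 1)]
    refine congrArg _ (sum_congr rfl fun χ _ => ?_)
    simp only [F, inv_inv]
    ring
  have hdisj : ((univ.filter fun gh : G × G => ∃ s ∈ N,
        gh.1 * t * gh.1⁻¹ * (gh.2 * t * gh.2⁻¹) = (x * (s : G))⁻¹).card : ℂ) =
      ∑ u : N, (Nat.card G : ℂ) * Gs u := by
    rw [← sum_congr rfl fun (u : N) _ => hpairs (u : (Subgroup.centralizer ({x} : Set G))), ← Nat.cast_sum, ← card_biUnion]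
    · refine congrArg Nat.cast (congrArg Finset.card ?_)
      ext gh
      simp only [mem_filter, mem_univ, true_and, mem_biUnion]
      exact ⟨fun ⟨s, hs, he⟩ => ⟨⟨s, hs⟩, he⟩, fun ⟨s, he⟩ => ⟨s.1, s.2, he⟩⟩
    · intro a _ b _ hab
      refine disjoint_left.2 fun gh ha hb => hab ?_
      have h1 := (mem_filter.1 ha).2.symm.trans (mem_filter.1 hb).2
      exact Subtype.ext (Subtype.ext (mul_left_cancel (inv_injective h1)))
  -- a conjugate section element gives the same sum
  have hconst : ∀ u v : (Subgroup.centralizer ({x} : Set G)), ¬ p ∣ orderOf u → ¬ p ∣ orderOf v → IsConj u v → Gs v = Gs u := by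
    intro u v hu hv huv
    obtain ⟨a, ha⟩ := isConj_iff.1 ((isConj_section_iff hp hxk hu hv).2 huv)
    refine sum_congr rfl fun χ _ => congrArg (· * F χ) ?_
    rw [← ha]
    exact CfsgLib.Char.IsIrrCharacter.isClassFunction χ.2 _ _
  have hclass : ∀ u : (Subgroup.centralizer ({x} : Set G)), u ∈ N →
      (Nat.card (Subgroup.centralizer ({u} : Set (Subgroup.centralizer ({x} : Set G)))) : ℂ) *
        ((univ.filter fun v : N => IsConj u (v : (Subgroup.centralizer ({x} : Set G)))).card : ℂ) = (Nat.card (Subgroup.centralizer ({x} : Set G)) : ℂ) := by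
    intro u hu
    have h1 : (univ.filter fun v : N => IsConj u (v : (Subgroup.centralizer ({x} : Set G)))).card = Nat.card {v : (Subgroup.centralizer ({x} : Set G)) // IsConj u v} := by
      rw [← Fintype.card_subtype, ← Nat.card_eq_fintype_card]
      refine Nat.card_congr
        { toFun := fun v => ⟨v.1.1, v.2⟩
          invFun := fun v => ⟨⟨v.1, ?_⟩, v.2⟩
          left_inv := fun v => rfl
          right_inv := fun v => rfl }
      obtain ⟨a, ha⟩ := isConj_iff.1 v.2
      rw [← ha]
      exact (inferInstance : N.Normal).conj_mem u hu a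
    rw [h1, mul_comm]
    exact_mod_cast CfsgLib.Char.card_conj_class_mul_card_centralizer u
  -- the projection to the principal block
  have hzero := CfsgLib.BlockB.sum_principal_eq_zero hM hxk
    (fun χ => (Nat.card (Subgroup.centralizer ({x} : Set G)) : ℂ) * F χ -
      ∑ v : N, Gs v * conj ((χ : G → ℂ) (x * ((v : (Subgroup.centralizer ({x} : Set G))) : G))))
    fun s hs hsreg => by
      have hsH : s ∈ (Subgroup.centralizer ({x} : Set G)) := Subgroup.mem_centralizer_singleton_iff.2 hs.eq.symm
      set u : (Subgroup.centralizer ({x} : Set G)) := ⟨s, hsH⟩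
      have hureg : ¬ p ∣ orderOf u := by rwa [← Subgroup.orderOf_coe]
      have huN := hmemN u hureg
      simp only [mul_sub, sum_sub_distrib, mul_sum]
      rw [sum_congr rfl fun (χ : IrrCharacter G) _ => show (χ : G → ℂ) (x * s) * ((Nat.card (Subgroup.centralizer ({x} : Set G)) : ℂ) * F χ) =
          (Nat.card (Subgroup.centralizer ({x} : Set G)) : ℂ) * ((χ : G → ℂ) (x * (u : G)) * F χ) by ring, ← mul_sum, sum_comm,
        sum_congr rfl fun (v : N) _ => show
            ∑ χ : IrrCharacter G, (χ : G → ℂ) (x * s) * (Gs v * conj ((χ : G → ℂ) (x * ((v : (Subgroup.centralizer ({x} : Set G))) : G)))) =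
              if IsConj u (v : (Subgroup.centralizer ({x} : Set G))) then Gs u * (Nat.card (Subgroup.centralizer ({u} : Set (Subgroup.centralizer ({x} : Set G)))) : ℂ) else 0 by
          rw [sum_congr rfl fun (χ : IrrCharacter G) _ => show
              (χ : G → ℂ) (x * s) * (Gs v * conj ((χ : G → ℂ) (x * ((v : (Subgroup.centralizer ({x} : Set G))) : G)))) =
                Gs v * ((χ : G → ℂ) (x * (u : G)) * conj ((χ : G → ℂ) (x * ((v : (Subgroup.centralizer ({x} : Set G))) : G)))) by ring,
            ← mul_sum, column_orth]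
          have hv := hreg _ v.2
          by_cases hc : IsConj u (v : (Subgroup.centralizer ({x} : Set G)))
          · rw [if_pos hc, if_pos ((isConj_section_iff hp hxk hureg hv).2 hc), hconst u v hureg hv hc,
              card_centralizer_section hp hxk u hureg]
          · rw [if_neg hc, if_neg fun h => hc ((isConj_section_iff hp hxk hureg hv).1 h), mul_zero],
        ← sum_filter, sum_const, nsmul_eq_mul]
      rw [show ∑ χ : IrrCharacter G, (χ : G → ℂ) (x * (u : G)) * F χ = Gs u from rfl]
      linear_combination -(Gs u) * hclass u huN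
  have hcore : ∀ v : N, ∀ χ ∈ principalBlock M G,
      (χ : G → ℂ) (x * ((v : (Subgroup.centralizer ({x} : Set G))) : G)) = (χ : G → ℂ) x := fun v χ hχ =>
    principal_apply_mul_core hM hxk
      (Subgroup.mem_map_of_mem _ (eq_pPrimeCore_le (inferInstance : N.Normal) hN v.2)) hχ
  have hA : ∑ χ ∈ univ.filter (· ∈ principalBlock M G), (χ : G → ℂ) x * conj ((χ : G → ℂ) x) =
      (p : ℂ) := by
    have h1 : ¬ p ∣ orderOf (1 : (Subgroup.centralizer ({x} : Set G))) := by rw [orderOf_one]; exact hp.not_dvd_one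
    have h2 := principal_section_kernel hM hxk (1 : (Subgroup.centralizer ({x} : Set G))) 1 h1 h1
    rw [OneMemClass.coe_one, mul_one] at h2
    rw [h2, principal_complement_sum hM N hN ⟨1, by rw [pow_one, hidx]⟩ h1, hH,
      Nat.factorization_mul hp.ne_zero Nat.card_pos.ne', Finsupp.add_apply,
      Nat.factorization_eq_zero_of_not_dvd hN, hp.factorization_self, add_zero, pow_one]
  rw [sum_congr rfl fun χ (hχ : χ ∈ univ.filter (· ∈ principalBlock M G)) => show
      (χ : G → ℂ) x * ((Nat.card (Subgroup.centralizer ({x} : Set G)) : ℂ) * F χ -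
        ∑ v : N, Gs v * conj ((χ : G → ℂ) (x * ((v : (Subgroup.centralizer ({x} : Set G))) : G)))) =
      (Nat.card (Subgroup.centralizer ({x} : Set G)) : ℂ) * ((χ : G → ℂ) x * F χ) -
        (∑ v : N, Gs v) * ((χ : G → ℂ) x * conj ((χ : G → ℂ) x)) by
    rw [sum_congr rfl fun (v : N) _ => show Gs v * conj ((χ : G → ℂ) (x * ((v : (Subgroup.centralizer ({x} : Set G))) : G))) =
      Gs v * conj ((χ : G → ℂ) x) by rw [hcore v χ (mem_filter.1 hχ).2], ← sum_mul]
    ring, sum_sub_distrib, ← mul_sum, ← mul_sum, hA, hH] at hzero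
  have hp0 : (p : ℂ) ≠ 0 := Nat.cast_ne_zero.2 hp.ne_zero
  push_cast at hzero
  have h3 : ∑ v : N, Gs v = (Nat.card N : ℂ) *
      ∑ χ ∈ univ.filter (· ∈ principalBlock M G), (χ : G → ℂ) x * F χ := by
    refine mul_left_cancel₀ hp0 ?_
    linear_combination -hzero
  rw [← mul_sum, h3, ← mul_assoc] at hdisj
  convert hdisj

end CfsgLib.M23Ord
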