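import Cfsg.Agent.M23Ord.DegreeMod
import Cfsg.Agent.M23Ord.Value
import Cfsg.Agent.M23Ord.Pairs

/-!
# Simple groups of order 10200960: the automizer at eleven is not of order two

A member of degree 23 or 45 in the principal block would make the centralizer of the Sylow
subgroup of order 11 a group of order 88; the pairs of conjugate involutions with product in the
section of an element of order 11 then have an impossible number.
-/

set_option autoImplicit false
set_option linter.style.haveILetI false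
set_option linter.unusedSectionVars false

namespace CfsgLib.M23Ord

open Cfsg Finset CfsgLib.Block CfsgLib.Block.Chr CfsgLib.BrauerPrime CfsgLib.BrauerPairs
open CfsgLib.Cyclic (deg)

universe u

variable {G : Type u} [Group G] [Fintype G]

/-- The data of the case: the principal block is `1`, `χ` and five exceptional characters. -/
structure TwoData (M : Ideal AlgInt) [Fact (Nat.Prime 11)] (S : Sylow 11 G) (χ : IrrCharacter G)
    (X Y : Finset (IrrCharacter G)) : Prop where
  mem : ∀ φ, φ ∈ principalBlock M G ↔ φ ∈ X ∨ φ ∈ Y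
  disj : ∀ φ ∈ X, φ ∉ Y
  X_eq : ∀ φ, φ ∈ X ↔ φ = trivIrr G ∨ φ = χ
  ne : χ ≠ trivIrr G
  valX : ∀ x ∈ (S : Subgroup G), x ≠ 1 → (χ : G → ℂ) x = 1
  sumY : ∀ x ∈ (S : Subgroup G), x ≠ 1 → ∑ θ ∈ Y, (θ : G → ℂ) x = -1
  rel : ∀ θ ∈ Y, ∀ g : G, ¬ 11 ∣ orderOf g → (θ : G → ℂ) g = 1 + (χ : G → ℂ) g
  cardY : Y.card = 5

section Counting

variable [Fact (Nat.Prime 11)] {M : Ideal AlgInt} [M.IsPrime] {S : Sylow 11 G} {χ : IrrCharacter G}
  {X Y : Finset (IrrCharacter G)}

open Classical in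
/-- **The number of pairs of conjugates with product in the section.** -/
theorem two_pairs (hM : IsPModular 11 M) [IsSimpleGroup G] (h : Setup G 11 S)
    (hC : Nat.card (Subgroup.centralizer ((S : Subgroup G) : Set G)) = 88)
    (D : TwoData M S χ X Y) {t : G} (ht : orderOf t = 2) {d : ℕ}
    (hd : charDegree (χ : G → ℂ) = d) {j : ℤ} (hj : (χ : G → ℂ) t = (j : ℂ)) :
    ∃ W : ℕ, W ≤ 704 ∧
      (W : ℤ) * (Nat.card (Subgroup.centralizer ({t} : Set G)) : ℤ) ^ 2 * (d * (d + 1)) =
        (Nat.card G : ℤ) * 8 * ((d : ℤ) - j) ^ 2 := by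
  letI := irrFintype (G := G)
  haveI : Fact (Nat.Prime 2) := ⟨Nat.prime_two⟩
  obtain ⟨x, hxP, hx1⟩ := exists_ne_one h
  have hxo := orderOf_eq h hxP hx1
  set H := Subgroup.centralizer ({x} : Set G) with hHdef
  have hH : Nat.card H = 88 := by rw [hHdef, centralizer_singleton h hxP hx1, hC]
  -- the complement
  obtain ⟨Q⟩ : Nonempty (Sylow 2 H) := inferInstance
  have hQ : Nat.card (Q : Subgroup H) = 8 := by
    simpa using CfsgLib.SmallSimple.card_sylow_eq Q (k := 3) (m := 11) (by rw [hH]; norm_num) (by norm_num)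
  haveI hQn : (Q : Subgroup H).Normal := by
    refine Subgroup.normalizer_eq_top_iff.1 ((Subgroup.card_eq_iff_eq_top _).1 ?_)
    set Nq := Subgroup.normalizer ((Q : Subgroup H) : Set H)
    set x' : H := ⟨x, Subgroup.mem_centralizer_singleton_iff.2 rfl⟩
    have hxN : x' ∈ Nq := Subgroup.centralizer_le_normalizer _ (Subgroup.mem_centralizer_iff.2
      fun y _ => Subtype.ext (Subgroup.mem_centralizer_singleton_iff.1 y.2))
    have h1 : 11 ∣ Nat.card Nq := by
      have := Subgroup.orderOf_dvd_natCard Nq hxN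
      rwa [← Subgroup.orderOf_coe, hxo] at this
    have h2 : 8 ∣ Nat.card Nq := hQ ▸ Subgroup.card_dvd_of_le Subgroup.le_normalizer
    have h3 := Nat.Coprime.mul_dvd_of_dvd_of_dvd (show Nat.Coprime 8 11 by norm_num) h2 h1
    have h4 := Subgroup.card_subgroup_dvd_card Nq
    rw [hH] at h4 ⊢
    exact Nat.dvd_antisymm h4 h3
  have hidx : (Q : Subgroup H).index = 11 := by
    have h1 := (Q : Subgroup H).card_mul_index
    rw [hQ, hH] at h1
    omega
  haveI : Fintype (Q : Subgroup H) := Fintype.ofFinite _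
  have hcount := section_pairs hM hxo (Q : Subgroup H) (by rw [hQ]; norm_num) hidx t
  -- the sum over the principal block
  have hd0 : (d : ℂ) ≠ 0 := Nat.cast_ne_zero.2 (hd ▸ (irr_one χ).2.ne')
  have htreg : ¬ 11 ∣ orderOf t := by rw [ht]; norm_num
  have hYdeg : ∀ θ ∈ Y, (θ : G → ℂ) 1 = (d : ℂ) + 1 := fun θ hθ => by
    rw [D.rel θ hθ 1 (by rw [orderOf_one]; norm_num), (irr_one χ).1, hd, add_comm]
  have hB : ∑ φ ∈ univ.filter (· ∈ principalBlock M G),
      (φ : G → ℂ) x * ((φ : G → ℂ) t ^ 2 / (φ : G → ℂ) 1) =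
        ((d : ℂ) - (j : ℂ)) ^ 2 / ((d : ℂ) * ((d : ℂ) + 1)) := by
    have hX : X = {trivIrr G, χ} := by ext φ; simp [D.X_eq]
    rw [show univ.filter (· ∈ principalBlock M G) = X ∪ Y by ext φ; simp [D.mem],
      sum_union (disjoint_left.2 D.disj), hX, sum_pair D.ne.symm, trivIrr_apply, trivIrr_apply,
      trivIrr_apply, D.valX x hxP hx1, (irr_one χ).1, hd, hj,
      sum_congr rfl fun θ (hθ : θ ∈ Y) => show
          (θ : G → ℂ) x * ((θ : G → ℂ) t ^ 2 / (θ : G → ℂ) 1) =
            (θ : G → ℂ) x * ((1 + (j : ℂ)) ^ 2 / ((d : ℂ) + 1)) by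
        rw [hYdeg θ hθ, D.rel θ hθ t htreg, hj], ← sum_mul, D.sumY x hxP hx1]
    have hd1 : (d : ℂ) + 1 ≠ 0 := by exact_mod_cast (Nat.succ_ne_zero d)
    field_simp
    ring
  rw [hB, hQ] at hcount
  -- the pairs
  set U := univ.filter fun uv : G × G =>
    IsConj t uv.1 ∧ IsConj t uv.2 ∧ ∃ s ∈ (Q : Subgroup H), uv.1 * uv.2 = (x * (s : G))⁻¹
  have hfib : (univ.filter fun gh : G × G => ∃ s ∈ (Q : Subgroup H),
      gh.1 * t * gh.1⁻¹ * (gh.2 * t * gh.2⁻¹) = (x * (s : G))⁻¹).card =
      U.card * (Nat.card (Subgroup.centralizer ({t} : Set G)) *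
        Nat.card (Subgroup.centralizer ({t} : Set G))) := by
    rw [card_eq_sum_card_fiberwise (f := fun gh : G × G => (gh.1 * t * gh.1⁻¹, gh.2 * t * gh.2⁻¹))
      (t := U)]
    · refine sum_const_nat fun uv huv => ?_
      obtain ⟨-, hu, hv, s, hs, he⟩ := mem_filter.1 huv
      rw [← card_fib t uv.1 hu]
      nth_rewrite 2 [card_fib t uv.1 hu]
      rw [← card_fib t uv.2 hv, ← card_product]
      refine congrArg Finset.card (Finset.ext fun gh => ?_)
      simp only [mem_filter, mem_univ, true_and, mem_product, Prod.ext_iff]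
      exact ⟨fun hh => hh.2, fun hh => ⟨⟨s, hs, by rw [hh.1, hh.2]; exact he⟩, hh⟩⟩
    · intro gh hgh
      exact mem_filter.2 ⟨mem_univ _, isConj_iff.2 ⟨gh.1, rfl⟩, isConj_iff.2 ⟨gh.2, rfl⟩,
        (mem_filter.1 hgh).2⟩
  refine ⟨U.card, ?_, ?_⟩
  · -- the elements inverting `x`
    have hinv : ∀ u : G, IsConj t u → u * u = 1 := fun u hu => by
      obtain ⟨a, ha⟩ := isConj_iff.1 hu
      rw [← ha, ← sq, conj_pow, ← ht, pow_orderOf_eq_one, mul_one, mul_inv_cancel]
    have hs8 : ∀ s : H, s ∈ (Q : Subgroup H) → (s : G) ^ 8 = 1 := fun s hs => by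
      have := Subgroup.orderOf_dvd_natCard _ hs
      rw [hQ, ← Subgroup.orderOf_coe] at this
      exact orderOf_dvd_iff_pow_eq_one.1 this
    have hux : ∀ uv ∈ U, uv.1 * x * uv.1⁻¹ = x⁻¹ := by
      intro uv huv
      obtain ⟨-, hu, hv, s, hs, he⟩ := mem_filter.1 huv
      have hui : uv.1⁻¹ = uv.1 := inv_eq_of_mul_eq_one_right (hinv _ hu)
      have hvi : uv.2⁻¹ = uv.2 := inv_eq_of_mul_eq_one_right (hinv _ hv)
      have hcomm : Commute x (s : G) := (Subgroup.mem_centralizer_singleton_iff.1 s.2).symm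
      have hw : x * (s : G) = uv.2 * uv.1 := by
        rw [← inv_inv (x * (s : G)), ← he, _root_.mul_inv_rev, hui, hvi]
      have hconj : uv.1 * (x * (s : G)) * uv.1⁻¹ = (x * (s : G))⁻¹ := by
        rw [hw, _root_.mul_inv_rev, hui, hvi, mul_assoc, mul_assoc, hinv _ hu, mul_one]
      have hpow : (x * (s : G)) ^ 56 = x := by
        rw [hcomm.mul_pow, show (56 : ℕ) = 8 * 7 from rfl, pow_mul (s : G), hs8 s hs, one_pow,
          mul_one, show (8 * 7 : ℕ) = 11 * 5 + 1 from rfl, pow_succ, pow_mul, ← hxo,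
          pow_orderOf_eq_one, one_pow, one_mul]
      have h2 := congrArg (fun w : G => w ^ 56) hconj
      simp only [conj_pow, inv_pow, hpow] at h2
      exact h2
    rcases U.eq_empty_or_nonempty with hU | ⟨uv₀, huv₀⟩
    · simp [hU]
    set T := univ.filter fun u : G => u * x * u⁻¹ = x⁻¹
    have hT : T.card ≤ 88 := by
      rw [← hH, Nat.card_eq_fintype_card, ← card_univ]
      have h0 := hux uv₀ huv₀
      refine card_le_card_of_injOn (fun u => if hu : uv₀.1⁻¹ * u ∈ H then ⟨uv₀.1⁻¹ * u, hu⟩ else 1)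
        (fun u _ => mem_univ _) fun a ha b hb hab => ?_
      have hmemH : ∀ u : G, u * x * u⁻¹ = x⁻¹ → uv₀.1⁻¹ * u ∈ H := fun u hu =>
        Subgroup.mem_centralizer_singleton_iff.2 (by
          calc uv₀.1⁻¹ * u * x = uv₀.1⁻¹ * (u * x * u⁻¹) * u := by group
            _ = uv₀.1⁻¹ * (uv₀.1 * x * uv₀.1⁻¹) * u := by rw [hu, h0]
            _ = x * (uv₀.1⁻¹ * u) := by group)
      simp only [dif_pos (hmemH a (mem_filter.1 ha).2), dif_pos (hmemH b (mem_filter.1 hb).2),
        Subtype.mk.injEq] at hab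
      exact mul_left_cancel hab
    have hcard8 : (univ : Finset (Q : Subgroup H)).card = 8 := by
      rw [card_univ, ← Nat.card_eq_fintype_card, hQ]
    calc U.card ≤ ((T ×ˢ (univ : Finset (Q : Subgroup H))).image fun p =>
          (p.1, p.1⁻¹ * (x * ((p.2 : H) : G))⁻¹)).card := by
            refine card_le_card fun uv huv => mem_image.2 ?_
            obtain ⟨-, -, -, s, hs, he⟩ := mem_filter.1 huv
            refine ⟨(uv.1, ⟨s, hs⟩), mem_product.2 ⟨mem_filter.2 ⟨mem_univ _, hux uv huv⟩,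
              mem_univ _⟩, ?_⟩
            exact Prod.ext rfl (by rw [← he, inv_mul_cancel_left])
      _ ≤ (T ×ˢ (univ : Finset (Q : Subgroup H))).card := card_image_le
      _ ≤ 704 := by rw [card_product, hcard8]; omega
  · have hd1 : (d : ℂ) + 1 ≠ 0 := by exact_mod_cast (Nat.succ_ne_zero d)
    have h1 : (U.card : ℂ) * (Nat.card (Subgroup.centralizer ({t} : Set G)) : ℂ) ^ 2 *
        ((d : ℂ) * ((d : ℂ) + 1)) = (Nat.card G : ℂ) * 8 * ((d : ℂ) - (j : ℂ)) ^ 2 := by
      rw [hfib] at hcount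
      push_cast at hcount
      field_simp at hcount
      linear_combination hcount
    exact_mod_cast h1

end Counting

section Cases

variable [IsSimpleGroup G] [Fact (Nat.Prime 11)] {M : Ideal AlgInt} [M.IsPrime] {S : Sylow 11 G}
  {χ : IrrCharacter G} {X Y : Finset (IrrCharacter G)}

theorem dvd_of_sq {q W K : ℕ} (hq : q.Prime) {m : ℕ} (hm : ¬ q ∣ m) (h : K ^ 2 = W * (q * m)) : q ∣ W := by
  have h1 : q ∣ K := hq.dvd_of_dvd_pow ⟨W * m, by rw [h]; ring⟩
  obtain ⟨k, rfl⟩ := h1
  have h2 : q * (q * k ^ 2) = q * (W * m) := by linarith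
  have h3 : q ∣ W * m := ⟨k ^ 2, (Nat.eq_of_mul_eq_mul_left hq.pos h2).symm⟩
  exact (hq.dvd_mul.1 h3).resolve_right hm

theorem sq_le {w C b N : ℕ} (h : w * C ^ 2 = N) (hN : 0 < N) (hb : b ≤ C) : b ^ 2 ≤ N := by
  have hw : 1 ≤ w := Nat.pos_of_ne_zero fun e => by rw [e, zero_mul] at h; omega
  exact (Nat.pow_le_pow_left hb 2).trans (h ▸ Nat.le_mul_of_pos_left _ hw)

/-- The centralizer of the Sylow subgroup of order 11 does not have order 88. -/
theorem no_two (hcard : Nat.card G = 10200960) (hM : IsPModular 11 M) (h : Setup G 11 S)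
    (hC : Nat.card (Subgroup.centralizer ((S : Subgroup G) : Set G)) = 88)
    (hN : Nat.card (Subgroup.normalizer ((S : Subgroup G) : Set G)) = 176)
    (D : TwoData M S χ X Y) {d : ℕ} (hd : charDegree (χ : G → ℂ) = d) (hd' : d = 23 ∨ d = 45)
    (hrat : ∀ y : G, ∃ j : ℤ, (χ : G → ℂ) y = (j : ℂ)) : False := by
  classical
  haveI : Fact (Nat.Prime 2) := ⟨Nat.prime_two⟩
  obtain ⟨⟨t, htC⟩, hto⟩ := exists_prime_orderOf_dvd_card'
    (G := Subgroup.centralizer ((S : Subgroup G) : Set G)) 2 (by rw [hC]; norm_num)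
  rw [Subgroup.orderOf_mk] at hto
  obtain ⟨j, hj⟩ := hrat t
  obtain ⟨W, hW, heq⟩ := two_pairs hM h hC D hto hd hj
  set C := Nat.card (Subgroup.centralizer ({t} : Set G)) with hCdef
  have hdeg : deg χ = (d : ℤ) := congrArg Nat.cast hd
  have hmem : χ ∈ principalBlock M G := (D.mem χ).2 (Or.inl ((D.X_eq χ).2 (Or.inr rfl)))
  have hmodj : j ≡ (d : ℤ) [ZMOD 11] := hdeg ▸ value_modEq hM S hmem htC hj
  obtain ⟨m, hm⟩ := value_mult χ hto (value_pow χ hto hj)
  have hle := abs_le.1 (hdeg ▸ value_abs_le χ hj : |j| ≤ (d : ℤ))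
  have hjd : j ≠ (d : ℤ) := fun e => by
    have h1 := faithful_of_simple h D.ne t (by rw [hj, e, apply_one_eq, hdeg])
    rw [h1, orderOf_one] at hto
    norm_num at hto
  rw [hdeg] at hm
  push_cast at hm
  rw [hcard] at heq
  obtain ⟨K, hK⟩ : C ∣ Nat.card G := Subgroup.card_subgroup_dvd_card _
  obtain ⟨D', hD'⟩ : ∃ D' : ℕ, (d : ℤ) - j = D' := ⟨((d : ℤ) - j).toNat, (Int.toNat_of_nonneg (by omega)).symm⟩
  rw [hD'] at heq
  have hnat : W * C ^ 2 * (d * (d + 1)) = 10200960 * 8 * D' ^ 2 := by exact_mod_cast heq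
  have hD0 : 0 < D' := by omega
  rcases hd' with rfl | rfl
  · -- degree 23
    rw [hcard] at hK
    have hS : (D' * K) ^ 2 = W * 704 * 0 + W * (552 * 1275120) := by
      have h1 : W * C ^ 2 * (23 * (23 + 1)) * K ^ 2 = 10200960 * 8 * D' ^ 2 * K ^ 2 := by rw [hnat]
      have h2 : (C * K) * (C * K) = 10200960 * 10200960 := by rw [← hK]
      have h3 : W * 552 * (10200960 * 10200960) = 10200960 * 8 * (D' * K) ^ 2 := by
        rw [← h2]
        calc W * 552 * (C * K * (C * K)) = W * C ^ 2 * (23 * (23 + 1)) * K ^ 2 := by ring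
          _ = _ := by rw [h1]; ring
      omega
    rw [mul_zero, zero_add] at hS
    have h5 := dvd_of_sq (q := 5) (m := 140773248) (by norm_num) (by norm_num) (W := W) (K := D' * K) (by rw [hS])
    have h7 := dvd_of_sq (q := 7) (m := 100552320) (by norm_num) (by norm_num) (W := W) (K := D' * K) (by rw [hS])
    have h11 := dvd_of_sq (q := 11) (m := 63987840) (by norm_num) (by norm_num) (W := W) (K := D' * K) (by rw [hS])
    have h385 : 5 * 7 * 11 ∣ W := Nat.Coprime.mul_dvd_of_dvd_of_dvd (by norm_num)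
      (Nat.Coprime.mul_dvd_of_dvd_of_dvd (by norm_num) h5 h7) h11
    have hW0 : W ≠ 0 := fun e => by
      rw [e, zero_mul, zero_mul] at hnat
      have : 0 < 10200960 * 8 * D' ^ 2 := by positivity
      omega
    obtain ⟨w, hw⟩ := h385
    have hw1 : w = 1 := by
      rcases Nat.lt_or_ge w 2 with hlt | hge
      · rcases Nat.eq_zero_or_pos w with h0 | h0
        · exact absurd (by rw [hw, h0, mul_zero]) hW0
        · omega
      · omega
    subst hw1
    rw [hw] at hS
    have hlo : 520565 < D' * K := lt_of_pow_lt_pow_left₀ 2 (Nat.zero_le _) (by rw [hS]; norm_num)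
    have hhi : D' * K < 520566 := lt_of_pow_lt_pow_left₀ 2 (Nat.zero_le _) (by rw [hS]; norm_num)
    omega
  · -- degree 45
    have hWC : W * C ^ 2 = 39424 * D' ^ 2 := by omega
    have hP : (S : Subgroup G) ≤ Subgroup.centralizer ({t} : Set G) := fun y hy =>
      Subgroup.mem_centralizer_singleton_iff.2 (Subgroup.mem_centralizer_iff.1 htC y hy)
    obtain ⟨C', hC'⟩ : 11 ∣ C := h.cardP ▸ Subgroup.card_dvd_of_le hP
    obtain ⟨i, hi⟩ : 11 ∣ D' := by
      have h1 := Int.modEq_iff_dvd.1 hmodj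
      rw [hD'] at h1
      exact_mod_cast h1
    rw [hC', hi] at hWC
    have hi8 : i ≤ 8 := by omega
    have hie : i = 2 ∨ i = 4 ∨ i = 6 ∨ i = 8 := by omega
    have hW' : W * C' ^ 2 = 39424 * i ^ 2 := by
      refine Nat.eq_of_mul_eq_mul_left (show 0 < 121 by norm_num) ?_
      linarith
    have h11W : 11 ∣ W := by
      have h1 : 11 ∣ W * C' ^ 2 := ⟨3584 * i ^ 2, by rw [hW']; ring⟩
      refine ((show Nat.Prime 11 by norm_num).dvd_mul.1 h1).resolve_right fun hh => ?_
      obtain ⟨k, rfl⟩ := (show Nat.Prime 11 by norm_num).dvd_of_dvd_pow hh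
      have h2 : 11 * (W * k ^ 2 * 11) = 11 * (3584 * i ^ 2) := by linarith
      rcases hie with rfl | rfl | rfl | rfl <;> omega
    have h7W : 7 ∣ W := by
      have h1 : 7 ∣ W * C' ^ 2 := ⟨5632 * i ^ 2, by rw [hW']; ring⟩
      refine ((show Nat.Prime 7 by norm_num).dvd_mul.1 h1).resolve_right fun hh => ?_
      obtain ⟨k, rfl⟩ := (show Nat.Prime 7 by norm_num).dvd_of_dvd_pow hh
      have h2 : 7 * (W * k ^ 2 * 7) = 7 * (5632 * i ^ 2) := by linarith
      rcases hie with rfl | rfl | rfl | rfl <;> omega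
    obtain ⟨w, hw⟩ := Nat.Coprime.mul_dvd_of_dvd_of_dvd (show Nat.Coprime 7 11 by norm_num) h7W h11W
    rw [hw] at hW'
    have hw9 : w ≤ 9 := by omega
    have hwC : w * C' ^ 2 = 512 * i ^ 2 := by linarith
    -- the column at `t`
    letI := irrFintype (G := G)
    have hcol : (1 + j ^ 2 + 5 * (1 + j) ^ 2 : ℤ) ≤ (C : ℤ) := by
      have h1 := CfsgLib.PrincipalNorm.normSq_le (M := M) (G := G) t
      rw [finsum_set_eq, show univ.filter (· ∈ principalBlock M G) = X ∪ Y by ext φ; simp [D.mem],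
        sum_union (disjoint_left.2 D.disj),
        show X = {trivIrr G, χ} by ext φ; simp [D.X_eq], sum_pair D.ne.symm, trivIrr_apply, hj,
        sum_congr rfl fun θ (hθ : θ ∈ Y) => show Complex.normSq ((θ : G → ℂ) t) = (1 + (j : ℝ)) ^ 2 by
          rw [D.rel θ hθ t (by rw [hto]; norm_num), hj,
            show (1 : ℂ) + (j : ℂ) = ((1 + (j : ℝ) : ℝ) : ℂ) by push_cast; rfl, Complex.normSq_ofReal]
          ring,
        sum_const, D.cardY, nsmul_eq_mul, map_one,
        show Complex.normSq (j : ℂ) = (j : ℝ) ^ 2 by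
          rw [show (j : ℂ) = ((j : ℝ) : ℂ) by push_cast; rfl, Complex.normSq_ofReal]; ring] at h1
      have h2 : ((1 + j ^ 2 + 5 * (1 + j) ^ 2 : ℤ) : ℝ) ≤ ((C : ℤ) : ℝ) := by
        push_cast at h1 ⊢
        rw [hCdef]
        linarith
      exact_mod_cast h2
    have hj' : j = 45 - 11 * (i : ℤ) := by push_cast [hi] at hD'; linarith
    rw [hj', hC'] at hcol
    push_cast at hcol
    rcases hie with rfl | rfl | rfl | rfl
    · have h310 : 310 ≤ C' := by norm_num at hcol; omega
      exact absurd (sq_le hwC (by norm_num) h310) (by norm_num)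
    · -- the centralizer normalizes the Sylow subgroup
      have hw0 : 0 < w := Nat.pos_of_ne_zero fun e => by rw [e, zero_mul] at hwC; norm_num at hwC
      have hC'13 : C' ∣ 2 ^ 13 := ⟨C' * w, by linarith⟩
      obtain ⟨a, -, rfl⟩ := (Nat.dvd_prime_pow Nat.prime_two).1 hC'13
      have ha1 : 5 ≤ a := by
        by_contra hlt
        have h16 : 2 ^ a ≤ 16 := (Nat.pow_le_pow_right two_pos (show a ≤ 4 by omega)).trans (by norm_num)
        have h1 := Nat.mul_le_mul hw9 (Nat.pow_le_pow_left h16 2)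
        rw [hwC] at h1
        norm_num at h1
      have ha2 : a ≤ 6 := by
        by_contra hlt
        have h128 : 128 ≤ 2 ^ a := le_trans (by norm_num) (Nat.pow_le_pow_right two_pos (show 7 ≤ a by omega))
        exact absurd (sq_le hwC (by norm_num) h128) (by norm_num)
      set Ct := Subgroup.centralizer ({t} : Set G)
      set P' : Sylow 11 Ct := S.subtype hP
      have hP' : Nat.card (P' : Subgroup Ct) = 11 := by
        rw [Sylow.coe_subtype, Nat.card_congr (Subgroup.subgroupOfEquivOfLe hP).toEquiv]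
        exact h.cardP
      have hn1 : Nat.card (Sylow 11 Ct) = 1 := by
        have h1 := Sylow.card_dvd_index P'
        have h2 := (P' : Subgroup Ct).card_mul_index
        rw [hP', ← hCdef, hC'] at h2
        rw [Nat.eq_of_mul_eq_mul_left (by norm_num) h2] at h1
        obtain ⟨b, hb, hbe⟩ := (Nat.dvd_prime_pow Nat.prime_two).1 h1
        have h3 : Nat.card (Sylow 11 Ct) % 11 = 1 := card_sylow_modEq_one 11 Ct
        rw [hbe] at h3 ⊢
        interval_cases a <;> interval_cases b <;> first | rfl | (norm_num at h3)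
      have hle' : Ct ≤ Subgroup.normalizer ((S : Subgroup G) : Set G) := by
        haveI : Subsingleton (Sylow 11 Ct) := (Nat.card_eq_one_iff_unique.1 hn1).1
        have hnorm : ((S : Subgroup G).subgroupOf Ct).Normal := by
          rw [← Sylow.coe_subtype (P := S) hP]
          exact Sylow.normal_of_subsingleton P'
        exact (Subgroup.normal_subgroupOf_iff_le_normalizer hP).1 hnorm
      have h4 := Nat.le_of_dvd (by rw [hN]; norm_num) (Subgroup.card_dvd_of_le hle')
      rw [← hCdef, hC', hN] at h4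
      interval_cases a <;> norm_num at h4
    · have h222 : 222 ≤ C' := by norm_num at hcol; omega
      exact absurd (sq_le hwC (by norm_num) h222) (by norm_num)
    · have h970 : 970 ≤ C' := by norm_num at hcol; omega
      exact absurd (sq_le hwC (by norm_num) h970) (by norm_num)

end Cases

end CfsgLib.M23Ord
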