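import Cfsg.Agent.M23Ord.Seven
import Cfsg.Agent.M23Ord.ElevenTwo
import Cfsg.Agent.M23Ord.ElevenFive

/-!
# Simple groups of order 10200960: the Sylow subgroups of order 11

There are 185472 of them, each is its own centralizer and its normalizer has order 55.
-/

set_option autoImplicit false
set_option linter.style.haveILetI false
set_option linter.unusedSectionVars false

namespace CfsgLib.M23Ord

open Cfsg Finset CfsgLib.Block CfsgLib.Block.Chr CfsgLib.BrauerPrime CfsgLib.BrauerPairs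
open CfsgLib.Cyclic (deg)

universe u

variable {G : Type u} [Group G] [Fintype G]

theorem eleven_count {c e n : ℕ} (he : e ∈ [2, 5, 10]) (h : c * e * (1 + n * 11) = 927360)
    (h23 : 23 ∣ 1 + n * 11) (h7 : ¬ 7 ∣ c) :
    (n, e, c) ∈ [(117, 2, 360), (439, 2, 96), (1405, 2, 30), (5269, 2, 8), (117, 5, 144), (1405, 5, 12),
      (16861, 5, 1), (117, 10, 72), (1405, 10, 6)] := by
  have hck : ∀ e ∈ [2, 5, 10], (List.range 20161).all (fun k =>
      if e * k ∣ 40320 ∧ k % 11 = 1 ∧ ¬ 7 ∣ 40320 / (e * k) then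
        decide (((23 * k - 1) / 11, e, 40320 / (e * k)) ∈
          [(117, 2, 360), (439, 2, 96), (1405, 2, 30), (5269, 2, 8), (117, 5, 144), (1405, 5, 12),
            (16861, 5, 1), (117, 10, 72), (1405, 10, 6)])
      else true) = true := by decide +kernel
  obtain ⟨k, hk⟩ := h23
  have h' : c * (e * k) = 40320 := by
    refine Nat.eq_of_mul_eq_mul_left (show 0 < 23 by norm_num) ?_
    rw [hk] at h
    linarith
  have he2 : 2 ≤ e := by simp at he; omega
  have hek : 0 < e * k := Nat.pos_of_ne_zero fun e0 => by rw [e0, mul_zero] at h'; omega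
  have hd : e * k ∣ 40320 := ⟨c, by rw [mul_comm (e * k), h']⟩
  have hc : 40320 / (e * k) = c := by rw [← h', Nat.mul_div_cancel _ hek]
  have hk2 : k < 20161 := by
    have h1 := Nat.le_of_dvd (by norm_num) hd
    have h2 := Nat.mul_le_mul_right k he2
    omega
  have hn : (23 * k - 1) / 11 = n := by omega
  have hmod : k % 11 = 1 := by omega
  simpa [hd, hmod, hc, hn, h7] using all_range (hck e he) hk2

variable [IsSimpleGroup G]

theorem seven_ndvd (hcard : Nat.card G = 10200960) [Fact (Nat.Prime 11)] {S : Sylow 11 G}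
    (h : Setup G 11 S) : ¬ 7 ∣ Nat.card (Subgroup.centralizer ((S : Subgroup G) : Set G)) := by
  haveI : Fact (Nat.Prime 7) := ⟨by norm_num⟩
  intro hd
  obtain ⟨⟨y, hy⟩, hyo⟩ := exists_prime_orderOf_dvd_card' 7 hd
  rw [Subgroup.orderOf_mk] at hyo
  obtain ⟨T, hT⟩ := (IsPGroup.of_card (n := 1) (by rw [Nat.card_zpowers, hyo, pow_one]) :
    IsPGroup 7 (Subgroup.zpowers y)).exists_le_sylow
  have h7 : Setup G 7 T := setup hcard T (m := 1457280) (by norm_num) (by norm_num)
  have hy1 : y ≠ 1 := fun e => by rw [e, orderOf_one] at hyo; norm_num at hyo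
  obtain ⟨x, hx, hx1⟩ := exists_ne_one h
  have h1 : x ∈ Subgroup.centralizer ({y} : Set G) :=
    Subgroup.mem_centralizer_singleton_iff.2 (Subgroup.mem_centralizer_iff.1 hy x hx)
  rw [centralizer_singleton h7 (hT (Subgroup.mem_zpowers y)) hy1] at h1
  exact not_eleven_seven hcard T (orderOf_eq h hx hx1 ▸ Subgroup.orderOf_dvd_natCard _ h1)

/-- The exceptional degree when the automizer has order two. -/
theorem two_degrees (hcard : Nat.card G = 10200960) [Fact (Nat.Prime 11)] {S : Sylow 11 G}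
    {M : Ideal AlgInt} [M.IsPrime] (hM : IsPModular 11 M) (h : Setup G 11 S) {c n s : ℕ}
    (num : Num S c 2 n) {X Y : Finset (IrrCharacter G)} {sg : IrrCharacter G → ℤ} {ε : ℤ}
    (B : Blk M S 2 s X Y sg ε) {φ : IrrCharacter G} (hφ : φ ∈ X ∨ φ ∈ Y)
    (hφd : charDegree (φ : G → ℂ) ∈ [24, 46]) :
    ∃ χ d, TwoData M S χ X Y ∧ charDegree (χ : G → ℂ) = d ∧ (d = 23 ∨ d = 45) ∧
      charDegree (φ : G → ℂ) = d + 1 ∧ χ ∈ X ∧ (∀ y : G, ∃ j : ℤ, (χ : G → ℂ) y = (j : ℂ)) := by
  classical
  obtain ⟨D, hD⟩ : ∃ D, charDegree (φ : G → ℂ) = D := ⟨_, rfl⟩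
  rw [hD] at hφd
  have hD' : D = 24 ∨ D = 46 := by simpa using hφd
  have hdegφ : deg φ = (D : ℤ) := congrArg Nat.cast hD
  have hY : φ ∈ Y := hφ.resolve_left fun hX => by
    have h1 := B.congX φ hX
    rw [hdegφ] at h1
    rcases B.sign φ hX with h2 | h2 <;> rw [h2] at h1 <;> rcases hD' with rfl | rfl <;>
      exact absurd h1 (by decide)
  have hε : ε = 1 := B.signY.resolve_right fun hh => by
    have h1 := B.congY φ hY
    rw [hdegφ, hh] at h1
    rcases hD' with rfl | rfl <;> exact absurd h1 (by decide)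
  obtain ⟨χ, hχ⟩ : ∃ χ, X.erase (trivIrr G) = {χ} := card_eq_one.1 (by
    rw [card_erase_of_mem B.triv, B.cardX])
  have hχX : χ ∈ X := mem_of_mem_erase (hχ.symm ▸ mem_singleton_self χ)
  have hne : χ ≠ trivIrr G := ne_of_mem_erase (hχ.symm ▸ mem_singleton_self χ)
  have hsum := B.degY hY
  rw [← add_sum_erase X _ B.triv, hχ, sum_singleton, B.sgTriv, deg_trivIrr, hε, hdegφ] at hsum
  have hpos := deg_pos χ
  have hsg : sg χ = 1 := (B.sign χ hχX).resolve_right fun hh => by rw [hh] at hsum; omega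
  rw [hsg] at hsum
  obtain ⟨d, hd⟩ : ∃ d, charDegree (χ : G → ℂ) = d := ⟨_, rfl⟩
  have hdegχ : deg χ = (d : ℤ) := congrArg Nat.cast hd
  rw [hdegχ] at hsum
  have hd' : D = d + 1 := by omega
  have hX : ∀ ψ, ψ ∈ X ↔ ψ = trivIrr G ∨ ψ = χ := fun ψ => by
    rw [← insert_erase B.triv, hχ]; simp
  refine ⟨χ, d, ⟨B.mem, B.disj, hX, hne, fun x hx hx1 => ?_, fun x hx hx1 => ?_, fun θ hθ g hg => ?_, ?_⟩,
    hd, by omega, hD.trans hd', hχX, X_rational hM B hχX fun ψ hψ he => ?_⟩
  · rw [B.valP hχX hx hx1, hsg, Int.cast_one]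
  · rw [B.sumY hM h hx hx1, hε, Int.cast_one]
  · have h1 := B.rel θ hθ g hg
    rw [← add_sum_erase X _ B.triv, hχ, sum_singleton, B.sgTriv, hsg, hε, trivIrr_apply] at h1
    simpa using h1
  · have := B.hes
    have h1 := B.cardY
    omega
  · rcases hψ with hψ | hψ
    · refine ((hX ψ).1 hψ).resolve_left fun e => ?_
      rw [e, deg_trivIrr, hdegχ] at he
      omega
    · exfalso
      rw [B.deg_agree hψ hY, hdegφ, hdegχ] at he
      omega

/-- **There are 185472 Sylow subgroups of order 11, with normalizers of order 55.** -/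
theorem sylow_eleven (hcard : Nat.card G = 10200960) [Fact (Nat.Prime 11)] (S : Sylow 11 G) :
    Nat.card (Sylow 11 G) = 185472 ∧
      Subgroup.centralizer ((S : Subgroup G) : Set G) = (S : Subgroup G) ∧
      Nat.card (Subgroup.normalizer ((S : Subgroup G) : Set G)) = 55 := by
  classical
  have h : Setup G 11 S := setup hcard S (m := 927360) (by norm_num) (by norm_num)
  have h23C := not_dvd_centralizer hcard (by norm_num) h
  have h7C := seven_ndvd hcard h
  obtain ⟨n, hn⟩ : ∃ n, Nat.card (Sylow 11 G) = 1 + n * 11 := by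
    have hm : Nat.card (Sylow 11 G) % 11 = 1 := card_sylow_modEq_one 11 G
    exact ⟨Nat.card (Sylow 11 G) / 11, by omega⟩
  obtain ⟨c, e, num⟩ := exists_num h hn
  obtain ⟨M, hM⟩ := exists_isPModular (Fact.out : Nat.Prime 11)
  haveI := hM.2.1.isPrime
  obtain ⟨s, X, Y, sg, ε, B⟩ := exists_blk hM h num
  have hG := num.cardG
  rw [hcard] at hG
  rw [num.cardC] at h23C h7C
  have hG' : c * e * (1 + n * 11) = 927360 := by linarith
  have hes := B.hes
  have he : e ∈ [2, 5, 10] := by
    have hd : e ∣ 10 := ⟨s, by omega⟩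
    have := num.epos
    have := Nat.le_of_dvd (by norm_num) hd
    interval_cases e <;> simp_all
  have h23n : 23 ∣ 1 + n * 11 := by
    have h1 : 23 ∣ c * e * (1 + n * 11) := by rw [hG']; norm_num
    refine (Nat.Prime.dvd_mul (by norm_num)).1 h1 |>.resolve_left fun h2 => ?_
    refine h23C (Dvd.dvd.mul_left ((Nat.Prime.dvd_mul (by norm_num)).1 h2 |>.resolve_right fun h3 => ?_) 11)
    simp at he
    rcases he with rfl | rfl | rfl <;> norm_num at h3
  have hopt := eleven_count he hG' h23n fun hd => h7C (Dvd.dvd.mul_left hd 11)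
  let none : ℕ → Bool := fun _ => false
  have hnone : ∀ χ : IrrCharacter G, χ ∈ X ∨ χ ∈ Y → χ ≠ trivIrr G →
      none (charDegree (χ : G → ℂ)) = false := fun _ _ _ => rfl
  simp only [List.mem_cons, Prod.mk.injEq, List.not_mem_nil, or_false] at hopt
  rcases hopt with ⟨rfl, rfl, rfl⟩ | ⟨rfl, rfl, rfl⟩ | ⟨rfl, rfl, rfl⟩ | ⟨rfl, rfl, rfl⟩ |
    ⟨rfl, rfl, rfl⟩ | ⟨rfl, rfl, rfl⟩ | ⟨rfl, rfl, rfl⟩ | ⟨rfl, rfl, rfl⟩ | ⟨rfl, rfl, rfl⟩
  · exact (no_block_small hcard hM h num (by norm_num) B none hnone 5 [3] (by norm_num)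
      (by decide +kernel) (by decide +kernel)).elim
  · exact (no_block_small hcard hM h num (by norm_num) B none hnone 14 [9, 8, 10, 7] (by norm_num)
      (by decide +kernel) (by decide +kernel)).elim
  · exfalso
    obtain ⟨φ, hφ, hφd⟩ := exists_extra hcard hM h num (by norm_num) B [24, 46] 14 [9, 10, 7, 6, 0]
      (by norm_num) (by decide +kernel) (by decide +kernel)
    obtain ⟨χ, d, D, hd, hd', -, hχX, hrat⟩ := two_degrees hcard hM h num B hφ hφd
    have hdvd := B.dvdX h num hχX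
    rw [hd] at hdvd
    have hd23 : d = 23 := hd'.resolve_right fun hh => by rw [hh] at hdvd; norm_num at hdvd
    haveI : Fact (Nat.Prime 5) := ⟨by norm_num⟩
    obtain ⟨⟨y, hy⟩, hyo⟩ := exists_prime_orderOf_dvd_card'
      (G := Subgroup.centralizer ((S : Subgroup G) : Set G)) 5 (by rw [num.cardC]; norm_num)
    rw [Subgroup.orderOf_mk] at hyo
    obtain ⟨j, hj⟩ := hrat y
    exact no_prime (q := 5) hM h ((B.mem χ).2 (Or.inl hχX)) D.ne (by norm_num) hy hyo
      (value_pow χ hyo hj) (by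
        show (charDegree (χ : G → ℂ) : ℤ) < _
        rw [hd, hd23]; norm_num)
  · exfalso
    obtain ⟨φ, hφ, hφd⟩ := exists_extra hcard hM h num (by norm_num) B [24, 46] 37
      [23, 8, 29, 7, 17, 35, 36, 30, 15] (by norm_num) (by decide +kernel) (by decide +kernel)
    obtain ⟨χ, d, D, hd, hd', -, -, hrat⟩ := two_degrees hcard hM h num B hφ hφd
    exact no_two hcard hM h num.cardC (num.cardN.trans (by norm_num)) D hd hd' hrat
  · exact (no_block_small hcard hM h num (by norm_num) B none hnone 23 [0] (by norm_num)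
      (by decide +kernel) (by decide +kernel)).elim
  · exact (no_five hcard hM h num B).elim
  · refine ⟨hn.trans (by norm_num), ?_, num.cardN.trans (by norm_num)⟩
    refine (Subgroup.eq_of_le_of_card_ge (le_centralizer h) ?_).symm
    rw [num.cardC, mul_one]
    exact h.cardP.ge
  · exact (no_block_small hcard hM h num (by norm_num) B none hnone 23 [0] (by norm_num)
      (by decide +kernel) (by decide +kernel)).elim
  · exact (no_block_small hcard hM h num (by norm_num) B none hnone 23 [0] (by norm_num)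
      (by decide +kernel) (by decide +kernel)).elim

end CfsgLib.M23Ord
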