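import Cfsg.Agent.M23Ord.Degrees

/-!
# Simple groups of order 10200960: the prime five

The centralizer of an element of order five has order 15, the normalizer of its group has order
60, and the principal block has one of two patterns of degrees.
-/

set_option autoImplicit false
set_option linter.style.haveILetI false
set_option linter.unusedSectionVars false

namespace CfsgLib.M23Ord

open Cfsg Finset CfsgLib.Block CfsgLib.Block.Chr CfsgLib.BrauerPrime CfsgLib.BrauerPairs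
open CfsgLib.Cyclic (deg)

universe u

variable {G : Type u} [Group G] [Fintype G]

/-- The shape of the principal block at five: four characters, the first three taking the value 1
on the elements of order five and the last one the value -1. -/
structure Five (M : Ideal AlgInt) [Fact (Nat.Prime 5)] (S : Sylow 5 G)
    (f₁ f₂ f₃ f₄ : IrrCharacter G) (L : List (ℕ × ℕ × ℕ × ℕ)) : Prop where
  degs : (charDegree (f₁ : G → ℂ), charDegree (f₂ : G → ℂ), charDegree (f₃ : G → ℂ),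
    charDegree (f₄ : G → ℂ)) ∈ L
  mem : ∀ φ, φ ∈ principalBlock M G ↔ φ ∈ [trivIrr G, f₁, f₂, f₃, f₄]
  nodup : [trivIrr G, f₁, f₂, f₃, f₄].Nodup
  val₁ : ∀ x ∈ (S : Subgroup G), x ≠ 1 → (f₁ : G → ℂ) x = 1
  val₂ : ∀ x ∈ (S : Subgroup G), x ≠ 1 → (f₂ : G → ℂ) x = 1
  val₃ : ∀ x ∈ (S : Subgroup G), x ≠ 1 → (f₃ : G → ℂ) x = 1
  val₄ : ∀ x ∈ (S : Subgroup G), x ≠ 1 → (f₄ : G → ℂ) x = -1
  rel : ∀ g : G, ¬ 5 ∣ orderOf g →
    (f₄ : G → ℂ) g = 1 + (f₁ : G → ℂ) g + (f₂ : G → ℂ) g + (f₃ : G → ℂ) g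

/-- The patterns in increasing order. -/
def fivePat : List (ℕ × ℕ × ℕ × ℕ) := [(11, 11, 736, 759), (231, 896, 896, 2024)]

/-- The patterns in any order of the first three. -/
def fivePerm : List (ℕ × ℕ × ℕ × ℕ) :=
  [(11, 11, 736, 759), (11, 736, 11, 759), (736, 11, 11, 759),
    (231, 896, 896, 2024), (896, 231, 896, 2024), (896, 896, 231, 2024)]

section Perm

variable [Fact (Nat.Prime 5)] {M : Ideal AlgInt} {S : Sylow 5 G}
  {f₁ f₂ f₃ f₄ : IrrCharacter G} {L L' : List (ℕ × ℕ × ℕ × ℕ)}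

theorem Five.swap₁₂ (F : Five M S f₁ f₂ f₃ f₄ L)
    (h : (charDegree (f₂ : G → ℂ), charDegree (f₁ : G → ℂ), charDegree (f₃ : G → ℂ),
      charDegree (f₄ : G → ℂ)) ∈ L') : Five M S f₂ f₁ f₃ f₄ L' := by
  have hp : List.Perm [trivIrr G, f₁, f₂, f₃, f₄] [trivIrr G, f₂, f₁, f₃, f₄] :=
    List.Perm.cons _ (List.Perm.swap f₂ f₁ _)
  exact ⟨h, fun φ => (F.mem φ).trans hp.mem_iff, hp.nodup_iff.1 F.nodup, F.val₂, F.val₁, F.val₃,
    F.val₄, fun g hg => by rw [F.rel g hg]; ring⟩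

theorem Five.swap₂₃ (F : Five M S f₁ f₂ f₃ f₄ L)
    (h : (charDegree (f₁ : G → ℂ), charDegree (f₃ : G → ℂ), charDegree (f₂ : G → ℂ),
      charDegree (f₄ : G → ℂ)) ∈ L') : Five M S f₁ f₃ f₂ f₄ L' := by
  have hp : List.Perm [trivIrr G, f₁, f₂, f₃, f₄] [trivIrr G, f₁, f₃, f₂, f₄] :=
    List.Perm.cons _ (List.Perm.cons _ (List.Perm.swap f₃ f₂ _))
  exact ⟨h, fun φ => (F.mem φ).trans hp.mem_iff, hp.nodup_iff.1 F.nodup, F.val₁, F.val₃, F.val₂,
    F.val₄, fun g hg => by rw [F.rel g hg]; ring⟩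

theorem Five.sorted (F : Five M S f₁ f₂ f₃ f₄ fivePerm) :
    ∃ g₁ g₂ g₃, Five M S g₁ g₂ g₃ f₄ fivePat := by
  have h := F.degs
  simp only [fivePerm, List.mem_cons, Prod.mk.injEq, List.not_mem_nil, or_false] at h
  rcases h with ⟨h1, h2, h3, h4⟩ | ⟨h1, h2, h3, h4⟩ | ⟨h1, h2, h3, h4⟩ | ⟨h1, h2, h3, h4⟩ |
    ⟨h1, h2, h3, h4⟩ | ⟨h1, h2, h3, h4⟩
  · exact ⟨_, _, _, ⟨by simp [fivePat, h1, h2, h3, h4], F.mem, F.nodup, F.val₁, F.val₂, F.val₃,
      F.val₄, F.rel⟩⟩
  · exact ⟨_, _, _, F.swap₂₃ (by simp [fivePat, h1, h2, h3, h4])⟩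
  · exact ⟨_, _, _, (F.swap₁₂ (L' := fivePerm) (by simp [fivePerm, h1, h2, h3, h4])).swap₂₃
      (by simp [fivePat, h1, h2, h3, h4])⟩
  · exact ⟨_, _, _, ⟨by simp [fivePat, h1, h2, h3, h4], F.mem, F.nodup, F.val₁, F.val₂, F.val₃,
      F.val₄, F.rel⟩⟩
  · exact ⟨_, _, _, F.swap₁₂ (by simp [fivePat, h1, h2, h3, h4])⟩
  · exact ⟨_, _, _, (F.swap₂₃ (L' := fivePerm) (by simp [fivePerm, h1, h2, h3, h4])).swap₁₂
      (by simp [fivePat, h1, h2, h3, h4])⟩

end Perm

/-- Signed degrees of the non-exceptional characters. -/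
def fiveX : List ℤ :=
  [11, 231, 276, 506, 736, 896, 1656, 1771, 3036, -264, -644, -759, -2024]

/-- The ordered patterns behind the signed degrees. -/
def fiveShape (x y z : ℤ) : Bool :=
  let w := 1 + x + y + z
  let l := [x.natAbs, y.natAbs, z.natAbs, w.natAbs]
  let pat := fun (a b c d : ℤ) => decide (0 < a ∧ 0 < b ∧ 0 < c ∧ 0 < d) &&
    decide ((a.natAbs, b.natAbs, c.natAbs, d.natAbs) ∈ fivePerm)
  decide (w.natAbs < 10 ∨ okDeg w.natAbs = false) ||
  !(decide (0 < w ∧ w % 5 = 4) || decide (w < 0 ∧ w % 5 = 4)) ||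
  (l.any fun a => l.any fun b => decide (a ≠ b) &&
    (decide (a % 23 ∈ [11, 12] ∧ b % 23 ∈ [11, 12]) || decide (a % 11 ∈ [5, 6] ∧ b % 11 ∈ [5, 6]))) ||
  pat x y z w || pat y z (-w) (-x) || pat x z (-w) (-y) || pat x y (-w) (-z)

theorem fiveShape_all :
    (fiveX.all fun x => fiveX.all fun y => fiveX.all fun z => fiveShape x y z) = true := by
  decide +kernel

theorem mem_fiveX : ∀ d < 3194, 10 ≤ d → okDeg d = true →
    (d % 5 = 1 → (d : ℤ) ∈ fiveX) ∧ (d % 5 = 4 → -(d : ℤ) ∈ fiveX) := by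
  have h : (List.range 3194).all (fun d => if 10 ≤ d ∧ okDeg d = true then
      (decide (d % 5 ≠ 1) || decide ((d : ℤ) ∈ fiveX)) &&
        (decide (d % 5 ≠ 4) || decide (-(d : ℤ) ∈ fiveX)) else true) = true := by decide +kernel
  intro d hd h10 hok
  have h1 := all_range h hd
  rw [if_pos ⟨h10, hok⟩] at h1
  simp only [Bool.and_eq_true, Bool.or_eq_true, decide_eq_true_eq] at h1
  exact ⟨fun e => h1.1.resolve_left (fun h2 => h2 e), fun e => h1.2.resolve_left (fun h2 => h2 e)⟩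

theorem five_counts {c e k : ℕ} (he : e ∈ [2, 4]) (h : c * (e * k) = 8064) (hk : k % 5 = 2) :
    e = 2 ∨ e = 4 ∧ (c, k) ∈ [(1008, 2), (288, 7), (168, 12), (63, 32), (48, 42), (28, 72),
      (18, 112), (8, 252), (3, 672)] := by
  simp only [List.mem_cons, List.not_mem_nil, or_false] at he
  rcases he with rfl | rfl
  · exact Or.inl rfl
  refine Or.inr ⟨rfl, ?_⟩
  have hck : (List.range 2017).all (fun k => if 2016 % k = 0 ∧ k % 5 = 2 then
      decide ((2016 / k, k) ∈ [(1008, 2), (288, 7), (168, 12), (63, 32), (48, 42), (28, 72),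
        (18, 112), (8, 252), (3, 672)]) else true) = true := by decide +kernel
  have hck' : c * k = 2016 := by linarith
  have hk2 : k < 2017 := Nat.lt_succ_of_le (Nat.le_of_dvd (by norm_num) ⟨c, by linarith⟩)
  have h1 := all_range hck hk2
  rw [if_pos ⟨Nat.mod_eq_zero_of_dvd ⟨c, by linarith⟩, hk⟩, decide_eq_true_eq,
    Nat.div_eq_of_eq_mul_left (by omega) hck'.symm] at h1
  exact h1

variable [IsSimpleGroup G]

/-- No element of order 11 or 23 centralizes a Sylow subgroup of another prime order. -/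
theorem not_dvd_cent {p : ℕ} [Fact p.Prime] {S : Sylow p G}
    (h : Setup G p S) {q : ℕ} [Fact q.Prime] {k : ℕ}
    (hcent : ∀ z : G, orderOf z = q → Nat.card (Subgroup.centralizer ({z} : Set G)) = k)
    (hpk : ¬ p ∣ k) : ¬ q ∣ Nat.card (Subgroup.centralizer ((S : Subgroup G) : Set G)) := by
  intro hd
  obtain ⟨⟨z, hz⟩, hzo⟩ := exists_prime_orderOf_dvd_card' q hd
  rw [Subgroup.orderOf_mk] at hzo
  obtain ⟨x, hx, hx1⟩ := exists_ne_one h
  have h1 := orderOf_dvd_centralizer (g := x) (z := z) (Subgroup.mem_centralizer_iff.1 hz x hx)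
  rw [orderOf_eq h hx hx1, hcent z hzo] at h1
  exact hpk h1

/-- A pair of characters with different exceptional degrees at 23 or at 11 is impossible. -/
theorem no_conflict (hcard : Nat.card G = 10200960) {φ ψ : IrrCharacter G}
    (hne : charDegree (φ : G → ℂ) ≠ charDegree (ψ : G → ℂ)) :
    ¬ (charDegree (φ : G → ℂ) % 23 ∈ [11, 12] ∧ charDegree (ψ : G → ℂ) % 23 ∈ [11, 12]) ∧
    ¬ (charDegree (φ : G → ℂ) % 11 ∈ [5, 6] ∧ charDegree (ψ : G → ℂ) % 11 ∈ [5, 6]) :=
  ⟨fun h => hne (deg_eq_of_twentyThree hcard h.1 h.2).1,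
    fun h => hne (deg_eq_of_eleven hcard h.1 h.2).1⟩

section Block

variable [Fact (Nat.Prime 5)] {S : Sylow 5 G} {M : Ideal AlgInt} [M.IsPrime] {c e n s : ℕ}
  {X Y : Finset (IrrCharacter G)} {sg : IrrCharacter G → ℤ} {ε : ℤ}

/-- The automizer is not of order two. -/
theorem five_not_two (hcard : Nat.card G = 10200960) (h : Setup G 5 S)
    (B : Blk M S 2 s X Y sg ε) : False := by
  classical
  obtain ⟨θ, hθ⟩ := card_pos.1 (B.cardY ▸ B.spos : 0 < Y.card)
  obtain ⟨χ, hχ⟩ : ∃ χ, X.erase (trivIrr G) = {χ} := card_eq_one.1 (by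
    rw [card_erase_of_mem B.triv, B.cardX])
  have hχX : χ ∈ X := mem_of_mem_erase (hχ.symm ▸ mem_singleton_self χ)
  have hne : χ ≠ trivIrr G := ne_of_mem_erase (hχ.symm ▸ mem_singleton_self χ)
  have hsum := B.degY hθ
  rw [← add_sum_erase X _ B.triv, hχ, sum_singleton, B.sgTriv, deg_trivIrr] at hsum
  have hχok := okDeg_irr hcard χ
  have hθok := okDeg_irr hcard θ
  have hd1 : charDegree (χ : G → ℂ) ≠ 1 := fun e1 => hne (eq_trivIrr h (by
    show (charDegree (χ : G → ℂ) : ℤ) = 1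
    rw [e1]; rfl))
  have hcx := mod_of_modEq (d := charDegree (χ : G → ℂ)) (r := 1) (B.sign χ hχX) (p := 5)
    (by norm_num) one_pos (by rw [Nat.cast_one, mul_one]; exact B.congX χ hχX)
  have hcy := mod_of_modEq (d := charDegree (θ : G → ℂ)) (r := 2) B.signY (p := 5) (by norm_num)
    (by norm_num) (B.congY θ hθ)
  have hlist : (List.range 3194).all (fun d => if 2 ≤ d ∧ okDeg d = true then
      (decide (d % 5 ≠ 1) || decide ((d + 1) % 5 ≠ 2) || !okDeg (d + 1) || decide (d = 11)) &&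
        (decide (d % 5 ≠ 4) || decide ((d - 1) % 5 ≠ 3) || !okDeg (d - 1) || decide (d = 12))
      else true) = true := by decide +kernel
  have hb := all_range hlist (deg_lt hcard χ)
  have hpos : 1 ≤ charDegree (χ : G → ℂ) := (irr_one χ).2
  rw [if_pos ⟨by omega, hχok⟩] at hb
  simp only [Bool.and_eq_true, Bool.or_eq_true, decide_eq_true_eq, Bool.not_eq_true'] at hb
  change ε * (charDegree (θ : G → ℂ) : ℤ) = 1 * 1 + sg χ * (charDegree (χ : G → ℂ) : ℤ) at hsum
  rcases hcx with ⟨hx, hs⟩ | ⟨hx, hs⟩ <;> rcases hcy with ⟨hy, hε⟩ | ⟨hy, hε⟩ <;>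
    rw [hs, hε] at hsum
  · have he : charDegree (θ : G → ℂ) = charDegree (χ : G → ℂ) + 1 := by omega
    rw [he] at hθok hy
    simp [hx, hy, hθok] at hb
    exact (no_conflict hcard (φ := χ) (ψ := θ) (by omega)).1 (by rw [he, hb]; decide)
  · omega
  · omega
  · have he : charDegree (θ : G → ℂ) = charDegree (χ : G → ℂ) - 1 := by omega
    rw [he] at hθok hy
    simp [hx, hy, hθok] at hb
    exact (no_conflict hcard (φ := χ) (ψ := θ) (by omega)).1 (by rw [he, hb]; decide)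

/-- The pattern when the automizer has order four. -/
theorem five_shape (hcard : Nat.card G = 10200960) (hM : IsPModular 5 M) (h : Setup G 5 S)
    (num : Num S c 4 n) (hc : c ≠ 1) (B : Blk M S 4 s X Y sg ε) :
    ∃ f₁ f₂ f₃ f₄, Five M S f₁ f₂ f₃ f₄ fivePat := by
  classical
  obtain rfl : s = 1 := by have := B.hes; omega
  obtain ⟨θ, hθ⟩ := card_eq_one.1 B.cardY
  have hθY : θ ∈ Y := hθ.symm ▸ mem_singleton_self θ
  obtain ⟨a, b, d, hab, had, hbd, hX⟩ := card_eq_three.1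
    (show (X.erase (trivIrr G)).card = 3 by rw [card_erase_of_mem B.triv, B.cardX])
  have hsum := B.degY hθY
  rw [← add_sum_erase X _ B.triv, hX, B.sgTriv, deg_trivIrr, sum_insert (by simp [hab, had]),
    sum_pair hbd] at hsum
  have hXm : ∀ φ ∈ [a, b, d], φ ∈ X ∧ φ ≠ trivIrr G := fun φ hφ => by
    have h1 : φ ∈ X.erase (trivIrr G) := by rw [hX]; simpa using hφ
    exact ⟨mem_of_mem_erase h1, ne_of_mem_erase h1⟩
  have hθne : θ ≠ trivIrr G := fun e1 => B.disj _ B.triv (e1 ▸ hθY)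
  have h10 : ∀ φ, φ ∈ X ∨ φ ∈ Y → φ ≠ trivIrr G → 10 ≤ charDegree (φ : G → ℂ) := fun φ hφ hne =>
    not_lt.1 fun hlt => hc (c_eq_one_of_lt hM h num B hφ hne hlt)
  have hx : ∀ φ ∈ [a, b, d], sg φ * deg φ ∈ fiveX := fun φ hφ => by
    obtain ⟨hφX, hne⟩ := hXm φ hφ
    have h1 := mem_fiveX _ (deg_lt hcard φ) (h10 φ (Or.inl hφX) hne) (okDeg_irr hcard φ)
    rcases mod_of_modEq (d := charDegree (φ : G → ℂ)) (r := 1) (B.sign φ hφX) (p := 5)
      (by norm_num) one_pos (by rw [Nat.cast_one, mul_one]; exact B.congX φ hφX) with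
      ⟨h2, h3⟩ | ⟨h2, h3⟩ <;> rw [h3]
    · simpa [deg] using h1.1 h2
    · simpa [deg] using h1.2 h2
  have hs := List.all_eq_true.1 (List.all_eq_true.1 (List.all_eq_true.1 fiveShape_all _
    (hx a (by simp))) _ (hx b (by simp))) _ (hx d (by simp))
  have habs : ∀ φ ∈ [a, b, d], (sg φ * deg φ).natAbs = charDegree (φ : G → ℂ) := fun φ hφ => by
    rcases B.sign φ (hXm φ hφ).1 with h1 | h1 <;> rw [h1] <;> simp [deg]
  have hw : 1 + sg a * deg a + sg b * deg b + sg d * deg d = ε * deg θ := by rw [hsum]; ring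
  have hwabs : (ε * deg θ).natAbs = charDegree (θ : G → ℂ) := by
    rcases B.signY with h1 | h1 <;> rw [h1] <;> simp [deg]
  have hw5 : ε * deg θ % 5 = 4 := by
    have h1 : ε * deg θ ≡ ε * (ε * (4 : ℤ)) [ZMOD 5] := (B.congY θ hθY).mul_left ε
    rcases B.signY with h2 | h2 <;> rw [h2] at h1 ⊢ <;> simpa [Int.ModEq] using h1
  have hwne : ε * deg θ ≠ 0 := by
    rcases B.signY with h2 | h2 <;> rw [h2] <;> linarith [deg_pos θ]
  simp only [fiveShape, hw, habs a (by simp), habs b (by simp), habs d (by simp), hwabs,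
    Bool.or_eq_true, decide_eq_true_eq, Bool.not_eq_true', Bool.or_eq_false_iff,
    decide_eq_false_iff_not, Bool.and_eq_true, List.any_eq_true, hw5, and_true,
    okDeg_irr hcard θ] at hs
  have hnd : [trivIrr G, a, b, d, θ].Nodup := by
    have h1 : ∀ φ ∈ [a, b, d], φ ≠ θ := fun φ hφ e1 => B.disj φ (hXm φ hφ).1 (e1 ▸ hθY)
    have h2 : ∀ φ ∈ [a, b, d], trivIrr G ≠ φ := fun φ hφ => (hXm φ hφ).2.symm
    simp only [List.nodup_cons, List.mem_cons, List.not_mem_nil, or_false, not_or, List.nodup_nil,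
      and_true, not_false_eq_true]
    exact ⟨⟨h2 a (by simp), h2 b (by simp), h2 d (by simp), hθne.symm⟩, ⟨hab, had, h1 a (by simp)⟩,
      ⟨hbd, h1 b (by simp)⟩, h1 d (by simp)⟩
  have hmem : ∀ φ, φ ∈ principalBlock M G ↔ φ ∈ [trivIrr G, a, b, d, θ] := fun φ => by
    rw [B.mem, ← insert_erase B.triv, hX, hθ]
    simp [or_assoc]
  have hv : ∀ φ ∈ [a, b, d], ∀ x ∈ (S : Subgroup G), x ≠ 1 → (φ : G → ℂ) x = (sg φ : ℂ) :=
    fun φ hφ x hx hx1 => B.valP (hXm φ hφ).1 hx hx1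
  have hvθ : ∀ x ∈ (S : Subgroup G), x ≠ 1 → (θ : G → ℂ) x = -(ε : ℂ) := fun x hx hx1 => by
    have h1 := B.sumY hM h hx hx1
    rwa [hθ, sum_singleton] at h1
  have hrel : ∀ g : G, ¬ 5 ∣ orderOf g → (ε : ℂ) * (θ : G → ℂ) g = 1 + (sg a : ℂ) * (a : G → ℂ) g +
      (sg b : ℂ) * (b : G → ℂ) g + (sg d : ℂ) * (d : G → ℂ) g := fun g hg => by
    have h1 := B.rel θ hθY g hg
    rw [← add_sum_erase X _ B.triv, hX, B.sgTriv, trivIrr_apply, sum_insert (by simp [hab, had]),
      sum_pair hbd] at h1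
    rw [h1]; push_cast; ring
  have pos : ∀ {φ : IrrCharacter G} {σ : ℤ}, (σ = 1 ∨ σ = -1) → 0 < σ * deg φ → σ = 1 :=
    fun {φ σ} hσ h1 => hσ.resolve_right fun e1 => by rw [e1] at h1; linarith [deg_pos φ]
  have neg : ∀ {φ : IrrCharacter G} {σ : ℤ}, (σ = 1 ∨ σ = -1) → 0 < -(σ * deg φ) → σ = -1 :=
    fun {φ σ} hσ h1 => hσ.resolve_left fun e1 => by rw [e1] at h1; linarith [deg_pos φ]
  have sa := B.sign a (hXm a (by simp)).1
  have sb := B.sign b (hXm b (by simp)).1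
  have sd := B.sign d (hXm d (by simp)).1
  have va := hv a (by simp)
  have vb := hv b (by simp)
  have vd := hv d (by simp)
  have ha' := habs a (by simp)
  have hb' := habs b (by simp)
  have hd' := habs d (by simp)
  simp only [Int.natAbs_neg, ha', hb', hd', hwabs] at hs
  rcases hs with ((((((h1 | h1) | h1) | hconf) | h1) | h1) | h1) | h1
  · have := h10 θ (Or.inr hθY) hθne
    omega
  · simp at h1
  · omega
  · obtain ⟨x, hx, y, hy, hxy, h1⟩ := hconf
    have hget : ∀ x ∈ [charDegree (a : G → ℂ), charDegree (b : G → ℂ), charDegree (d : G → ℂ),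
        charDegree (θ : G → ℂ)], ∃ φ : IrrCharacter G, charDegree (φ : G → ℂ) = x := fun x hx => by
      simp only [List.mem_cons, List.not_mem_nil, or_false] at hx
      rcases hx with rfl | rfl | rfl | rfl <;> exact ⟨_, rfl⟩
    obtain ⟨φ, rfl⟩ := hget x hx
    obtain ⟨ψ, rfl⟩ := hget y hy
    exact absurd h1 (not_or.2 (no_conflict hcard hxy))
  · obtain ⟨⟨p1, p2, p3, p4⟩, hp⟩ := h1
    rw [pos sa p1] at va
    rw [pos sb p2] at vb
    rw [pos sd p3] at vd
    rw [pos B.signY p4] at hvθ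
    obtain ⟨g₁, g₂, g₃, hF⟩ := (show Five M S a b d θ fivePerm from ⟨hp, hmem, hnd,
      by simpa using va, by simpa using vb, by simpa using vd, by simpa using hvθ,
      fun g hg => by
        have h2 := hrel g hg
        rw [pos sa p1, pos sb p2, pos sd p3, pos B.signY p4] at h2
        simpa using h2⟩).sorted
    exact ⟨_, _, _, _, hF⟩
  · obtain ⟨⟨p1, p2, p3, p4⟩, hp⟩ := h1
    rw [pos sb p1] at vb
    rw [pos sd p2] at vd
    rw [neg B.signY p3] at hvθ
    rw [neg sa p4] at va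
    have hp' : List.Perm [trivIrr G, a, b, d, θ] [trivIrr G, b, d, θ, a] :=
      List.Perm.cons _ (List.perm_append_comm (l₁ := [a]) (l₂ := [b, d, θ]))
    obtain ⟨g₁, g₂, g₃, hF⟩ := (show Five M S b d θ a fivePerm from ⟨hp,
      fun φ => (hmem φ).trans hp'.mem_iff, hp'.nodup_iff.1 hnd,
      by simpa using vb, by simpa using vd, by simpa using hvθ, by simpa using va,
      fun g hg => by
        have h2 := hrel g hg
        rw [pos sb p1, pos sd p2, neg B.signY p3, neg sa p4] at h2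
        push_cast at h2
        linear_combination h2⟩).sorted
    exact ⟨_, _, _, _, hF⟩
  · obtain ⟨⟨p1, p2, p3, p4⟩, hp⟩ := h1
    rw [pos sa p1] at va
    rw [pos sd p2] at vd
    rw [neg B.signY p3] at hvθ
    rw [neg sb p4] at vb
    have hp' : List.Perm [trivIrr G, a, b, d, θ] [trivIrr G, a, d, θ, b] :=
      List.Perm.cons _ (List.Perm.cons _ (List.perm_append_comm (l₁ := [b]) (l₂ := [d, θ])))
    obtain ⟨g₁, g₂, g₃, hF⟩ := (show Five M S a d θ b fivePerm from ⟨hp,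
      fun φ => (hmem φ).trans hp'.mem_iff, hp'.nodup_iff.1 hnd,
      by simpa using va, by simpa using vd, by simpa using hvθ, by simpa using vb,
      fun g hg => by
        have h2 := hrel g hg
        rw [pos sa p1, pos sd p2, neg B.signY p3, neg sb p4] at h2
        push_cast at h2
        linear_combination h2⟩).sorted
    exact ⟨_, _, _, _, hF⟩
  · obtain ⟨⟨p1, p2, p3, p4⟩, hp⟩ := h1
    rw [pos sa p1] at va
    rw [pos sb p2] at vb
    rw [neg B.signY p3] at hvθ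
    rw [neg sd p4] at vd
    have hp' : List.Perm [trivIrr G, a, b, d, θ] [trivIrr G, a, b, θ, d] :=
      List.Perm.cons _ (List.Perm.cons _ (List.Perm.cons _ (List.Perm.swap θ d [])))
    obtain ⟨g₁, g₂, g₃, hF⟩ := (show Five M S a b θ d fivePerm from ⟨hp,
      fun φ => (hmem φ).trans hp'.mem_iff, hp'.nodup_iff.1 hnd,
      by simpa using va, by simpa using vb, by simpa using hvθ, by simpa using vd,
      fun g hg => by
        have h2 := hrel g hg
        rw [pos sa p1, pos sb p2, neg B.signY p3, neg sd p4] at h2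
        push_cast at h2
        linear_combination h2⟩).sorted
    exact ⟨_, _, _, _, hF⟩

/-- The degrees of a pattern divide `4 (1 + 5 n)`. -/
theorem Five.dvd {f₁ f₂ f₃ f₄ : IrrCharacter G} {L : List (ℕ × ℕ × ℕ × ℕ)}
    (F : Five M S f₁ f₂ f₃ f₄ L) (hM : IsPModular 5 M) (h : Setup G 5 S) (num : Num S c 4 n)
    (B : Blk M S 4 s X Y sg ε) {φ : IrrCharacter G} (hφ : φ ∈ [trivIrr G, f₁, f₂, f₃, f₄]) :
    charDegree (φ : G → ℂ) ∣ 4 * (1 + n * 5) :=
  ((B.mem φ).1 ((F.mem φ).2 hφ)).elim (fun h1 => B.dvdX h num h1) (fun h1 => B.dvdY hM h num h1)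

end Block

/-- **The Sylow subgroups of order five**: centralizer 15, normalizer 60, and the block. -/
theorem sylow_five (hcard : Nat.card G = 10200960) [Fact (Nat.Prime 5)] (S : Sylow 5 G) :
    Nat.card (Sylow 5 G) = 170016 ∧
    Nat.card (Subgroup.centralizer ((S : Subgroup G) : Set G)) = 15 ∧
    Nat.card (Subgroup.normalizer ((S : Subgroup G) : Set G)) = 60 ∧
    ∃ M : Ideal AlgInt, M.IsPrime ∧ IsPModular 5 M ∧
      ∃ f₁ f₂ f₃ f₄, Five M S f₁ f₂ f₃ f₄ fivePat := by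
  classical
  have h : Setup G 5 S := setup hcard S (m := 2040192) (by norm_num) (by norm_num)
  haveI : Fact (Nat.Prime 11) := ⟨by norm_num⟩
  haveI : Fact (Nat.Prime 23) := ⟨by norm_num⟩
  have h11 := not_dvd_cent h (q := 11) (k := 11)
    (fun z hz => centralizer_eleven hcard hz) (by norm_num)
  have h23 := not_dvd_cent h (q := 23) (k := 23)
    (fun z hz => centralizer_twentyThree hcard hz) (by norm_num)
  obtain ⟨n, hn⟩ : ∃ n, Nat.card (Sylow 5 G) = 1 + n * 5 := by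
    have hm : Nat.card (Sylow 5 G) % 5 = 1 := card_sylow_modEq_one 5 G
    exact ⟨Nat.card (Sylow 5 G) / 5, by omega⟩
  obtain ⟨c, e, num⟩ := exists_num h hn
  obtain ⟨M, hM⟩ := exists_isPModular (Fact.out : Nat.Prime 5)
  haveI := hM.2.1.isPrime
  obtain ⟨s, X, Y, sg, ε, B⟩ := exists_blk hM h num
  have hG := num.cardG
  rw [hcard] at hG
  rw [num.cardC] at h11 h23
  have hes := B.hes
  have he : e ∈ [2, 4] := by
    have hd : e ∣ 4 := ⟨s, by omega⟩
    have := num.epos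
    have := Nat.le_of_dvd (by norm_num) hd
    interval_cases e <;> simp_all
  have he11 : ¬ 11 ∣ c * e ∧ ¬ 23 ∣ c * e := by
    constructor <;> intro h1 <;> rcases (Nat.Prime.dvd_mul (by norm_num)).1 h1 with h2 | h2
    · exact h11 (Dvd.dvd.mul_left h2 5)
    · simp at he; rcases he with rfl | rfl <;> norm_num at h2
    · exact h23 (Dvd.dvd.mul_left h2 5)
    · simp at he; rcases he with rfl | rfl <;> norm_num at h2
  have hG' : c * e * (1 + n * 5) = 2040192 := by linarith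
  have h253 : 11 * 23 ∣ 1 + n * 5 := by
    refine Nat.Coprime.mul_dvd_of_dvd_of_dvd (by norm_num) ?_ ?_ <;>
      refine ((Nat.Prime.dvd_mul (by norm_num)).1 (by rw [hG']; norm_num)).resolve_left ?_
    exacts [he11.1, he11.2]
  obtain ⟨k, hk⟩ := h253
  have hck : c * (e * k) = 8064 := by
    rw [hk] at hG'
    refine Nat.eq_of_mul_eq_mul_left (show 0 < 253 by norm_num) ?_
    linarith
  rcases five_counts he hck (by omega) with rfl | ⟨rfl, hopt⟩
  · exact (five_not_two hcard h B).elim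
  have hc : c ≠ 1 := fun e1 => by simp [e1] at hopt
  obtain ⟨f₁, f₂, f₃, f₄, F⟩ := five_shape hcard hM h num hc B
  have hd := fun φ hφ => F.dvd hM h num B (φ := φ) hφ
  rw [hk] at hd
  have hd1 := hd f₁ (by simp)
  have hd3 := hd f₃ (by simp)
  have hd4 := hd f₄ (by simp)
  have hdeg := F.degs
  simp only [fivePat, List.mem_cons, Prod.mk.injEq, List.not_mem_nil, or_false] at hdeg hopt
  have hc3 : c = 3 := by
    rcases hdeg with ⟨e1, -, e3, e4⟩ | ⟨e1, -, e3, e4⟩
    · rw [e1] at hd1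
      rw [e3] at hd3
      rw [e4] at hd4
      rcases hopt with ⟨rfl, rfl⟩ | ⟨rfl, rfl⟩ | ⟨rfl, rfl⟩ | ⟨rfl, rfl⟩ | ⟨rfl, rfl⟩ | ⟨rfl, rfl⟩ |
        ⟨rfl, rfl⟩ | ⟨rfl, rfl⟩ | ⟨rfl, rfl⟩ <;>
          first | rfl | (norm_num at hd3; done) | (norm_num at hd4; done) | skip
      · exfalso
        haveI : Fact (Nat.Prime 7) := ⟨by norm_num⟩
        obtain ⟨⟨y, hy⟩, hyo⟩ := exists_prime_orderOf_dvd_card'
          (G := Subgroup.centralizer ((S : Subgroup G) : Set G)) 7 (by rw [num.cardC]; norm_num)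
        rw [Subgroup.orderOf_mk] at hyo
        obtain ⟨j, hj⟩ := int_value_twentyThree hcard (φ := f₁) (y := y) (by rw [e1]; decide)
          (by rw [hyo]; norm_num)
        refine no_prime (q := 7) hM h ((F.mem f₁).2 (by simp)) (fun e5 => ?_) (by norm_num) hy hyo
          (value_pow f₁ hyo hj) (by
            show (charDegree (f₁ : G → ℂ) : ℤ) < _
            rw [e1]; norm_num)
        have h5 := deg_trivIrr (G := G)
        rw [← e5] at h5
        change (charDegree (f₁ : G → ℂ) : ℤ) = 1 at h5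
        rw [e1] at h5
        norm_num at h5
    · rw [e3] at hd3
      rcases hopt with ⟨rfl, rfl⟩ | ⟨rfl, rfl⟩ | ⟨rfl, rfl⟩ | ⟨rfl, rfl⟩ | ⟨rfl, rfl⟩ | ⟨rfl, rfl⟩ |
        ⟨rfl, rfl⟩ | ⟨rfl, rfl⟩ | ⟨rfl, rfl⟩ <;> first | rfl | (norm_num at hd3; done)
  subst hc3
  have hk672 : k = 672 := by omega
  subst hk672
  exact ⟨by rw [hn, hk], num.cardC, num.cardN, M, inferInstance, hM, f₁, f₂, f₃, f₄, F⟩

theorem centralizer_five (hcard : Nat.card G = 10200960) {z : G} (hz : orderOf z = 5) :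
    Nat.card (Subgroup.centralizer ({z} : Set G)) = 15 ∧
      Nat.card (Subgroup.normalizer (Subgroup.zpowers z : Set G)) = 60 := by
  haveI : Fact (Nat.Prime 5) := ⟨by norm_num⟩
  obtain ⟨S, -, -, hzS, hC⟩ := exists_setup hcard (k := 2040192) (by norm_num) (by norm_num) hz
  obtain ⟨-, h1, h2, -⟩ := sylow_five hcard S
  exact ⟨by rw [hC, h1], by rw [hzS, h2]⟩

end CfsgLib.M23Ord
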