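import Cfsg.Agent.M23Ord.FiveBlock
import Cfsg.Agent.M23Ord.Pairs
import Cfsg.Agent.BrauerPrime.Involution
import Cfsg.Agent.BrauerPrime.Small
import Cfsg.Agent.BlocksB.PrincipalNorm

/-!
# Simple groups of order 10200960: one class of involutions, with centralizers of order 2688

The pairs of conjugates of an involution whose product lies in the section of an element of order
five are counted by a quadratic form in the values of the principal block at five. The form is
positive, so all involutions are conjugate, and its equation leaves one order for the centralizer.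
-/

set_option autoImplicit false
set_option linter.style.haveILetI false
set_option linter.unusedSectionVars false

namespace CfsgLib.M23Ord

open Cfsg Finset CfsgLib.Block CfsgLib.Block.Chr CfsgLib.BrauerPrime CfsgLib.BrauerPairs
open CfsgLib.Cyclic (deg)

universe u

variable {G : Type u} [Group G] [Fintype G]

/-- The form of a pattern vanishes only at the degrees. -/
theorem form_zero {d₁ d₂ d₃ a₁ a₂ a₃ : ℝ} (h₁ : 0 < d₁) (h₂ : 0 < d₂) (h₃ : 0 < d₃)
    (h : 1 + a₁ ^ 2 / d₁ + a₂ ^ 2 / d₂ + a₃ ^ 2 / d₃ -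
      (1 + a₁ + a₂ + a₃) ^ 2 / (1 + d₁ + d₂ + d₃) = 0) : a₁ = d₁ := by
  have hD : 0 < 1 + d₁ + d₂ + d₃ := by linarith
  set r := (1 + a₁ + a₂ + a₃) / (1 + d₁ + d₂ + d₃) with hr
  have hid : (1 - r) ^ 2 + d₁ * (a₁ / d₁ - r) ^ 2 + d₂ * (a₂ / d₂ - r) ^ 2 +
      d₃ * (a₃ / d₃ - r) ^ 2 = 0 := by
    rw [← h, hr]
    field_simp
    ring
  have e1 := sq_nonneg (1 - r)
  have e2 := mul_nonneg h₁.le (sq_nonneg (a₁ / d₁ - r))
  have e3 := mul_nonneg h₂.le (sq_nonneg (a₂ / d₂ - r))
  have e4 := mul_nonneg h₃.le (sq_nonneg (a₃ / d₃ - r))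
  have h5 : (1 - r) ^ 2 = 0 := by linarith
  have h6 : d₁ * (a₁ / d₁ - r) ^ 2 = 0 := by linarith
  have h7 : r = 1 := by
    have := pow_eq_zero_iff (n := 2) two_ne_zero |>.1 h5
    linarith
  have h8 : a₁ / d₁ - r = 0 :=
    pow_eq_zero_iff (n := 2) two_ne_zero |>.1 ((mul_eq_zero.1 h6).resolve_left h₁.ne')
  rw [h7, sub_eq_zero, div_eq_one_iff_eq h₁.ne'] at h8
  exact h8

theorem card_two_le : ¬ 2 ^ 8 ∣ 10200960 := by norm_num

/-- The values with the centralizer order that fit the first pattern. -/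
theorem fit_first {C : ℕ} (hC : C ∈ [128, 384, 896, 1152, 2688, 8064]) {a b : ℤ} (ha : |a| ≤ 11)
    (hb : |b| ≤ 89)
    (h : 5 * (C : ℤ) ^ 2 * (11 * 736 * 759) = 3 * 10200960 * (11 * 736 * 759 + 2 * 736 * 759 * a ^ 2 +
      11 * 759 * b ^ 2 - 11 * 736 * (1 + 2 * a + b) ^ 2)) : C = 2688 := by
  have hck : (List.range 23).all (fun i => (List.range 179).all fun j =>
      let a : ℤ := (i : ℤ) - 11
      let b : ℤ := (j : ℤ) - 89
      let r : ℤ := 3 * 10200960 * (11 * 736 * 759 + 2 * 736 * 759 * (a * a) +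
        11 * 759 * (b * b) - 11 * 736 * ((1 + 2 * a + b) * (1 + 2 * a + b)))
      [128, 384, 896, 1152, 8064].all fun C : ℕ =>
        decide (5 * ((C : ℤ) * C) * (11 * 736 * 759) ≠ r)) = true := by decide +kernel
  have ha' := abs_le.1 ha
  have hb' := abs_le.1 hb
  by_contra hne
  have hC' : C ∈ [128, 384, 896, 1152, 8064] := by
    simp only [List.mem_cons, List.not_mem_nil, or_false] at hC ⊢; omega
  have h1 := List.all_eq_true.1 (all_range (all_range hck (show (a + 11).toNat < 23 by omega))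
    (show (b + 89).toNat < 179 by omega)) C hC'
  rw [Int.toNat_of_nonneg (by omega), Int.toNat_of_nonneg (by omega), add_sub_cancel_right,
    add_sub_cancel_right, decide_eq_true_eq] at h1
  exact h1 (by rw [← sq, ← sq, ← sq, ← sq]; exact h)

/-- The values with the centralizer order that fit the second pattern. -/
theorem fit_second {C : ℕ} (hC : C ∈ [128, 384, 896, 1152, 2688, 8064]) {a : ℤ} (ha : |a| ≤ 89)
    (h : 5 * (C : ℤ) ^ 2 * (231 * 2024) =
      3 * 10200960 * (231 * 2024 + 2024 * a ^ 2 - 231 * (1 + a) ^ 2)) : C = 2688 := by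
  have hck : (List.range 179).all (fun j =>
      let a : ℤ := (j : ℤ) - 89
      let r : ℤ := 3 * 10200960 * (231 * 2024 + 2024 * (a * a) - 231 * ((1 + a) * (1 + a)))
      [128, 384, 896, 1152, 8064].all fun C : ℕ =>
        decide (5 * ((C : ℤ) * C) * (231 * 2024) ≠ r)) = true := by decide +kernel
  have ha' := abs_le.1 ha
  by_contra hne
  have hC' : C ∈ [128, 384, 896, 1152, 8064] := by
    simp only [List.mem_cons, List.not_mem_nil, or_false] at hC ⊢; omega
  have h1 := List.all_eq_true.1 (all_range hck (show (a + 89).toNat < 179 by omega)) C hC'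
  rw [Int.toNat_of_nonneg (by omega), add_sub_cancel_right, decide_eq_true_eq] at h1
  exact h1 (by rw [← sq, ← sq, ← sq]; exact h)

/-- The local data at an element of order five. -/
structure FiveLocal (x y t : G) : Prop where
  ordx : orderOf x = 5
  ordy : orderOf y = 3
  ordt : orderOf t = 2
  comm : Commute x y
  inv : t * x * t⁻¹ = x⁻¹
  fix : Commute t y
  gen : ∀ h : G, Commute h x → ∃ k : ℕ, h = x ^ k * y ^ k

variable [IsSimpleGroup G]

theorem exists_fiveLocal (hcard : Nat.card G = 10200960) {x : G} (hx : orderOf x = 5) :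
    ∃ y t : G, FiveLocal x y t := by
  classical
  haveI : Fact (Nat.Prime 5) := ⟨by norm_num⟩
  haveI : Fact (Nat.Prime 3) := ⟨Nat.prime_three⟩
  haveI : Fact (Nat.Prime 2) := ⟨Nat.prime_two⟩
  obtain ⟨hC, hN⟩ := centralizer_five hcard hx
  set H := Subgroup.centralizer ({x} : Set G) with hHdef
  set N := Subgroup.normalizer (Subgroup.zpowers x : Set G) with hNdef
  obtain ⟨⟨y, hy⟩, hyo⟩ := exists_prime_orderOf_dvd_card' (G := H) 3 (by rw [hC]; norm_num)
  rw [Subgroup.orderOf_mk] at hyo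
  have hxy : Commute x y := (Subgroup.mem_centralizer_singleton_iff.1 hy).symm
  have hgen : ∀ h : G, Commute h x → ∃ k : ℕ, h = x ^ k * y ^ k := by
    have ho : orderOf (x * y) = 15 := by
      rw [hxy.orderOf_mul_eq_mul_orderOf_of_coprime (by rw [hx, hyo]; norm_num), hx, hyo]
    have he : Subgroup.zpowers (x * y) = H := Subgroup.eq_of_le_of_card_ge
      (Subgroup.zpowers_le.2 (mul_mem (Subgroup.mem_centralizer_singleton_iff.2 rfl) hy))
      (by rw [Nat.card_zpowers, ho, hC])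
    intro h hh
    have h1 : h ∈ Subgroup.zpowers (x * y) := he ▸ Subgroup.mem_centralizer_singleton_iff.2 hh.eq
    obtain ⟨k, hk⟩ := Submonoid.mem_powers_iff _ _ |>.1 (mem_powers_iff_mem_zpowers.2 h1)
    exact ⟨k, by rw [← hk, hxy.mul_pow]⟩
  have hconjN : ∀ g ∈ N, ∃ i : ℕ, i < 5 ∧ g * x * g⁻¹ = x ^ i := fun g hg => by
    have h1 := (Subgroup.mem_normalizer_iff.1 hg x).1 (Subgroup.mem_zpowers x)
    obtain ⟨k, hk⟩ := Submonoid.mem_powers_iff _ _ |>.1 (mem_powers_iff_mem_zpowers.2 h1)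
    exact ⟨k % 5, Nat.mod_lt _ (by norm_num), by rw [← hk, ← hx, pow_mod_orderOf]⟩
  -- an element squaring the generator
  obtain ⟨a, ha⟩ : ∃ a : G, a * x * a⁻¹ = x ^ 2 := by
    by_contra hno
    push Not at hno
    have hsub : (univ.filter (· ∈ N)) ⊆ ([1, 3, 4].toFinset.biUnion fun i : ℕ =>
        univ.filter fun g : G => g * x * g⁻¹ = x ^ i) := by
      intro g hg
      obtain ⟨i, hi5, hi⟩ := hconjN g (mem_filter.1 hg).2
      refine mem_biUnion.2 ⟨i, ?_, mem_filter.2 ⟨mem_univ _, hi⟩⟩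
      interval_cases i
      · rw [pow_zero, mul_inv_eq_one, mul_eq_left] at hi
        rw [hi, orderOf_one] at hx
        norm_num at hx
      · simp
      · exact absurd hi (hno g)
      · simp
      · simp
    have h1 := (card_le_card hsub).trans card_biUnion_le
    have h2 : ∀ i : ℕ, (univ.filter fun g : G => g * x * g⁻¹ = x ^ i).card ≤ 15 := fun i => by
      by_cases hc : IsConj x (x ^ i)
      · rw [card_fib x _ hc, ← hHdef, hC]
      · rw [filter_eq_empty_iff.2 fun g _ hg => hc (isConj_iff.2 ⟨g, hg⟩), card_empty]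
        norm_num
    have h3 := h1.trans (sum_le_sum fun i _ => h2 i)
    rw [← Fintype.card_subtype, ← Nat.card_eq_fintype_card, hN] at h3
    norm_num at h3
  -- an involution of the normalizer
  obtain ⟨⟨t, ht⟩, hto⟩ := exists_prime_orderOf_dvd_card' (G := N) 2 (by rw [hN]; norm_num)
  rw [Subgroup.orderOf_mk] at hto
  have htt : t * t = 1 := by rw [← sq, ← hto, pow_orderOf_eq_one]
  have hnotH : ¬ Commute t x := fun hh => by
    have h1 := orderOf_dvd_centralizer hh
    rw [hto, ← hHdef, hC] at h1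
    norm_num at h1
  have hinv : t * x * t⁻¹ = x⁻¹ := by
    obtain ⟨i, hi5, hi⟩ := hconjN t ht
    have h2 : x ^ (i * i) = x := by
      rw [pow_mul, ← hi, conj_pow, ← hi,
        show t * (t * x * t⁻¹) * t⁻¹ = (t * t) * x * (t * t)⁻¹ by group, htt]
      group
    have h3 : i * i % 5 = 1 := by
      have := pow_eq_pow_iff_modEq.1 (h2.trans (pow_one x).symm)
      rw [hx] at this
      exact this
    rcases (show i = 1 ∨ i = 4 by interval_cases i <;> simp_all) with rfl | rfl
    · rw [pow_one, mul_inv_eq_iff_eq_mul] at hi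
      exact absurd hi hnotH
    · rw [hi, eq_inv_iff_mul_eq_one, ← pow_succ, show 4 + 1 = orderOf x from hx.symm,
        pow_orderOf_eq_one]
  have hy5 : y ^ 5 ≠ 1 := fun e1 => by
    have := orderOf_dvd_of_pow_eq_one e1
    rw [hyo] at this
    norm_num at this
  -- it centralizes `y`
  have hfix : Commute t y := by
    have hnY : ∀ g : G, (∃ i : ℕ, g * x * g⁻¹ = x ^ i) → g * y * g⁻¹ = y ∨ g * y * g⁻¹ = y⁻¹ := by
      rintro g ⟨i, hi⟩
      have h1 : Commute (g * y * g⁻¹) (x ^ i) := by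
        rw [← hi]
        show g * y * g⁻¹ * (g * x * g⁻¹) = g * x * g⁻¹ * (g * y * g⁻¹)
        rw [show g * y * g⁻¹ * (g * x * g⁻¹) = g * (y * x) * g⁻¹ by group, ← hxy.eq]
        group
      have hxi : ¬ 5 ∣ i := fun hd => by
        obtain ⟨r, rfl⟩ := hd
        rw [pow_mul, ← hx, pow_orderOf_eq_one, one_pow, mul_inv_eq_one, mul_eq_left] at hi
        rw [hi, orderOf_one] at hx
        norm_num at hx
      obtain ⟨r, hr⟩ : ∃ r : ℕ, x = (x ^ i) ^ r := by
        obtain ⟨r, -, hr⟩ := Nat.exists_mul_mod_eq_one_of_coprime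
          (((Nat.Prime.coprime_iff_not_dvd (by norm_num : Nat.Prime 5)).2 hxi).symm) (by norm_num)
        refine ⟨r, ?_⟩
        conv_lhs => rw [← pow_one x]
        rw [← pow_mul, pow_eq_pow_iff_modEq, hx, Nat.ModEq, hr]
      have h1' : Commute (g * y * g⁻¹) x := hr ▸ h1.pow_right r
      obtain ⟨k, hk⟩ := hgen _ h1'
      have h3 : (g * y * g⁻¹) ^ 3 = 1 := by
        rw [conj_pow, ← hyo, pow_orderOf_eq_one, mul_one, mul_inv_cancel]
      rw [hk, hxy.pow_pow k k |>.mul_pow, ← pow_mul x, ← pow_mul y, mul_comm k 3, pow_mul y, ← hyo,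
        pow_orderOf_eq_one, one_pow, mul_one, hyo] at h3
      have h5 : 5 ∣ k := by
        have := orderOf_dvd_of_pow_eq_one h3
        rw [hx] at this
        exact (Nat.Coprime.dvd_mul_left (by norm_num)).1 this
      obtain ⟨q, rfl⟩ := h5
      rw [pow_mul x, ← hx, pow_orderOf_eq_one, one_pow, one_mul, hx] at hk
      rw [hk]
      have h4 : 5 * q % 3 = 1 ∨ 5 * q % 3 = 2 := by
        have h0 : 5 * q % 3 ≠ 0 := fun e0 => by
          rw [← pow_mod_orderOf, hyo, e0, pow_zero, mul_inv_eq_one, mul_eq_left] at hk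
          rw [hk, orderOf_one] at hyo
          norm_num at hyo
        omega
      rw [← pow_mod_orderOf, hyo]
      rcases h4 with h4 | h4 <;> rw [h4]
      · exact Or.inl (pow_one y)
      · exact Or.inr (by rw [eq_inv_iff_mul_eq_one, ← pow_succ, show 2 + 1 = orderOf y from hyo.symm,
          pow_orderOf_eq_one])
    have haa : (a * a) * y * (a * a)⁻¹ = y := by
      rcases hnY a ⟨2, ha⟩ with h1 | h1
      · rw [show a * a * y * (a * a)⁻¹ = a * (a * y * a⁻¹) * a⁻¹ by group, h1, h1]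
      · rw [show a * a * y * (a * a)⁻¹ = a * (a * y * a⁻¹) * a⁻¹ by group, h1, ← conj_inv, h1, inv_inv]
    have hax : (a * a) * x * (a * a)⁻¹ = x⁻¹ := by
      rw [show a * a * x * (a * a)⁻¹ = a * (a * x * a⁻¹) * a⁻¹ by group, ha, ← conj_pow, ha,
        ← pow_mul, eq_inv_iff_mul_eq_one, ← pow_succ, show 2 * 2 + 1 = orderOf x from hx.symm,
        pow_orderOf_eq_one]
    have hc : Commute (t * (a * a)) x := by
      refine mul_inv_eq_iff_eq_mul.1 ?_
      rw [show t * (a * a) * x * (t * (a * a))⁻¹ = t * (a * a * x * (a * a)⁻¹) * t⁻¹ by group, hax,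
        ← conj_inv, hinv, inv_inv]
    obtain ⟨k, hk⟩ := hgen _ hc
    have hky : (t * (a * a)) * y * (t * (a * a))⁻¹ = y := by
      rw [hk]
      exact mul_inv_eq_iff_eq_mul.2 ((hxy.pow_left k).mul_left (Commute.pow_self y k)).eq
    rw [show t * (a * a) * y * (t * (a * a))⁻¹ = t * (a * a * y * (a * a)⁻¹) * t⁻¹ by group, haa]
      at hky
    exact mul_inv_eq_iff_eq_mul.1 hky
  exact ⟨y, t, hx, hyo, hto, hxy, hinv, hfix, hgen⟩

/-- The involutions inverting the element of order five are five conjugates of one of them. -/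
theorem FiveLocal.inverters {x y t : G} (L : FiveLocal x y t) {u : G} (hu : u * u = 1)
    (hux : u * x * u⁻¹ = x⁻¹) : ∃ i < 5, u = t * x ^ i := by
  have htt : t * t = 1 := by rw [← sq, ← L.ordt, pow_orderOf_eq_one]
  have ht' : t⁻¹ = t := inv_eq_of_mul_eq_one_right htt
  have hc : Commute (t * u) x := by
    refine mul_inv_eq_iff_eq_mul.1 ?_
    rw [show t * u * x * (t * u)⁻¹ = t * (u * x * u⁻¹) * t⁻¹ by group, hux, ← conj_inv, L.inv,
      inv_inv]
  obtain ⟨k, hk⟩ := L.gen _ hc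
  have hu' : u = t * (x ^ k * y ^ k) := by rw [← hk, ← mul_assoc, htt, one_mul]
  have h2 : y ^ k * y ^ k = 1 := by
    have h1 : t * (x ^ k * y ^ k) * t⁻¹ = (x ^ k)⁻¹ * y ^ k := by
      rw [show t * (x ^ k * y ^ k) * t⁻¹ = t * x ^ k * t⁻¹ * (t * y ^ k * t⁻¹) by group, ← conj_pow,
        L.inv, inv_pow, mul_inv_eq_iff_eq_mul.2 (L.fix.pow_right k).eq]
    calc y ^ k * y ^ k = (x ^ k)⁻¹ * y ^ k * (x ^ k * y ^ k) := by
          rw [show (x ^ k)⁻¹ * y ^ k * (x ^ k * y ^ k) = (x ^ k)⁻¹ * (y ^ k * x ^ k) * y ^ k by group,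
            ← (L.comm.pow_pow k k).eq]
          group
      _ = t * (x ^ k * y ^ k) * t⁻¹ * (x ^ k * y ^ k) := by rw [h1]
      _ = u * u := by rw [hu', ht']; group
      _ = 1 := hu
  have h3 : 3 ∣ k := by
    rw [← pow_add] at h2
    have := orderOf_dvd_of_pow_eq_one h2
    rw [L.ordy] at this
    omega
  refine ⟨k % 5, Nat.mod_lt _ (by norm_num), ?_⟩
  obtain ⟨r, rfl⟩ := h3
  rw [hu', pow_mul y, ← L.ordy, pow_orderOf_eq_one, one_pow, mul_one, L.ordy, ← L.ordx,
    pow_mod_orderOf]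

theorem FiveLocal.isConj {x y t : G} (L : FiveLocal x y t) (i : ℕ) : IsConj t (t * x ^ i) := by
  refine isConj_iff.2 ⟨(x ^ (3 * i))⁻¹, ?_⟩
  have h1 : t * x ^ (3 * i) * t⁻¹ = (x ^ (3 * i))⁻¹ := by rw [← conj_pow, L.inv, inv_pow]
  rw [inv_inv, ← h1]
  have h2 : x ^ (3 * i) * x ^ (3 * i) = x ^ i := by
    rw [← pow_add, pow_eq_pow_iff_modEq, L.ordx, Nat.ModEq]
    omega
  have htt : t⁻¹ = t := inv_eq_of_mul_eq_one_right (by rw [← sq, ← L.ordt, pow_orderOf_eq_one])
  rw [htt, ← h2]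
  have h3 : t * t = 1 := by rw [← sq, ← L.ordt, pow_orderOf_eq_one]
  calc t * x ^ (3 * i) * t * t * x ^ (3 * i) = t * x ^ (3 * i) * (t * t) * x ^ (3 * i) := by group
    _ = t * (x ^ (3 * i) * x ^ (3 * i)) := by rw [h3, mul_one]; group

open Classical in
/-- **The pairs in the section.** -/
theorem FiveLocal.pairs [Fact (Nat.Prime 5)] {M : Ideal AlgInt} [M.IsPrime] (hM : IsPModular 5 M)
    (hcard : Nat.card G = 10200960) {x y t : G} (L : FiveLocal x y t)
    [Fintype (IrrCharacter G)] (z : G) (hz : orderOf z = 2) :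
    ((if IsConj t z then 5 else 0 : ℕ) : ℂ) *
        (Nat.card (Subgroup.centralizer ({z} : Set G)) : ℂ) ^ 2 =
      (10200960 : ℂ) * 3 * ∑ χ ∈ univ.filter (· ∈ principalBlock M G),
        (χ : G → ℂ) x * ((χ : G → ℂ) z ^ 2 / (χ : G → ℂ) 1) := by
  set H := Subgroup.centralizer ({x} : Set G) with hHdef
  have hH : Nat.card H = 15 := (centralizer_five hcard L.ordx).1
  have hyH : y ∈ H := Subgroup.mem_centralizer_singleton_iff.2 L.comm.eq.symm
  set Y := Subgroup.zpowers (⟨y, hyH⟩ : H) with hYdef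
  have hY : Nat.card Y = 3 := by rw [Nat.card_zpowers, Subgroup.orderOf_mk, L.ordy]
  have hYv : ∀ s : H, s ∈ Y → ∃ j : ℕ, (s : G) = y ^ j := fun s hs => by
    obtain ⟨j, hj⟩ := Submonoid.mem_powers_iff _ _ |>.1 (mem_powers_iff_mem_zpowers.2 hs)
    exact ⟨j, by rw [← hj]; rfl⟩
  haveI : Y.Normal := ⟨fun n hn g => by
    obtain ⟨j, hj⟩ := hYv n hn
    obtain ⟨k, hk⟩ := L.gen (g : G) (Subgroup.mem_centralizer_singleton_iff.1 g.2)
    have : g * n * g⁻¹ = n := by
      refine mul_inv_eq_iff_eq_mul.2 (Subtype.ext ?_)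
      show (g : G) * (n : G) = (n : G) * g
      rw [hj, hk]
      exact (((L.comm.pow_pow k j)).mul_left (Commute.pow_pow_self y k j)).eq
    rwa [this]⟩
  have hidx : Y.index = 5 := by
    have h1 := Y.card_mul_index
    rw [hY, hH] at h1
    omega
  haveI : Fintype Y := Fintype.ofFinite _
  have hcount := section_pairs hM L.ordx Y (by rw [hY]; norm_num) hidx z
  set U := univ.filter fun uv : G × G =>
    IsConj z uv.1 ∧ IsConj z uv.2 ∧ ∃ s ∈ Y, uv.1 * uv.2 = (x * (s : G))⁻¹ with hUdef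
  have hfib : (univ.filter fun gh : G × G => ∃ s ∈ Y,
      gh.1 * z * gh.1⁻¹ * (gh.2 * z * gh.2⁻¹) = (x * (s : G))⁻¹).card =
      U.card * (Nat.card (Subgroup.centralizer ({z} : Set G)) *
        Nat.card (Subgroup.centralizer ({z} : Set G))) := by
    rw [card_eq_sum_card_fiberwise (f := fun gh : G × G => (gh.1 * z * gh.1⁻¹, gh.2 * z * gh.2⁻¹))
      (t := U)]
    · refine sum_const_nat fun uv huv => ?_
      obtain ⟨-, hu, hv, s, hs, he⟩ := mem_filter.1 huv
      rw [← card_fib z uv.1 hu]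
      nth_rewrite 2 [card_fib z uv.1 hu]
      rw [← card_fib z uv.2 hv, ← card_product]
      refine congrArg Finset.card (Finset.ext fun gh => ?_)
      simp only [mem_filter, mem_univ, true_and, mem_product, Prod.ext_iff]
      exact ⟨fun hh => hh.2, fun hh => ⟨⟨s, hs, by rw [hh.1, hh.2]; exact he⟩, hh⟩⟩
    · intro gh hgh
      exact mem_filter.2 ⟨mem_univ _, isConj_iff.2 ⟨gh.1, rfl⟩, isConj_iff.2 ⟨gh.2, rfl⟩,
        (mem_filter.1 hgh).2⟩
  have hinv : ∀ u : G, IsConj z u → u * u = 1 := fun u hu => by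
    obtain ⟨g, rfl⟩ := isConj_iff.1 hu
    rw [← sq, conj_pow, ← hz, pow_orderOf_eq_one, mul_one, mul_inv_cancel]
  -- the shape of a pair
  have hshape : ∀ uv ∈ U, ∃ i < 5, uv = (t * x ^ i, t * x ^ i * x⁻¹) := by
    intro uv huv
    obtain ⟨-, hu, hv, s, hs, he⟩ := mem_filter.1 huv
    obtain ⟨j, hj⟩ := hYv s hs
    rw [hj] at he
    have hui : uv.1⁻¹ = uv.1 := inv_eq_of_mul_eq_one_right (hinv _ hu)
    have hvi : uv.2⁻¹ = uv.2 := inv_eq_of_mul_eq_one_right (hinv _ hv)
    have hxj : Commute x (y ^ j) := L.comm.pow_right j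
    have hflip : uv.1 * (x * y ^ j) * uv.1⁻¹ = (x * y ^ j)⁻¹ := by
      have hw : x * y ^ j = uv.2 * uv.1 := by
        rw [← inv_inv (x * y ^ j), ← he, _root_.mul_inv_rev, hui, hvi]
      rw [hw, _root_.mul_inv_rev, hui, hvi, mul_assoc, mul_assoc, hinv _ hu, mul_one]
    have hpow : (x * y ^ j) ^ 6 = x := by
      rw [hxj.mul_pow, ← pow_mul y, mul_comm j, show 6 * j = 3 * (2 * j) by ring, pow_mul y,
        ← L.ordy, pow_orderOf_eq_one, one_pow, mul_one, pow_succ, ← L.ordx, pow_orderOf_eq_one,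
        one_mul]
    have h2 := congrArg (fun w : G => w ^ 6) hflip
    simp only [conj_pow, inv_pow, hpow] at h2
    obtain ⟨i, hi, hui'⟩ := L.inverters (hinv _ hu) h2
    have hcomm : Commute uv.1 (y ^ j) := by
      rw [hui']
      exact ((L.fix.mul_left (L.comm.pow_left i))).pow_right j
    have hy2 : y ^ j * y ^ j = 1 := by
      rw [show uv.1 * (x * y ^ j) * uv.1⁻¹ = uv.1 * x * uv.1⁻¹ * (uv.1 * y ^ j * uv.1⁻¹) by group,
        h2, mul_inv_eq_iff_eq_mul.2 hcomm.eq, _root_.mul_inv_rev, (hxj.inv_left).eq] at hflip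
      have h3 := mul_right_cancel hflip
      calc y ^ j * y ^ j = y ^ j * (y ^ j)⁻¹ := by rw [← h3]
        _ = 1 := mul_inv_cancel _
    have hyj : y ^ j = 1 := by
      have h4 : 3 ∣ j := by
        rw [← pow_add] at hy2
        have := orderOf_dvd_of_pow_eq_one hy2
        rw [L.ordy] at this
        omega
      obtain ⟨r, rfl⟩ := h4
      rw [pow_mul, ← L.ordy, pow_orderOf_eq_one, one_pow]
    rw [hyj, mul_one] at he
    refine ⟨i, hi, Prod.ext hui' ?_⟩
    rw [← hui', ← he, ← mul_assoc, hinv _ hu, one_mul]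
  have hU : U.card = if IsConj t z then 5 else 0 := by
    by_cases hc : IsConj t z
    · rw [if_pos hc]
      have hset : U = (range 5).image fun i : ℕ => (t * x ^ i, t * x ^ i * x⁻¹) := by
        refine Finset.ext fun uv => ⟨fun huv => ?_, fun huv => ?_⟩
        · obtain ⟨i, hi, rfl⟩ := hshape uv huv
          exact mem_image.2 ⟨i, mem_range.2 hi, rfl⟩
        · obtain ⟨i, -, rfl⟩ := mem_image.1 huv
          have htx : ∀ k : ℕ, t * x ^ k * (t * x ^ k) = 1 := fun k => by
            have h1 : t * x ^ k * t⁻¹ = (x ^ k)⁻¹ := by rw [← conj_pow, L.inv, inv_pow]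
            have htt : t⁻¹ = t := inv_eq_of_mul_eq_one_right (by rw [← sq, ← L.ordt, pow_orderOf_eq_one])
            calc t * x ^ k * (t * x ^ k) = t * x ^ k * t⁻¹ * x ^ k := by
                  rw [htt]; simp only [mul_assoc]
              _ = 1 := by rw [h1, inv_mul_cancel]
          refine mem_filter.2 ⟨mem_univ _, hc.symm.trans (L.isConj i), hc.symm.trans ?_,
            1, one_mem _, ?_⟩
          · have h4 : x⁻¹ = x ^ 4 := by
              rw [inv_eq_iff_mul_eq_one, ← pow_succ', show 4 + 1 = orderOf x from L.ordx.symm,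
                pow_orderOf_eq_one]
            rw [h4, mul_assoc, ← pow_add]
            exact L.isConj _
          · rw [OneMemClass.coe_one, mul_one, ← mul_assoc, htx, one_mul]
      rw [hset, card_image_of_injOn fun a ha b hb hab => ?_, card_range]
      have h1 := mul_left_cancel (congrArg Prod.fst hab)
      rw [pow_eq_pow_iff_modEq, L.ordx, Nat.ModEq] at h1
      rw [coe_range, Set.mem_Iio] at ha hb
      omega
    · rw [if_neg hc, card_eq_zero, eq_empty_iff_forall_notMem]
      intro uv huv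
      obtain ⟨i, -, rfl⟩ := hshape uv huv
      exact hc ((L.isConj i).trans (mem_filter.1 huv).2.1.symm)
  rw [hfib, hY, hcard, hU] at hcount
  push_cast at hcount ⊢
  linear_combination hcount

open Classical in
/-- **All involutions are conjugate, with centralizers of order 2688.** -/
theorem involution_class (hcard : Nat.card G = 10200960) :
    (∀ z z' : G, orderOf z = 2 → orderOf z' = 2 → IsConj z z') ∧
      ∀ z : G, orderOf z = 2 → Nat.card (Subgroup.centralizer ({z} : Set G)) = 2688 := by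
  haveI : Fact (Nat.Prime 5) := ⟨by norm_num⟩
  haveI : Fact (Nat.Prime 2) := ⟨Nat.prime_two⟩
  letI := irrFintype (G := G)
  obtain ⟨S⟩ : Nonempty (Sylow 5 G) := inferInstance
  have h : Setup G 5 S := setup hcard S (m := 2040192) (by norm_num) (by norm_num)
  obtain ⟨-, -, -, M, hprime, hM, f₁, f₂, f₃, f₄, F⟩ := sylow_five hcard S
  haveI := hprime
  obtain ⟨x, hxS, hx1⟩ := exists_ne_one h
  obtain ⟨y, t, L⟩ := exists_fiveLocal hcard (orderOf_eq h hxS hx1)
  have hnd := F.nodup
  simp only [List.nodup_cons, List.mem_cons, List.not_mem_nil, or_false, not_or, List.nodup_nil,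
    and_true, not_false_eq_true] at hnd
  obtain ⟨⟨n1, n2, n3, n4⟩, ⟨n5, n6, n7⟩, ⟨n8, n9⟩, n10⟩ := hnd
  have hfilter : univ.filter (· ∈ principalBlock M G) = {trivIrr G, f₁, f₂, f₃, f₄} := by
    ext φ
    simp [F.mem φ]
  -- the form
  have key : ∀ z : G, orderOf z = 2 → ∃ a₁ a₂ a₃ : ℤ, (f₁ : G → ℂ) z = a₁ ∧ (f₂ : G → ℂ) z = a₂ ∧
      (f₃ : G → ℂ) z = a₃ ∧ |a₁| ≤ deg f₁ ∧
      (1 + a₁ ^ 2 + a₂ ^ 2 + a₃ ^ 2 : ℤ) ≤ (Nat.card (Subgroup.centralizer ({z} : Set G)) : ℤ) ∧
      ((if IsConj t z then 5 else 0 : ℕ) : ℝ) *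
        (Nat.card (Subgroup.centralizer ({z} : Set G)) : ℝ) ^ 2 = 10200960 * 3 *
        (1 + (a₁ : ℝ) ^ 2 / (deg f₁ : ℝ) + (a₂ : ℝ) ^ 2 / (deg f₂ : ℝ) + (a₃ : ℝ) ^ 2 / (deg f₃ : ℝ) -
          (1 + (a₁ : ℝ) + a₂ + a₃) ^ 2 / (1 + (deg f₁ : ℝ) + deg f₂ + deg f₃)) := by
    intro z hz
    have hz2 : z ^ 2 = 1 := by rw [← hz, pow_orderOf_eq_one]
    have hreg : ¬ 5 ∣ orderOf z := by rw [hz]; norm_num
    obtain ⟨a₁, h1, hb1⟩ := exists_int_value f₁ hz2
    obtain ⟨a₂, h2, -⟩ := exists_int_value f₂ hz2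
    obtain ⟨a₃, h3, -⟩ := exists_int_value f₃ hz2
    refine ⟨a₁, a₂, a₃, h1, h2, h3, hb1, ?_, ?_⟩
    · have hcol := CfsgLib.PrincipalNorm.normSq_le (M := M) (G := G) z
      rw [finsum_set_eq, hfilter, sum_insert (by simp [n1, n2, n3, n4]),
        sum_insert (by simp [n5, n6, n7]), sum_insert (by simp [n8, n9]), sum_pair n10, trivIrr_apply,
        h1, h2, h3, map_one] at hcol
      have hnn := Complex.normSq_nonneg ((f₄ : G → ℂ) z)
      have hn : ∀ i : ℤ, Complex.normSq (i : ℂ) = (i : ℝ) ^ 2 := fun i => by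
        rw [show (i : ℂ) = ((i : ℝ) : ℂ) by push_cast; rfl, Complex.normSq_ofReal]; ring
      rw [hn, hn, hn] at hcol
      have h' : ((1 + a₁ ^ 2 + a₂ ^ 2 + a₃ ^ 2 : ℤ) : ℝ) ≤
          (((Nat.card (Subgroup.centralizer ({z} : Set G)) : ℤ)) : ℝ) := by push_cast; linarith
      exact_mod_cast h'
    · have hp := L.pairs hM hcard z hz
      rw [hfilter, sum_insert (by simp [n1, n2, n3, n4]), sum_insert (by simp [n5, n6, n7]),
        sum_insert (by simp [n8, n9]), sum_pair n10, trivIrr_apply, trivIrr_apply, trivIrr_apply,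
        F.val₁ x hxS hx1, F.val₂ x hxS hx1, F.val₃ x hxS hx1, F.val₄ x hxS hx1, F.rel z hreg,
        F.rel 1 (by rw [orderOf_one]; norm_num), h1, h2, h3, apply_one_eq, apply_one_eq,
        apply_one_eq] at hp
      generalize (if IsConj t z then 5 else 0 : ℕ) = w at hp ⊢
      apply Complex.ofReal_injective
      push_cast at hp ⊢
      linear_combination hp
  have hpos : ∀ φ : IrrCharacter G, (0 : ℝ) < (deg φ : ℝ) := fun φ => by exact_mod_cast deg_pos φ
  have hconj : ∀ z : G, orderOf z = 2 → IsConj t z := by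
    intro z hz
    by_contra hc
    obtain ⟨a₁, a₂, a₃, h1, -, -, -, -, he⟩ := key z hz
    rw [if_neg hc, Nat.cast_zero, zero_mul] at he
    have h0 := (mul_eq_zero.1 he.symm).resolve_left (by norm_num)
    have h4 : a₁ = deg f₁ := by exact_mod_cast form_zero (hpos f₁) (hpos f₂) (hpos f₃) h0
    have h5 := faithful_of_simple h (Ne.symm n1) z (by rw [h1, h4, apply_one_eq])
    rw [h5, orderOf_one] at hz
    norm_num at hz
  refine ⟨fun z z' hz hz' => (hconj z hz).symm.trans (hconj z' hz'), ?_⟩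
  have hsame : ∀ z : G, orderOf z = 2 → Nat.card (Subgroup.centralizer ({z} : Set G)) =
      Nat.card (Subgroup.centralizer ({t} : Set G)) := fun z hz => by
    have h1 := CfsgLib.Char.card_conj_class_mul_card_centralizer z
    have h2 := CfsgLib.Char.card_conj_class_mul_card_centralizer t
    rw [show Nat.card {v : G // IsConj z v} = Nat.card {v : G // IsConj t v} from
      Nat.card_congr (Equiv.subtypeEquivRight fun v =>
        ⟨fun hv => (hconj z hz).trans hv, fun hv => (hconj z hz).symm.trans hv⟩), ← h2] at h1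
    exact Nat.eq_of_mul_eq_mul_left (@Nat.card_pos _ ⟨⟨t, IsConj.refl t⟩⟩ _) h1
  intro z hz
  rw [hsame z hz]
  set C := Nat.card (Subgroup.centralizer ({t} : Set G)) with hCdef
  have hCG : C ∣ 10200960 := hcard ▸ Subgroup.card_subgroup_dvd_card _
  -- a full Sylow 2-subgroup centralizes some involution
  have h128 : 128 ∣ C := by
    obtain ⟨P⟩ : Nonempty (Sylow 2 G) := inferInstance
    have hP : Nat.card (P : Subgroup G) = 128 := by
      simpa using CfsgLib.SmallSimple.card_sylow_eq P (k := 7) (m := 79695) (by rw [hcard]; norm_num)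
        (by norm_num)
    haveI : Nontrivial (P : Subgroup G) := Finite.one_lt_card_iff_nontrivial.1 (by rw [hP]; norm_num)
    haveI := (P.isPGroup').center_nontrivial
    obtain ⟨k, hk, hk'⟩ := ((P.isPGroup').to_subgroup (Subgroup.center (P : Subgroup G))).nontrivial_iff_card.1
      inferInstance
    obtain ⟨⟨⟨z₀, hz₀P⟩, hz₀Z⟩, hz₀⟩ := exists_prime_orderOf_dvd_card'
      (G := Subgroup.center (P : Subgroup G)) 2 (hk' ▸ dvd_pow_self 2 hk.ne')
    rw [Subgroup.orderOf_mk, Subgroup.orderOf_mk] at hz₀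
    rw [← hP, ← hsame z₀ hz₀]
    refine Subgroup.card_dvd_of_le fun g hg => Subgroup.mem_centralizer_singleton_iff.2 ?_
    exact congrArg Subtype.val (Subgroup.mem_center_iff.1 hz₀Z ⟨g, hg⟩)
  have hno : ∀ q : ℕ, q.Prime → (∀ v : G, orderOf v = q →
      ¬ 2 ∣ Nat.card (Subgroup.centralizer ({v} : Set G))) → ¬ q ∣ C := fun q hq hv hd => by
    haveI := Fact.mk hq
    obtain ⟨⟨v, hvC⟩, hvo⟩ := exists_prime_orderOf_dvd_card'
      (G := Subgroup.centralizer ({t} : Set G)) q hd
    rw [Subgroup.orderOf_mk] at hvo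
    exact hv v hvo (L.ordt ▸ orderOf_dvd_centralizer
      (Subgroup.mem_centralizer_singleton_iff.1 hvC : Commute v t).symm)
  have h5 := hno 5 (by norm_num) fun v hv => by rw [(centralizer_five hcard hv).1]; norm_num
  have h11 := hno 11 (by norm_num) fun v hv => by rw [centralizer_eleven hcard hv]; norm_num
  have h23 := hno 23 (by norm_num) fun v hv => by rw [centralizer_twentyThree hcard hv]; norm_num
  have h8064 : C ∣ 8064 := by
    have hco : Nat.Coprime C (5 * (11 * 23)) := Nat.Coprime.mul_right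
      ((Nat.Prime.coprime_iff_not_dvd (by norm_num)).2 h5).symm
      (Nat.Coprime.mul_right ((Nat.Prime.coprime_iff_not_dvd (by norm_num)).2 h11).symm
        ((Nat.Prime.coprime_iff_not_dvd (by norm_num)).2 h23).symm)
    exact hco.dvd_of_dvd_mul_left hCG
  have hCmem : C ∈ [128, 384, 896, 1152, 2688, 8064] := by
    obtain ⟨k, hk⟩ := h128
    have hk63 : k ∈ Nat.divisors 63 := Nat.mem_divisors.2
      ⟨Nat.dvd_of_mul_dvd_mul_left (by norm_num : 0 < 128) (hk ▸ h8064 : 128 * k ∣ 128 * 63),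
        by norm_num⟩
    rw [show Nat.divisors 63 = {1, 3, 7, 9, 21, 63} by decide] at hk63
    simp only [mem_insert, mem_singleton] at hk63
    rw [hk]
    rcases hk63 with rfl | rfl | rfl | rfl | rfl | rfl <;> simp
  have hC8 : C ≤ 8064 := Nat.le_of_dvd (by norm_num) h8064
  obtain ⟨a₁, a₂, a₃, h1, h2, h3, hb, hcol, he⟩ := key t L.ordt
  rw [if_pos (IsConj.refl t), ← hCdef] at he
  have hdegs := F.degs
  simp only [fivePat, List.mem_cons, Prod.mk.injEq, List.not_mem_nil, or_false] at hdegs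
  rcases hdegs with ⟨d1, d2, d3, -⟩ | ⟨d1, d2, d3, -⟩
  · have he12 : a₂ = a₁ := by
      have h4 := (deg_eq_of_twentyThree hcard (φ := f₂) (ψ := f₁) (by rw [d2]; decide)
        (by rw [d1]; decide)).2 t (by rw [L.ordt]; norm_num)
      rw [h2, h1] at h4
      exact_mod_cast h4
    subst he12
    simp only [deg, d1, d2, d3] at he hb
    refine fit_first (C := C) hCmem (a := a₂) (b := a₃) (by exact_mod_cast hb) ?_ ?_
    · have h89 : a₃ ^ 2 ≤ 8064 := by nlinarith
      exact abs_le.2 ⟨by nlinarith, by nlinarith⟩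
    · have h' : ((5 * (C : ℤ) ^ 2 * (11 * 736 * 759) : ℤ) : ℝ) = ((3 * 10200960 *
          (11 * 736 * 759 + 2 * 736 * 759 * a₂ ^ 2 + 11 * 759 * a₃ ^ 2 -
            11 * 736 * (1 + 2 * a₂ + a₃) ^ 2) : ℤ) : ℝ) := by
        push_cast at he ⊢
        norm_num at he
        linear_combination (11 * 736 * 759 : ℝ) * he
      exact_mod_cast h'
  · have hzero : ∀ φ : IrrCharacter G, charDegree (φ : G → ℂ) = 896 → (φ : G → ℂ) t = 0 :=
      fun φ hφ => eq_zero_of_defectZero Nat.prime_two φ (by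
        have h7 : (Nat.card G).factorization 2 ≤ 7 := by
          by_contra hlt
          refine card_two_le (hcard ▸ ?_)
          exact (Nat.prime_two.pow_dvd_iff_le_factorization Nat.card_pos.ne').2 (by omega)
        exact (pow_dvd_pow 2 h7).trans (hφ ▸ (by norm_num : 2 ^ 7 ∣ 896))) (by rw [L.ordt])
    have ha2 : a₂ = 0 := by exact_mod_cast h2.symm.trans (hzero f₂ d2)
    have ha3 : a₃ = 0 := by exact_mod_cast h3.symm.trans (hzero f₃ d3)
    subst ha2
    subst ha3
    simp only [deg, d1, d2, d3] at he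
    refine fit_second (C := C) hCmem (a := a₁)
      (abs_le.2 ⟨by nlinarith, by nlinarith⟩) ?_
    have h' : ((5 * (C : ℤ) ^ 2 * (231 * 2024) : ℤ) : ℝ) =
        ((3 * 10200960 * (231 * 2024 + 2024 * a₁ ^ 2 - 231 * (1 + a₁) ^ 2) : ℤ) : ℝ) := by
      push_cast at he ⊢
      norm_num at he
      linear_combination (231 * 2024 : ℝ) * he
    exact_mod_cast h'

end CfsgLib.M23Ord
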