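import Cfsg.Agent.M23Ord.SevenNorm
import Cfsg.Agent.M23Nse.LocalDef

/-!
# Simple groups of order 10200960: the local data

A class of elements of order three with centralizers of order nine would contradict Frobenius'
theorem on the number of solutions of `g ^ 9 = 1`, so all of them have centralizers of order 180.
-/

set_option autoImplicit false
set_option linter.style.haveILetI false
set_option linter.unusedSectionVars false

namespace CfsgLib.M23Ord

open Cfsg Finset CfsgLib.Block CfsgLib.BrauerPrime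
open scoped Pointwise

universe u

variable {G : Type u} [Group G] [Fintype G] [IsSimpleGroup G]

theorem centralizer_seven (hcard : Nat.card G = 10200960) {x : G} (hx : orderOf x = 7) :
    Nat.card (Subgroup.centralizer ({x} : Set G)) = 14 ∧
      Nat.card (Subgroup.normalizer (Subgroup.zpowers x : Set G)) = 42 := by
  haveI : Fact (Nat.Prime 7) := ⟨by norm_num⟩
  obtain ⟨S, -, -, hzS, hC⟩ := exists_setup hcard (k := 1457280) (by norm_num) (by norm_num) hx
  obtain ⟨h1, h2⟩ := sylow_seven hcard S
  exact ⟨by rw [hC, h1], by rw [hzS, h2]⟩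

/-- An element of order three either commutes with an involution or has centralizer of order 9. -/
theorem three_cases (hcard : Nat.card G = 10200960) {x : G} (hx : orderOf x = 3) :
    (∃ z : G, orderOf z = 2 ∧ Commute x z) ∨
      Nat.card (Subgroup.centralizer ({x} : Set G)) = 9 := by
  classical
  haveI : Fact (Nat.Prime 3) := ⟨Nat.prime_three⟩
  by_contra hcon
  push Not at hcon
  obtain ⟨hz, h9⟩ := hcon
  set C := Subgroup.centralizer ({x} : Set G) with hCdef
  have hno : ∀ q : ℕ, q.Prime → (∀ v : G, orderOf v = q → ¬ Commute v x) → ¬ q ∣ Nat.card C :=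
    fun q hq hv hd => by
      haveI := Fact.mk hq
      obtain ⟨⟨v, hvC⟩, hvo⟩ := exists_prime_orderOf_dvd_card' (G := C) q hd
      rw [Subgroup.orderOf_mk] at hvo
      exact hv v hvo (Subgroup.mem_centralizer_singleton_iff.1 hvC)
  have h2 := hno 2 Nat.prime_two fun v hv hc => hz v hv hc.symm
  have h5 := hno 5 (by norm_num) fun v hv hc => by
    obtain ⟨y, t, L⟩ := exists_fiveLocal hcard hv
    obtain ⟨k, hk⟩ := L.gen x hc.symm
    have h1 : (v ^ k) ^ 3 = 1 := by
      have h0 : (v ^ k * y ^ k) ^ 3 = 1 := by rw [← hk, ← hx, pow_orderOf_eq_one]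
      rw [(L.comm.pow_pow k k).mul_pow, ← pow_mul y, mul_comm k 3, pow_mul y,
        show y ^ 3 = 1 from L.ordy ▸ pow_orderOf_eq_one y, one_pow, mul_one] at h0
      exact h0
    have h3 : v ^ k = 1 := by
      rw [← orderOf_eq_one_iff]
      refine Nat.eq_one_of_dvd_coprimes (show Nat.Coprime 5 3 by norm_num) ?_
        (orderOf_dvd_of_pow_eq_one h1)
      exact hv ▸ orderOf_pow_dvd k
    rw [h3, one_mul] at hk
    exact hz t L.ordt (hk ▸ L.fix.symm.pow_left k)
  have h7 := hno 7 (by norm_num) fun v hv hc => by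
    have h1 := orderOf_dvd_centralizer hc.symm
    rw [hx, (centralizer_seven hcard hv).1] at h1
    norm_num at h1
  have h11 := hno 11 (by norm_num) fun v hv hc => by
    have h1 := orderOf_dvd_centralizer hc.symm
    rw [hx, centralizer_eleven hcard hv] at h1
    norm_num at h1
  have h23 := hno 23 (by norm_num) fun v hv hc => by
    have h1 := orderOf_dvd_centralizer hc.symm
    rw [hx, centralizer_twentyThree hcard hv] at h1
    norm_num at h1
  have hCG : Nat.card C ∣ 9 * (2 ^ 7 * (5 * (7 * (11 * 23)))) :=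
    (show 10200960 = 9 * (2 ^ 7 * (5 * (7 * (11 * 23)))) by norm_num) ▸
      (hcard ▸ Subgroup.card_subgroup_dvd_card C : Nat.card C ∣ 10200960)
  have hco : Nat.Coprime (Nat.card C) (2 ^ 7 * (5 * (7 * (11 * 23)))) := by
    have e : ∀ q : ℕ, q.Prime → ¬ q ∣ Nat.card C → Nat.Coprime (Nat.card C) q := fun q hq hd =>
      ((Nat.Prime.coprime_iff_not_dvd hq).2 hd).symm
    exact ((e 2 Nat.prime_two h2).pow_right 7).mul_right ((e 5 (by norm_num) h5).mul_right
      ((e 7 (by norm_num) h7).mul_right ((e 11 (by norm_num) h11).mul_right (e 23 (by norm_num) h23))))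
  have h9C : 9 ∣ Nat.card C := by
    obtain ⟨Q, hQ⟩ := (IsPGroup.of_card (n := 1) (by rw [Nat.card_zpowers, hx, pow_one]) :
      IsPGroup 3 (Subgroup.zpowers x)).exists_le_sylow
    have hQ9 : Nat.card (Q : Subgroup G) = 3 ^ 2 := by
      simpa using CfsgLib.SmallSimple.card_sylow_eq Q (k := 2) (m := 1133440)
        (by rw [hcard]; norm_num) (by norm_num)
    refine (hQ9 ▸ Subgroup.card_dvd_of_le fun g hg => Subgroup.mem_centralizer_singleton_iff.2 ?_ :
      3 ^ 2 ∣ Nat.card C)
    exact congrArg Subtype.val ((IsPGroup.isMulCommutative_of_card_eq_prime_sq hQ9).is_comm.comm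
      (⟨g, hg⟩ : (Q : Subgroup G)) ⟨x, hQ (Subgroup.mem_zpowers x)⟩)
  exact h9 (Nat.dvd_antisymm (hco.dvd_of_dvd_mul_right hCG) h9C)

theorem pow_three_roots {g v : G} (hg : orderOf g = 9) (hv : v ∈ Subgroup.zpowers g)
    (hv3 : orderOf v = 3) : v = g ^ 3 ∨ v = g ^ 6 := by
  obtain ⟨k, hk⟩ := Submonoid.mem_powers_iff _ _ |>.1 (mem_powers_iff_mem_zpowers.2 hv)
  have h9 : 9 ∣ k * 3 := hg ▸ orderOf_dvd_of_pow_eq_one (by
    rw [pow_mul, hk, ← hv3, pow_orderOf_eq_one])
  rw [← pow_mod_orderOf, hg] at hk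
  have hk0 : k % 9 ≠ 0 := fun e => by
    rw [e, pow_zero] at hk
    rw [← hk, orderOf_one] at hv3
    norm_num at hv3
  rcases (show k % 9 = 3 ∨ k % 9 = 6 by omega) with e | e <;> rw [e] at hk
  · exact Or.inl hk.symm
  · exact Or.inr hk.symm

/-- **Every element of order three has a centralizer of order 180.** -/
theorem three_card (hcard : Nat.card G = 10200960) {x : G} (hx : orderOf x = 3) :
    Nat.card (Subgroup.centralizer ({x} : Set G)) = 180 := by
  classical
  haveI : Fact (Nat.Prime 3) := ⟨Nat.prime_three⟩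
  rcases three_cases hcard hx with ⟨z, hz, hxz⟩ | h9
  · exact three_centralizer hcard hx hz hxz
  exfalso
  obtain ⟨w, hw⟩ := exists_prime_orderOf_dvd_card' (G := G) 5 (hp := ⟨by norm_num⟩) (by rw [hcard]; norm_num)
  obtain ⟨y, t, L⟩ := exists_fiveLocal hcard hw
  have hy : Nat.card (Subgroup.centralizer ({y} : Set G)) = 180 :=
    three_centralizer hcard L.ordy L.ordt L.fix.symm
  obtain ⟨-, s, -, hs⟩ := three_involution hcard L.ordy L.ordt L.fix.symm
  have hconjC : ∀ a b : G, IsConj a b → Nat.card (Subgroup.centralizer ({b} : Set G)) =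
      Nat.card (Subgroup.centralizer ({a} : Set G)) := fun a b hab => by
    have h1 := CfsgLib.Char.card_conj_class_mul_card_centralizer b
    have h2 := CfsgLib.Char.card_conj_class_mul_card_centralizer a
    rw [Nat.card_congr (Equiv.subtypeEquivRight fun w : G =>
      (⟨fun hw => hab.trans hw, fun hw => hab.symm.trans hw⟩ : IsConj b w ↔ IsConj a w)), ← h2] at h1
    exact Nat.eq_of_mul_eq_mul_left (@Nat.card_pos _ ⟨⟨a, IsConj.refl a⟩⟩ _) h1
  have hxy : ¬ IsConj y x := fun h => by
    have h1 := hconjC y x h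
    rw [h9, hy] at h1
    norm_num at h1
  have hcases : ∀ v : G, orderOf v = 3 →
      IsConj y v ∨ Nat.card (Subgroup.centralizer ({v} : Set G)) = 9 := fun v hv => by
    rcases three_cases hcard hv with ⟨z, hz, hvz⟩ | h
    · left
      rcases three_conj hcard hv L.ordy hz L.ordt hvz L.fix.symm with h1 | h1
      · exact h1
      · exact ((isConj_iff.2 ⟨s, hs⟩ : IsConj y y⁻¹).trans (by
          obtain ⟨g, hg⟩ := isConj_iff.1 h1
          exact isConj_iff.2 ⟨g, by rw [← conj_inv, hg, inv_inv]⟩))
    · exact Or.inr h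
  -- a Sylow subgroup through `y`
  obtain ⟨T, hT⟩ := (IsPGroup.of_card (n := 1) (by rw [Nat.card_zpowers, L.ordy, pow_one]) :
    IsPGroup 3 (Subgroup.zpowers y)).exists_le_sylow
  have hyT : y ∈ (T : Subgroup G) := hT (Subgroup.mem_zpowers y)
  have hT9 : Nat.card (T : Subgroup G) = 9 := by
    simpa using CfsgLib.SmallSimple.card_sylow_eq T (k := 2) (m := 1133440)
      (by rw [hcard]; norm_num) (by norm_num)
  have hinto : ∀ v : G, orderOf v = 3 → ∃ v' ∈ (T : Subgroup G), IsConj v v' ∧ orderOf v' = 3 :=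
    fun v hv => by
      obtain ⟨Q, hQ⟩ := (IsPGroup.of_card (n := 1) (by rw [Nat.card_zpowers, hv, pow_one]) :
        IsPGroup 3 (Subgroup.zpowers v)).exists_le_sylow
      obtain ⟨g, hg⟩ := MulAction.exists_smul_eq G Q T
      exact ⟨g * v * g⁻¹, by rw [← hg]; exact ⟨v, hQ (Subgroup.mem_zpowers v), rfl⟩,
        isConj_iff.2 ⟨g, rfl⟩, ((MulAut.conj g).orderOf_eq v).trans hv⟩
  -- no elements of order nine
  have hexp : ∀ g : G, orderOf g ≠ 9 := by
    intro g hg
    have hin : ∃ g' ∈ (T : Subgroup G), orderOf g' = 9 := by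
      obtain ⟨Q, hQ⟩ := (IsPGroup.of_card (n := 2) (by rw [Nat.card_zpowers, hg]; norm_num) :
        IsPGroup 3 (Subgroup.zpowers g)).exists_le_sylow
      obtain ⟨a, ha⟩ := MulAction.exists_smul_eq G Q T
      exact ⟨a * g * a⁻¹, by rw [← ha]; exact ⟨g, hQ (Subgroup.mem_zpowers g), rfl⟩,
        ((MulAut.conj a).orderOf_eq g).trans hg⟩
    obtain ⟨g', hg', hg'o⟩ := hin
    have hTg : Subgroup.zpowers g' = (T : Subgroup G) :=
      Subgroup.eq_of_le_of_card_ge (Subgroup.zpowers_le.2 hg') (by rw [Nat.card_zpowers, hg'o, hT9])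
    obtain ⟨x', hx'T, hxx', hx'o⟩ := hinto x hx
    have h1 := pow_three_roots hg'o (hTg.symm ▸ hyT) L.ordy
    have h2 := pow_three_roots hg'o (hTg.symm ▸ hx'T) hx'o
    have hpow : (g' ^ 6) = (g' ^ 3)⁻¹ := by
      rw [eq_inv_iff_mul_eq_one, ← pow_add, show 6 + 3 = orderOf g' from hg'o.symm, pow_orderOf_eq_one]
    have hyy : IsConj y y⁻¹ := isConj_iff.2 ⟨s, hs⟩
    refine hxy (IsConj.trans ?_ hxx'.symm)
    rcases h1 with h1 | h1 <;> rcases h2 with h2 | h2 <;> rw [h2]
    · rw [← h1]
    · rw [hpow, ← h1]; exact hyy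
    · rw [show g' ^ 3 = y⁻¹ by rw [h1, hpow, inv_inv]]; exact hyy
    · rw [← h1]
  -- the count
  set B := univ.filter fun v : G => orderOf v = 3 ∧ ¬ IsConj y v with hBdef
  set A := univ.filter fun v : G => IsConj y v with hAdef
  have hclass : ∀ v : G, (univ.filter fun w : G => IsConj v w).card *
      Nat.card (Subgroup.centralizer ({v} : Set G)) = 10200960 := fun v => by
    rw [← Fintype.card_subtype, ← Nat.card_eq_fintype_card,
      CfsgLib.Char.card_conj_class_mul_card_centralizer v, hcard]
  have hA : A.card = 56672 := by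
    have h1 := hclass y
    rw [hy, ← hAdef] at h1
    omega
  have hBclass : ∀ v ∈ B, (B.filter fun w => ConjClasses.mk w = ConjClasses.mk v).card = 1133440 := by
    intro v hv
    obtain ⟨hv3, hvy⟩ := (mem_filter.1 hv).2
    have h1 := hclass v
    rw [(hcases v hv3).resolve_left hvy] at h1
    rw [show (B.filter fun w => ConjClasses.mk w = ConjClasses.mk v) = univ.filter fun w => IsConj v w by
      ext w
      simp only [hBdef, mem_filter, mem_univ, true_and, ConjClasses.mk_eq_mk_iff_isConj]
      refine ⟨fun hh => hh.2.symm, fun hh => ⟨⟨?_, fun hc => hvy (hc.trans hh.symm)⟩, hh.symm⟩⟩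
      obtain ⟨g, rfl⟩ := isConj_iff.1 hh
      exact ((MulAut.conj g).orderOf_eq v).trans hv3]
    omega
  have hB : B.card = (B.image ConjClasses.mk).card * 1133440 := by
    rw [card_eq_sum_card_image ConjClasses.mk B, sum_const_nat fun c hc => ?_]
    obtain ⟨v, hv, rfl⟩ := mem_image.1 hc
    exact hBclass v hv
  have hm : (B.image ConjClasses.mk).card ≤ 7 := by
    set T' := ((univ.filter fun v : G => v ∈ (T : Subgroup G)).erase 1).erase y
    have hT' : T'.card = 7 := by
      have hy1 : y ≠ 1 := fun e => by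
        have := L.ordy; rw [e, orderOf_one] at this; norm_num at this
      rw [card_erase_of_mem (mem_erase.2 ⟨hy1, mem_filter.2 ⟨mem_univ _, hyT⟩⟩),
        card_erase_of_mem (mem_filter.2 ⟨mem_univ _, one_mem _⟩), ← Fintype.card_subtype,
        ← Nat.card_eq_fintype_card, hT9]
    refine le_trans (card_le_card (t := T'.image ConjClasses.mk) fun c hc => ?_)
      (card_image_le.trans hT'.le)
    obtain ⟨v, hv, rfl⟩ := mem_image.1 hc
    obtain ⟨hv3, hvy⟩ := (mem_filter.1 hv).2
    obtain ⟨v', hv', hvv', hv'o⟩ := hinto v hv3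
    refine mem_image.2 ⟨v', mem_erase.2 ⟨fun e => hvy (e ▸ hvv').symm, mem_erase.2 ⟨fun e => ?_,
      mem_filter.2 ⟨mem_univ _, hv'⟩⟩⟩, ConjClasses.mk_eq_mk_iff_isConj.2 hvv'.symm⟩
    rw [e, orderOf_one] at hv'o
    norm_num at hv'o
  have hroots : (univ.filter fun g : G => g ^ 9 = 1) = insert 1 (A ∪ B) := by
    ext g
    simp only [hAdef, hBdef, mem_filter, mem_univ, true_and, mem_insert, mem_union]
    constructor
    · intro hg
      have hd := orderOf_dvd_of_pow_eq_one hg
      obtain ⟨i, hi, he⟩ := (Nat.dvd_prime_pow Nat.prime_three).1 (show orderOf g ∣ 3 ^ 2 from hd)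
      interval_cases i
      · exact Or.inl (orderOf_eq_one_iff.1 (by simpa using he))
      · right
        by_cases hc : IsConj y g
        · exact Or.inl hc
        · exact Or.inr ⟨by simpa using he, hc⟩
      · exact absurd (by simpa using he) (hexp g)
    · rintro (rfl | hc | ⟨h3, -⟩)
      · exact one_pow 9
      · obtain ⟨a, rfl⟩ := isConj_iff.1 hc
        rw [conj_pow, show y ^ 9 = 1 from orderOf_dvd_iff_pow_eq_one.1 (by rw [L.ordy]; norm_num),
          mul_one, mul_inv_cancel]
      · exact orderOf_dvd_iff_pow_eq_one.1 (by rw [h3]; norm_num)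
  have hfrob := CfsgLib.FrobRoots.gcd_dvd_card_pow_eq_one G 9
  rw [hcard, Nat.card_eq_fintype_card, Fintype.card_subtype, hroots,
    card_insert_of_notMem (fun h1 => ?_),
    card_union_of_disjoint (disjoint_left.2 fun a ha hb => (mem_filter.1 hb).2.2 (mem_filter.1 ha).2),
    hA, hB] at hfrob
  · norm_num at hfrob
    have hpos : 0 < (B.image ConjClasses.mk).card :=
      card_pos.2 ⟨_, mem_image_of_mem _ (mem_filter.2 ⟨mem_univ x, hx, hxy⟩)⟩
    omega
  · rcases mem_union.1 h1 with h1 | h1
    · have := L.ordy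
      rw [isConj_one_left.1 (mem_filter.1 h1).2, orderOf_one] at this
      norm_num at this
    · have := (mem_filter.1 h1).2.1
      rw [orderOf_one] at this
      norm_num at this

/-- **The local data follow from the order.** -/
theorem local_of_order (hcard : Nat.card G = 10200960) : CfsgLib.M23Nse.Local G where
  simple := inferInstance
  card := hcard
  inv_conj := (involution_class hcard).1
  inv_card := (involution_class hcard).2
  three := fun _ hx => three_card hcard hx
  three_inv := fun _ _ hx hz hxz => three_involution hcard hx hz hxz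
  five := fun _ hx => (centralizer_five hcard hx).1
  five_norm := fun _ hx => (centralizer_five hcard hx).2
  seven := fun _ hx => (centralizer_seven hcard hx).1
  seven_norm := fun _ hx => (centralizer_seven hcard hx).2

end CfsgLib.M23Ord
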