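import Cfsg.Agent.M23Ord.DegreeMod
import Cfsg.Agent.M23Ord.Value

/-!
# Simple groups of order 10200960: no element of order 77
-/

set_option autoImplicit false
set_option linter.style.haveILetI false
set_option linter.unusedSectionVars false

namespace CfsgLib.M23Ord

open Cfsg Finset CfsgLib.Block CfsgLib.Block.Chr CfsgLib.BrauerPrime CfsgLib.BrauerPairs
open CfsgLib.Cyclic (deg)

universe u

variable {G : Type u} [Group G] [Fintype G] [IsSimpleGroup G]

theorem seven_options {n e : ℕ} (he : e ∈ [2, 3, 6]) (hd : e * (1 + n * 7) ∣ 132480)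
    (h23 : 23 ∣ 1 + n * 7) :
    (n, e) ∈ [(13, 2), (59, 2), (105, 2), (197, 2), (473, 2), (1577, 2), (13, 3), (105, 3), (197, 3),
      (1577, 3), (13, 6), (105, 6), (197, 6), (1577, 6)] := by
  have h : ∀ e ∈ [2, 3, 6], (List.range 9463).all (fun k =>
      if e * (1 + k * 7) ∣ 132480 ∧ 23 ∣ 1 + k * 7 then
        decide ((k, e) ∈ [(13, 2), (59, 2), (105, 2), (197, 2), (473, 2), (1577, 2), (13, 3), (105, 3),
          (197, 3), (1577, 3), (13, 6), (105, 6), (197, 6), (1577, 6)])
      else true) = true := by decide +kernel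
  have hle := Nat.le_of_dvd (by norm_num) hd
  have he2 : 2 ≤ e := by simp at he; omega
  have := Nat.mul_le_mul_right (1 + n * 7) he2
  simpa [hd, h23] using all_range (h e he) (show n < 9463 by omega)

/-- **No element of order 11 centralizes an element of order 7.** -/
theorem not_eleven_seven (hcard : Nat.card G = 10200960) [Fact (Nat.Prime 7)] (S : Sylow 7 G) :
    ¬ 11 ∣ Nat.card (Subgroup.centralizer ((S : Subgroup G) : Set G)) := by
  classical
  haveI : Fact (Nat.Prime 11) := ⟨by norm_num⟩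
  intro h11
  have h : Setup G 7 S := setup hcard S (m := 1457280) (by norm_num) (by norm_num)
  have h23C := not_dvd_centralizer hcard (by norm_num) h
  obtain ⟨n, hn⟩ : ∃ n, Nat.card (Sylow 7 G) = 1 + n * 7 := by
    have hm : Nat.card (Sylow 7 G) % 7 = 1 := card_sylow_modEq_one 7 G
    exact ⟨Nat.card (Sylow 7 G) / 7, by omega⟩
  obtain ⟨c, e, num⟩ := exists_num h hn
  obtain ⟨M, hM⟩ := exists_isPModular (Fact.out : Nat.Prime 7)
  haveI := hM.2.1.isPrime
  obtain ⟨s, X, Y, sg, ε, B⟩ := exists_blk hM h num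
  have hG := num.cardG
  rw [hcard] at hG
  rw [num.cardC] at h11 h23C
  have h11c : 11 ∣ c := ((Nat.Prime.dvd_mul (by norm_num)).1 h11).resolve_left (by norm_num)
  have hc1 : c ≠ 1 := fun e1 => by subst e1; norm_num at h11c
  have hes := B.hes
  have he : e ∈ [2, 3, 6] := by
    have hd : e ∣ 6 := ⟨s, by omega⟩
    have := num.epos
    have := Nat.le_of_dvd (by norm_num) hd
    interval_cases e <;> simp_all
  have h23n : 23 ∣ 1 + n * 7 := by
    have h1 : 23 ∣ 7 * c * e * (1 + n * 7) := ⟨443520, by rw [← hG]⟩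
    refine (Nat.Prime.dvd_mul (by norm_num)).1 h1 |>.resolve_left fun h2 => ?_
    refine h23C ((Nat.Prime.dvd_mul (by norm_num)).1 h2 |>.resolve_right fun h3 => ?_)
    simp at he
    rcases he with rfl | rfl | rfl <;> norm_num at h3
  have hd : e * (1 + n * 7) ∣ 132480 := by
    obtain ⟨k, hk⟩ := h11c
    refine ⟨k, ?_⟩
    rw [hk] at hG
    refine Nat.eq_of_mul_eq_mul_left (show 0 < 77 by norm_num) ?_
    calc 77 * 132480 = 10200960 := by norm_num
      _ = _ := hG
      _ = _ := by ring
  -- the exceptional degree 24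
  have h24 : e = 3 → ∀ χ : IrrCharacter G, (χ ∈ X ∨ χ ∈ Y) →
      charDegree (χ : G → ℂ) ∈ [24] → False := by
    intro he3 χ hχ hd24
    have hd24' : charDegree (χ : G → ℂ) = 24 := by simpa using hd24
    have hdeg : deg χ = 24 := by
      show (charDegree (χ : G → ℂ) : ℤ) = 24
      rw [hd24']; rfl
    have hnX : ∀ φ ∈ X, deg φ ≠ 24 := fun φ hφ hh => by
      have h1 := B.congX φ hφ
      rw [hh] at h1
      rcases B.sign φ hφ with h2 | h2 <;> rw [h2] at h1 <;> exact absurd h1 (by decide)
    have hY : χ ∈ Y := hχ.resolve_left fun hX => hnX χ hX hdeg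
    obtain ⟨⟨y, hy⟩, hyo⟩ := exists_prime_orderOf_dvd_card'
      (G := Subgroup.centralizer ((S : Subgroup G) : Set G)) 11 (num.cardC ▸ h11)
    rw [Subgroup.orderOf_mk] at hyo
    have hreg : ¬ 7 ∣ orderOf y := by rw [hyo]; norm_num
    obtain ⟨j, hj⟩ := Y_rational hM B hY (fun φ hφ => hdeg ▸ hnX φ hφ) hreg
    exact no_prime (q := 11) hM h ((B.mem χ).2 (Or.inr hY)) (fun e1 => B.disj _ B.triv (e1 ▸ hY))
      (by norm_num) hy hyo (value_pow χ hyo hj) (by rw [hdeg]; norm_num)
  have hopt := seven_options he hd h23n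
  simp only [List.mem_cons, Prod.mk.injEq, List.not_mem_nil, or_false] at hopt
  let none : ℕ → Bool := fun _ => false
  have hnone : ∀ χ : IrrCharacter G, χ ∈ X ∨ χ ∈ Y → χ ≠ trivIrr G →
      none (charDegree (χ : G → ℂ)) = false := fun _ _ _ => rfl
  rcases hopt with ⟨rfl, rfl⟩ | ⟨rfl, rfl⟩ | ⟨rfl, rfl⟩ | ⟨rfl, rfl⟩ | ⟨rfl, rfl⟩ | ⟨rfl, rfl⟩ |
    ⟨rfl, rfl⟩ | ⟨rfl, rfl⟩ | ⟨rfl, rfl⟩ | ⟨rfl, rfl⟩ | ⟨rfl, rfl⟩ | ⟨rfl, rfl⟩ | ⟨rfl, rfl⟩ |
    ⟨rfl, rfl⟩
  · exact no_block_small hcard hM h num hc1 B none hnone 3 [2] (by norm_num) (by decide +kernel) (by decide +kernel)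
  · exact no_block_small hcard hM h num hc1 B none hnone 6 [3, 2, 0] (by norm_num) (by decide +kernel) (by decide +kernel)
  · exact no_block_small hcard hM h num hc1 B none hnone 4 [0] (by norm_num) (by decide +kernel) (by decide +kernel)
  · exact no_block_small hcard hM h num hc1 B none hnone 17 [16, 7, 8, 9, 3] (by norm_num) (by decide +kernel) (by decide +kernel)
  · exact no_block_small hcard hM h num hc1 B none hnone 20 [11, 12, 8, 14, 16] (by norm_num) (by decide +kernel) (by decide +kernel)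
  · exact no_block_small hcard hM h num hc1 B none hnone 23 [0, 1] (by norm_num) (by decide +kernel) (by decide +kernel)
  · exact no_block_small hcard hM h num hc1 B none hnone 8 [3, 4] (by norm_num) (by decide +kernel) (by decide +kernel)
  · obtain ⟨χ, hχ, hd'⟩ := exists_extra hcard hM h num hc1 B [24] 23 [0] (by norm_num) (by decide +kernel) (by decide +kernel)
    exact h24 rfl χ hχ hd'
  · exact no_block_small hcard hM h num hc1 B none hnone 23 [0] (by norm_num) (by decide +kernel) (by decide +kernel)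
  · obtain ⟨χ, hχ, hd'⟩ := exists_extra hcard hM h num hc1 B [24] 23 [0, 1, 12] (by norm_num) (by decide +kernel) (by decide +kernel)
    exact h24 rfl χ hχ hd'
  · exact no_block_small hcard hM h num hc1 B none hnone 23 [0] (by norm_num) (by decide +kernel) (by decide +kernel)
  · exact no_block_small hcard hM h num hc1 B none hnone 23 [0] (by norm_num) (by decide +kernel) (by decide +kernel)
  · exact no_block_small hcard hM h num hc1 B none hnone 23 [0] (by norm_num) (by decide +kernel) (by decide +kernel)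
  · exact no_block_small hcard hM h num hc1 B none hnone 23 [0, 1, 12] (by norm_num) (by decide +kernel) (by decide +kernel)

end CfsgLib.M23Ord
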