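import Cfsg.Agent.M23Ord.InvClass

/-!
# Simple groups of order 10200960: the prime seven

The automizer of a Sylow subgroup of order seven does not have order two: the three exceptional
characters of degree 23 would make the form of the principal block at eleven positive, while no
element of order eleven is inverted. Five possibilities for the normalizer remain.
-/

set_option autoImplicit false
set_option linter.style.haveILetI false
set_option linter.unusedSectionVars false

namespace CfsgLib.M23Ord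

open Cfsg Finset CfsgLib.Block CfsgLib.Block.Chr CfsgLib.BrauerPrime CfsgLib.BrauerPairs
open CfsgLib.Cyclic (deg)

universe u

variable {G : Type u} [Group G] [Fintype G]

theorem seven_counts {c e k : ℕ} (he : e ∈ [2, 3, 6]) (h : c * (e * k) = 5760) (hk : k % 7 = 1)
    (hc : ¬ 5 ∣ c) :
    e = 2 ∨ (c, e, k) ∈ [(128, 3, 15), (16, 3, 120), (2, 3, 960), (64, 6, 15), (8, 6, 120), (1, 6, 960)] := by
  have hck : ∀ e ∈ [3, 6], (List.range 1921).all (fun k =>
      if 5760 % (e * k) = 0 ∧ k % 7 = 1 ∧ (5760 / (e * k)) % 5 ≠ 0 then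
        decide ((5760 / (e * k), e, k) ∈
          [(128, 3, 15), (16, 3, 120), (2, 3, 960), (64, 6, 15), (8, 6, 120), (1, 6, 960)])
      else true) = true := by decide +kernel
  rcases (by simpa using he : e = 2 ∨ e = 3 ∨ e = 6) with rfl | he'
  · exact Or.inl rfl
  refine Or.inr ?_
  have he3 : 3 ≤ e := by omega
  have hek : 0 < e * k := Nat.pos_of_ne_zero fun e0 => by rw [e0, mul_zero] at h; omega
  have hd : e * k ∣ 5760 := ⟨c, by linarith⟩
  have hk2 : k < 1921 := by
    have h1 := Nat.le_of_dvd (by norm_num) hd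
    have h2 := Nat.mul_le_mul_right k he3
    omega
  have hdiv : 5760 / (e * k) = c := Nat.div_eq_of_eq_mul_left hek h.symm
  have h1 := all_range (hck e (by simp; exact he')) hk2
  rw [if_pos ⟨Nat.mod_eq_zero_of_dvd hd, hk, by rw [hdiv]; omega⟩, decide_eq_true_eq, hdiv] at h1
  exact h1

/-- The form of five nonnegative terms vanishes only at the degrees. -/
theorem form_four {d₁ d₂ d₃ d₄ a₁ a₂ a₃ a₄ : ℝ} (h₁ : 0 < d₁) (h₂ : 0 < d₂) (h₃ : 0 < d₃)
    (h₄ : 0 < d₄) (h : 1 + a₁ ^ 2 / d₁ + a₂ ^ 2 / d₂ + a₃ ^ 2 / d₃ + a₄ ^ 2 / d₄ -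
      (1 + a₁ + a₂ + a₃ + a₄) ^ 2 / (1 + d₁ + d₂ + d₃ + d₄) = 0) : a₁ = d₁ := by
  have hD : 0 < 1 + d₁ + d₂ + d₃ + d₄ := by linarith
  set r := (1 + a₁ + a₂ + a₃ + a₄) / (1 + d₁ + d₂ + d₃ + d₄) with hr
  have hid : (1 - r) ^ 2 + d₁ * (a₁ / d₁ - r) ^ 2 + d₂ * (a₂ / d₂ - r) ^ 2 +
      d₃ * (a₃ / d₃ - r) ^ 2 + d₄ * (a₄ / d₄ - r) ^ 2 = 0 := by
    rw [← h, hr]
    field_simp
    ring
  have e1 := sq_nonneg (1 - r)
  have e2 := mul_nonneg h₁.le (sq_nonneg (a₁ / d₁ - r))
  have e3 := mul_nonneg h₂.le (sq_nonneg (a₂ / d₂ - r))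
  have e4 := mul_nonneg h₃.le (sq_nonneg (a₃ / d₃ - r))
  have e5 := mul_nonneg h₄.le (sq_nonneg (a₄ / d₄ - r))
  have h5 : (1 - r) ^ 2 = 0 := by linarith
  have h6 : d₁ * (a₁ / d₁ - r) ^ 2 = 0 := by linarith
  have h7 : r = 1 := by
    have := pow_eq_zero_iff (n := 2) two_ne_zero |>.1 h5
    linarith
  have h8 : a₁ / d₁ - r = 0 :=
    pow_eq_zero_iff (n := 2) two_ne_zero |>.1 ((mul_eq_zero.1 h6).resolve_left h₁.ne')
  rw [h7, sub_eq_zero, div_eq_one_iff_eq h₁.ne'] at h8
  exact h8

variable [IsSimpleGroup G]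

/-- The form of the principal block at eleven vanishes at every involution. -/
theorem eleven_form_zero (hcard : Nat.card G = 10200960) [Fact (Nat.Prime 11)] {S : Sylow 11 G}
    {M : Ideal AlgInt} [M.IsPrime] (hM : IsPModular 11 M) [Fintype (IrrCharacter G)]
    [DecidablePred (· ∈ principalBlock M G)] {x : G} (hxS : x ∈ (S : Subgroup G)) (hx : x ≠ 1)
    {z : G} (hz : orderOf z = 2) :
    ∑ χ ∈ univ.filter (· ∈ principalBlock M G),
      (χ : G → ℂ) x * ((χ : G → ℂ) z ^ 2 / (χ : G → ℂ) 1) = 0 := by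
  classical
  have h : Setup G 11 S := setup hcard S (m := 927360) (by norm_num) (by norm_num)
  have hxo := orderOf_eq h hxS hx
  have hH : Nat.card (Subgroup.centralizer ({x} : Set G)) = 11 := centralizer_eleven hcard hxo
  set H := Subgroup.centralizer ({x} : Set G)
  have hidx : (⊥ : Subgroup H).index = 11 := by rw [Subgroup.index_bot, hH]
  haveI : Fintype (⊥ : Subgroup H) := Fintype.ofFinite _
  have hcount := section_pairs hM hxo (⊥ : Subgroup H) (by rw [Subgroup.card_bot]; norm_num) hidx z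
  rw [Subgroup.card_bot, Nat.cast_one, mul_one] at hcount
  rw [card_eq_zero.2 (eq_empty_iff_forall_notMem.2 fun gh hgh => ?_), Nat.cast_zero] at hcount
  · refine Eq.trans ?_ ((mul_eq_zero.1 hcount.symm).resolve_left
      (Nat.cast_ne_zero.2 Nat.card_pos.ne'))
    convert rfl
  obtain ⟨s, hs, he⟩ := (mem_filter.1 hgh).2
  rw [Subgroup.mem_bot.1 hs, OneMemClass.coe_one, mul_one] at he
  have hsq : ∀ g : G, g * z * g⁻¹ * (g * z * g⁻¹) = 1 := fun g => by
    rw [← sq, conj_pow, ← hz, pow_orderOf_eq_one, mul_one, mul_inv_cancel]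
  set u := gh.1 * z * gh.1⁻¹ with hu
  set v := gh.2 * z * gh.2⁻¹ with hv
  have huu : u * u = 1 := hsq _
  have hvv : v * v = 1 := hsq _
  clear_value u v
  have hui : u⁻¹ = u := inv_eq_of_mul_eq_one_right huu
  have hvi : v⁻¹ = v := inv_eq_of_mul_eq_one_right hvv
  have hinv : u * x * u⁻¹ = x⁻¹ := by
    rw [show x = v * u by rw [← inv_inv x, ← he, _root_.mul_inv_rev, hui, hvi],
      _root_.mul_inv_rev, hui, hvi, mul_assoc, mul_assoc, huu, mul_one]
  obtain ⟨-, hC, hN⟩ := sylow_eleven hcard S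
  have huN : u ∈ Subgroup.normalizer ((S : Subgroup G) : Set G) := by
    rw [← zpowers_eq h hxS hx, Subgroup.mem_normalizer_iff]
    intro g
    constructor
    · intro hg
      obtain ⟨i, rfl⟩ := Subgroup.mem_zpowers_iff.1 hg
      exact ⟨-i, by show x ^ (-i) = _; rw [← conj_zpow, hinv, inv_zpow, zpow_neg]⟩
    · intro hg
      obtain ⟨i, hi⟩ := Subgroup.mem_zpowers_iff.1 hg
      refine ⟨-i, ?_⟩
      show x ^ (-i) = _
      have h1 : g = u⁻¹ * x ^ i * u := by rw [hi]; group
      rw [h1, zpow_neg, ← inv_zpow, ← hinv, conj_zpow, hui]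
  have h2 := Subgroup.orderOf_dvd_natCard _ huN
  have h3 : orderOf u = 2 := by
    refine orderOf_eq_prime (by rw [sq]; exact huu) fun e1 => ?_
    rw [hu, conj_eq_one_iff] at e1
    rw [e1, orderOf_one] at hz
    norm_num at hz
  rw [hN, h3] at h2
  norm_num at h2

/-- No three characters of degree 23. -/
theorem no_three_twentyThree (hcard : Nat.card G = 10200960) {a b d : IrrCharacter G}
    (hab : a ≠ b) (had : a ≠ d) (hbd : b ≠ d) (ha : charDegree (a : G → ℂ) = 23)
    (hb : charDegree (b : G → ℂ) = 23) (hd : charDegree (d : G → ℂ) = 23) : False := by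
  classical
  haveI : Fact (Nat.Prime 11) := ⟨by norm_num⟩
  haveI : Fact (Nat.Prime 2) := ⟨Nat.prime_two⟩
  letI := irrFintype (G := G)
  obtain ⟨S⟩ : Nonempty (Sylow 11 G) := inferInstance
  obtain ⟨hn, hC, hN⟩ := sylow_eleven hcard S
  have h : Setup G 11 S := setup hcard S (m := 927360) (by norm_num) (by norm_num)
  obtain ⟨c, e, num⟩ := exists_num h (n := 16861) (by rw [hn])
  obtain rfl : c = 1 := by
    have h1 := num.cardC
    rw [hC, show Nat.card (S : Subgroup G) = 11 from h.cardP] at h1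
    omega
  obtain rfl : e = 5 := by
    have h1 := num.cardN
    rw [hN] at h1
    omega
  obtain ⟨M, hM⟩ := exists_isPModular (Fact.out : Nat.Prime 11)
  haveI := hM.2.1.isPrime
  obtain ⟨s, X, Y, sg, ε, B⟩ := exists_blk hM h num
  obtain rfl : s = 2 := by have := B.hes; omega
  have hX23 : ∀ φ : IrrCharacter G, charDegree (φ : G → ℂ) = 23 → φ ∈ X ∧ sg φ = 1 := fun φ hφ => by
    have hb : φ ∈ principalBlock M G := by
      by_contra hb
      have h1 := (outside hM h num hb).1
      rw [hφ] at h1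
      norm_num at h1
    rcases (B.mem φ).1 hb with hX | hY
    · rcases mod_of_modEq (d := charDegree (φ : G → ℂ)) (r := 1) (B.sign φ hX) (p := 11)
        (by norm_num) one_pos (by rw [Nat.cast_one, mul_one]; exact B.congX φ hX) with
        ⟨-, h1⟩ | ⟨h1, -⟩
      · exact ⟨hX, h1⟩
      · rw [hφ] at h1; norm_num at h1
    · rcases mod_of_modEq (d := charDegree (φ : G → ℂ)) (r := 5) B.signY (p := 11) (by norm_num)
        (by norm_num) (B.congY φ hY) with ⟨h1, -⟩ | ⟨h1, -⟩ <;> rw [hφ] at h1 <;> norm_num at h1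
  have h23ne : ∀ φ : IrrCharacter G, charDegree (φ : G → ℂ) = 23 → trivIrr G ≠ φ := fun φ hφ e1 => by
    have h5 := deg_trivIrr (G := G)
    rw [e1] at h5
    change (charDegree (φ : G → ℂ) : ℤ) = 1 at h5
    rw [hφ] at h5
    norm_num at h5
  have hsub : ({trivIrr G, a, b, d} : Finset _) ⊆ X := by
    simp only [insert_subset_iff, singleton_subset_iff]
    exact ⟨B.triv, (hX23 a ha).1, (hX23 b hb).1, (hX23 d hd).1⟩
  obtain ⟨w, hw⟩ : ∃ w, X \ {trivIrr G, a, b, d} = {w} := card_eq_one.1 (by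
    rw [card_sdiff_of_subset hsub, B.cardX, card_insert_of_notMem (by
      simp [h23ne a ha, h23ne b hb, h23ne d hd]), card_insert_of_notMem (by simp [hab, had]),
      card_pair hbd])
  have hwX : w ∈ X ∧ w ∉ ({trivIrr G, a, b, d} : Finset _) :=
    mem_sdiff.1 (hw.symm ▸ mem_singleton_self w)
  have hXeq : X = {trivIrr G, a, b, d, w} := by
    rw [← sdiff_union_of_subset hsub, hw]
    ext φ; simp; tauto
  simp only [mem_insert, mem_singleton, not_or] at hwX
  obtain ⟨hwX, hw0, hwa, hwb, hwd⟩ := hwX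
  have hsumX : ∀ f : IrrCharacter G → ℂ, ∑ χ ∈ X, f χ = f (trivIrr G) + f a + f b + f d + f w :=
    fun f => by
      rw [hXeq, sum_insert (by simp [h23ne a ha, h23ne b hb, h23ne d hd, Ne.symm hw0]),
        sum_insert (by simp [hab, had, Ne.symm hwa]), sum_insert (by simp [hbd, Ne.symm hwb]),
        sum_pair (Ne.symm hwd)]
      ring
  obtain ⟨θ, hθ⟩ := card_pos.1 (B.cardY ▸ B.spos : 0 < Y.card)
  have hrel : ∀ g : G, ¬ 11 ∣ orderOf g → (ε : ℂ) * (θ : G → ℂ) g =
      1 + (a : G → ℂ) g + (b : G → ℂ) g + (d : G → ℂ) g + (sg w : ℂ) * (w : G → ℂ) g := fun g hg => by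
    rw [B.rel θ hθ g hg, hsumX, B.sgTriv, trivIrr_apply, (hX23 a ha).2, (hX23 b hb).2, (hX23 d hd).2]
    push_cast; ring
  have hdeg : ε * deg θ = 70 + sg w * deg w := by
    have h1 := hrel 1 (by rw [orderOf_one]; norm_num)
    simp only [apply_one_eq] at h1
    have h2 : ε * deg θ = 1 + deg a + deg b + deg d + sg w * deg w := by exact_mod_cast h1
    rw [h2, show deg a = 23 by simp [deg, ha], show deg b = 23 by simp [deg, hb],
      show deg d = 23 by simp [deg, hd]]
    ring
  -- the possible degrees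
  have hcases : (sg w = 1 ∧ charDegree (w : G → ℂ) = 45 ∧ ε = 1 ∧ charDegree (θ : G → ℂ) = 115) ∨
      (sg w = -1 ∧ charDegree (w : G → ℂ) = 230 ∧ ε = -1 ∧ charDegree (θ : G → ℂ) = 160) := by
    have hlist : (List.range 3194).all (fun d => if okDeg d = true then
        (decide (d % 11 ≠ 1) || !okDeg (70 + d) || decide ((70 + d) % 11 ∉ [5, 6]) || decide (d = 45)) &&
          (decide (d % 11 ≠ 10) || (decide (70 ≤ d) &&
            (!okDeg (d - 70) || decide ((d - 70) % 11 ∉ [5, 6]) || decide (d = 230))) ||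
            (decide (d < 70) &&
            (!okDeg (70 - d) || decide ((70 - d) % 11 ∉ [5, 6]))))
        else true) = true := by decide +kernel
    have h1 := all_range hlist (deg_lt hcard w)
    rw [if_pos (okDeg_irr hcard w)] at h1
    have hokθ := okDeg_irr hcard θ
    have hθ11 : charDegree (θ : G → ℂ) % 11 ∈ [5, 6] := by
      rcases mod_of_modEq (d := charDegree (θ : G → ℂ)) (r := 5) B.signY (p := 11) (by norm_num)
        (by norm_num) (B.congY θ hθ) with ⟨h2, -⟩ | ⟨h2, -⟩ <;> simp [h2]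
    have hposθ : 0 < charDegree (θ : G → ℂ) := (irr_one θ).2
    change ε * (charDegree (θ : G → ℂ) : ℤ) = 70 + sg w * (charDegree (w : G → ℂ) : ℤ) at hdeg
    simp only [Bool.and_eq_true, Bool.or_eq_true, decide_eq_true_eq, Bool.not_eq_true'] at h1
    rcases mod_of_modEq (d := charDegree (w : G → ℂ)) (r := 1) (B.sign w hwX) (p := 11)
      (by norm_num) one_pos (by rw [Nat.cast_one, mul_one]; exact B.congX w hwX) with
      ⟨hm, hs⟩ | ⟨hm, hs⟩ <;> rw [hs] at hdeg
    · have hε : ε = 1 := B.signY.resolve_right fun e1 => by rw [e1] at hdeg; omega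
      rw [hε] at hdeg
      have he : charDegree (θ : G → ℂ) = 70 + charDegree (w : G → ℂ) := by omega
      rw [← he] at h1
      simp [hm, hokθ, hθ11] at h1
      exact Or.inl ⟨hs, h1, hε, by omega⟩
    · rcases B.signY with hε | hε <;> rw [hε] at hdeg
      · exfalso
        have he : charDegree (θ : G → ℂ) = 70 - charDegree (w : G → ℂ) := by omega
        rw [← he] at h1
        simp [hm, hokθ, hθ11] at h1
        omega
      · have he : charDegree (θ : G → ℂ) = charDegree (w : G → ℂ) - 70 := by omega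
        rw [← he] at h1
        simp [hm, hokθ, hθ11] at h1
        exact Or.inr ⟨hs, by omega, hε, by omega⟩
  obtain ⟨x, hxS, hx1⟩ := exists_ne_one h
  obtain ⟨z, hz⟩ := exists_prime_orderOf_dvd_card' (G := G) 2 (by rw [hcard]; norm_num)
  have hz2 : z ^ 2 = 1 := by rw [← hz, pow_orderOf_eq_one]
  have hreg : ¬ 11 ∣ orderOf z := by rw [hz]; norm_num
  obtain ⟨a₁, h1, -⟩ := exists_int_value a hz2
  obtain ⟨a₂, h2, -⟩ := exists_int_value b hz2
  obtain ⟨a₃, h3, -⟩ := exists_int_value d hz2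
  obtain ⟨a₄, h4, -⟩ := exists_int_value w hz2
  obtain ⟨a₅, h5, -⟩ := exists_int_value θ hz2
  have hzero := eleven_form_zero hcard (S := S) hM hxS hx1 hz
  rw [show univ.filter (· ∈ principalBlock M G) = X ∪ Y by ext φ; simp [B.mem],
    sum_union (disjoint_left.2 B.disj), hsumX,
    sum_congr rfl fun θ' (hθ' : θ' ∈ Y) => show
        (θ' : G → ℂ) x * ((θ' : G → ℂ) z ^ 2 / (θ' : G → ℂ) 1) =
          (θ' : G → ℂ) x * ((a₅ : ℂ) ^ 2 / (deg θ : ℂ)) by
      rw [B.agree θ' hθ' θ hθ z hreg, h5, apply_one_eq, B.deg_agree hθ' hθ],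
    ← sum_mul, B.sumY hM h hxS hx1, trivIrr_apply, trivIrr_apply, trivIrr_apply,
    B.valP (hX23 a ha).1 hxS hx1, B.valP (hX23 b hb).1 hxS hx1, B.valP (hX23 d hd).1 hxS hx1,
    B.valP hwX hxS hx1, (hX23 a ha).2, (hX23 b hb).2, (hX23 d hd).2, h1, h2, h3, h4,
    apply_one_eq, apply_one_eq, apply_one_eq, apply_one_eq] at hzero
  have hr := hrel z hreg
  rw [h1, h2, h3, h4, h5] at hr
  have hr' : ε * a₅ = 1 + a₁ + a₂ + a₃ + sg w * a₄ := by exact_mod_cast hr
  have key : (a₁ : ℝ) = 23 := by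
    rcases hcases with ⟨hs, hwd', hε, hθd⟩ | ⟨hs, hwd', hε, hθd⟩ <;>
      rw [hs, hε] at hzero hr' <;>
      simp only [deg, ha, hb, hd, hwd', hθd] at hzero
    · refine form_four (d₂ := 23) (d₃ := 23) (d₄ := 45) (a₂ := a₂) (a₃ := a₃) (a₄ := a₄)
        (by norm_num) (by norm_num) (by norm_num) (by norm_num) ?_
      have e5 : a₅ = 1 + a₁ + a₂ + a₃ + a₄ := by omega
      subst e5
      apply Complex.ofReal_injective
      push_cast at hzero ⊢
      linear_combination hzero
    · refine form_four (d₂ := 23) (d₃ := 23) (d₄ := 160) (a₂ := a₂) (a₃ := a₃) (a₄ := a₅)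
        (by norm_num) (by norm_num) (by norm_num) (by norm_num) ?_
      have e4 : a₄ = 1 + a₁ + a₂ + a₃ + a₅ := by omega
      subst e4
      apply Complex.ofReal_injective
      push_cast at hzero ⊢
      linear_combination hzero
  have key' : a₁ = 23 := by exact_mod_cast key
  have h6 := faithful_of_simple h (h23ne a ha).symm z (by rw [h1, key', apply_one_eq]; simp [deg, ha])
  rw [h6, orderOf_one] at hz
  norm_num at hz

/-- **The possibilities at seven.** -/
theorem sylow_seven_options (hcard : Nat.card G = 10200960) [Fact (Nat.Prime 7)] (S : Sylow 7 G) :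
    (Nat.card (Sylow 7 G), Nat.card (Subgroup.centralizer ((S : Subgroup G) : Set G)),
      Nat.card (Subgroup.normalizer ((S : Subgroup G) : Set G))) ∈
      [(30360, 112, 336), (242880, 14, 42), (3795, 448, 2688), (30360, 56, 336), (242880, 7, 42)] := by
  classical
  have h : Setup G 7 S := setup hcard S (m := 1457280) (by norm_num) (by norm_num)
  haveI : Fact (Nat.Prime 5) := ⟨by norm_num⟩
  haveI : Fact (Nat.Prime 11) := ⟨by norm_num⟩
  haveI : Fact (Nat.Prime 23) := ⟨by norm_num⟩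
  have h5 := not_dvd_cent h (q := 5) (k := 15) (fun z hz => (centralizer_five hcard hz).1) (by norm_num)
  have h11 := not_dvd_cent h (q := 11) (k := 11) (fun z hz => centralizer_eleven hcard hz) (by norm_num)
  have h23 := not_dvd_cent h (q := 23) (k := 23) (fun z hz => centralizer_twentyThree hcard hz)
    (by norm_num)
  obtain ⟨n, hn⟩ : ∃ n, Nat.card (Sylow 7 G) = 1 + n * 7 := by
    have hm : Nat.card (Sylow 7 G) % 7 = 1 := card_sylow_modEq_one 7 G
    exact ⟨Nat.card (Sylow 7 G) / 7, by omega⟩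
  obtain ⟨c, e, num⟩ := exists_num h hn
  obtain ⟨M, hM⟩ := exists_isPModular (Fact.out : Nat.Prime 7)
  haveI := hM.2.1.isPrime
  obtain ⟨s, X, Y, sg, ε, B⟩ := exists_blk hM h num
  have hG := num.cardG
  rw [hcard] at hG
  rw [num.cardC] at h5 h11 h23
  have hes := B.hes
  have he : e ∈ [2, 3, 6] := by
    have hd : e ∣ 6 := ⟨s, by omega⟩
    have := num.epos
    have := Nat.le_of_dvd (by norm_num) hd
    interval_cases e <;> simp_all
  have he11 : ¬ 11 ∣ c * e ∧ ¬ 23 ∣ c * e := by
    constructor <;> intro h1 <;> rcases (Nat.Prime.dvd_mul (by norm_num)).1 h1 with h2 | h2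
    · exact h11 (Dvd.dvd.mul_left h2 7)
    · simp at he; rcases he with rfl | rfl | rfl <;> norm_num at h2
    · exact h23 (Dvd.dvd.mul_left h2 7)
    · simp at he; rcases he with rfl | rfl | rfl <;> norm_num at h2
  have hG' : c * e * (1 + n * 7) = 1457280 := by linarith
  have h253 : 11 * 23 ∣ 1 + n * 7 := by
    refine Nat.Coprime.mul_dvd_of_dvd_of_dvd (by norm_num) ?_ ?_ <;>
      refine ((Nat.Prime.dvd_mul (by norm_num)).1 (by rw [hG']; norm_num)).resolve_left ?_
    exacts [he11.1, he11.2]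
  obtain ⟨k, hk⟩ := h253
  have hck : c * (e * k) = 5760 := by
    rw [hk] at hG'
    refine Nat.eq_of_mul_eq_mul_left (show 0 < 253 by norm_num) ?_
    linarith
  rcases seven_counts he hck (by omega) (fun hd => h5 (Dvd.dvd.mul_left hd 7)) with rfl | hopt
  · -- the automizer of order two
    exfalso
    obtain rfl : s = 3 := by omega
    obtain ⟨χ, hχ⟩ : ∃ χ, X.erase (trivIrr G) = {χ} := card_eq_one.1 (by
      rw [card_erase_of_mem B.triv, B.cardX])
    have hχX : χ ∈ X := mem_of_mem_erase (hχ.symm ▸ mem_singleton_self χ)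
    have hne : χ ≠ trivIrr G := ne_of_mem_erase (hχ.symm ▸ mem_singleton_self χ)
    have hχ1 : charDegree (χ : G → ℂ) ≠ 1 := fun e1 => hne (eq_trivIrr h (by
      show (charDegree (χ : G → ℂ) : ℤ) = 1
      rw [e1]; rfl))
    obtain ⟨a, b, d, hab, had, hbd, hYeq⟩ := card_eq_three.1 B.cardY
    have hlist : (List.range 3194).all (fun d => if 2 ≤ d ∧ okDeg d = true then
        (decide (d % 7 ≠ 1) || decide ((d + 1) % 7 ≠ 2) || !okDeg (d + 1) || decide (d = 22)) &&
          (decide (d % 7 ≠ 6) || decide ((d - 1) % 7 ≠ 5) || !okDeg (d - 1))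
        else true) = true := by decide +kernel
    have hb' := all_range hlist (deg_lt hcard χ)
    have hpos : 1 ≤ charDegree (χ : G → ℂ) := (irr_one χ).2
    rw [if_pos ⟨by omega, okDeg_irr hcard χ⟩] at hb'
    simp only [Bool.and_eq_true, Bool.or_eq_true, decide_eq_true_eq, Bool.not_eq_true'] at hb'
    have h23d : ∀ θ ∈ Y, charDegree (θ : G → ℂ) = 23 := fun θ hθ => by
      have hsum := B.degY hθ
      rw [← add_sum_erase X _ B.triv, hχ, sum_singleton, B.sgTriv, deg_trivIrr] at hsum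
      change ε * (charDegree (θ : G → ℂ) : ℤ) = 1 * 1 + sg χ * (charDegree (χ : G → ℂ) : ℤ) at hsum
      have hok := okDeg_irr hcard θ
      rcases mod_of_modEq (d := charDegree (χ : G → ℂ)) (r := 1) (B.sign χ hχX) (p := 7)
          (by norm_num) one_pos (by rw [Nat.cast_one, mul_one]; exact B.congX χ hχX) with
          ⟨hx, hs⟩ | ⟨hx, hs⟩ <;>
        rcases mod_of_modEq (d := charDegree (θ : G → ℂ)) (r := 2) B.signY (p := 7) (by norm_num)
          (by norm_num) (B.congY θ hθ) with ⟨hy, hε⟩ | ⟨hy, hε⟩ <;>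
        rw [hs, hε] at hsum
      · have he : charDegree (θ : G → ℂ) = charDegree (χ : G → ℂ) + 1 := by omega
        rw [he] at hok hy ⊢
        simp [hx, hy, hok] at hb'
        omega
      · omega
      · omega
      · have he : charDegree (θ : G → ℂ) = charDegree (χ : G → ℂ) - 1 := by omega
        rw [he] at hok hy
        simp [hx, hy, hok] at hb'
    exact no_three_twentyThree hcard hab had hbd (h23d a (by simp [hYeq])) (h23d b (by simp [hYeq]))
      (h23d d (by simp [hYeq]))
  simp only [List.mem_cons, Prod.mk.injEq, List.not_mem_nil, or_false] at hopt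
  rcases hopt with ⟨rfl, rfl, rfl⟩ | ⟨rfl, rfl, rfl⟩ | ⟨rfl, rfl, rfl⟩ | ⟨rfl, rfl, rfl⟩ |
    ⟨rfl, rfl, rfl⟩ | ⟨rfl, rfl, rfl⟩
  · exact (no_block_small hcard hM h num (by norm_num) B (fun d => !okDeg d)
      (fun χ _ _ => by simp [okDeg_irr hcard χ]) 1000003 [253, -1035] (by norm_num)
      (by rw [hk]; decide +kernel) (by rw [hk]; decide +kernel)).elim
  all_goals rw [hn, num.cardC, num.cardN, hk]; norm_num

end CfsgLib.M23Ord
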