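import Cfsg.Agent.M23Ord.SevenBlock
import Cfsg.Agent.FGSB.FrobeniusRoots

/-!
# Simple groups of order 10200960: the involution attached to a Sylow subgroup of order seven

Counting the pairs of an involution and a Sylow subgroup of order seven that it centralizes shows
that each of these subgroups is centralized by exactly one involution.
-/

set_option autoImplicit false
set_option linter.style.haveILetI false
set_option linter.unusedSectionVars false

namespace CfsgLib.M23Ord

open Cfsg Finset CfsgLib.Block CfsgLib.BrauerPrime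
open scoped Pointwise

universe u

variable {G : Type u} [Group G] [Fintype G]

theorem smul_le_centralizer {p : ℕ} {P : Sylow p G} {z : G}
    (h : (P : Subgroup G) ≤ Subgroup.centralizer ({z} : Set G)) (g : G) :
    ((g • P : Sylow p G) : Subgroup G) ≤ Subgroup.centralizer ({g * z * g⁻¹} : Set G) := by
  rintro a ⟨b, hb, rfl⟩
  have hc : b * z = z * b := Subgroup.mem_centralizer_singleton_iff.1 (h hb)
  refine Subgroup.mem_centralizer_singleton_iff.2 ?_
  show g * b * g⁻¹ * (g * z * g⁻¹) = g * z * g⁻¹ * (g * b * g⁻¹)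
  calc g * b * g⁻¹ * (g * z * g⁻¹) = g * (b * z) * g⁻¹ := by group
    _ = g * (z * b) * g⁻¹ := by rw [hc]
    _ = g * z * g⁻¹ * (g * b * g⁻¹) := by group

/-- The Sylow subgroups centralized by an element, as those of its centralizer. -/
theorem card_sylow_centralizer {p : ℕ} [Fact p.Prime] (z : G)
    (hcard : ∀ P : Sylow p G, Nat.card (P : Subgroup G) = p)
    (hd : p ∣ Nat.card (Subgroup.centralizer ({z} : Set G))) :
    Nat.card {P : Sylow p G // (P : Subgroup G) ≤ Subgroup.centralizer ({z} : Set G)} =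
      Nat.card (Sylow p (Subgroup.centralizer ({z} : Set G))) := by
  refine Nat.card_congr (Equiv.ofBijective (fun P => P.1.subtype P.2)
    ⟨fun P Q h => Subtype.ext (Sylow.subtype_injective h), fun Q => ?_⟩)
  obtain ⟨P, hP⟩ := Q.exists_comap_subtype_eq
  have hQ : p ∣ Nat.card (Q : Subgroup (Subgroup.centralizer ({z} : Set G))) := Q.dvd_card_of_dvd_card hd
  have hle : (P : Subgroup G) ≤ Subgroup.centralizer ({z} : Set G) := by
    have h1 : (Q : Subgroup (Subgroup.centralizer ({z} : Set G))).map (Subgroup.subtype _) =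
        (P : Subgroup G) := by
      refine Subgroup.eq_of_le_of_card_ge (by rw [← hP]; exact Subgroup.map_comap_le _ _) ?_
      rw [hcard P, Subgroup.card_map_of_injective (Subgroup.subtype_injective _)]
      exact Nat.le_of_dvd Nat.card_pos hQ
    rw [← h1]
    exact Subgroup.map_subtype_le _
  exact ⟨⟨P, hle⟩, Sylow.ext hP⟩

variable [IsSimpleGroup G]

theorem card_involutions (hcard : Nat.card G = 10200960) :
    Nat.card {z : G // orderOf z = 2} = 3795 := by
  haveI : Fact (Nat.Prime 2) := ⟨Nat.prime_two⟩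
  obtain ⟨t, ht⟩ := exists_prime_orderOf_dvd_card' (G := G) 2 (by rw [hcard]; norm_num)
  obtain ⟨hconj, hC⟩ := involution_class hcard
  have h1 := CfsgLib.Char.card_conj_class_mul_card_centralizer t
  rw [hC t ht, hcard] at h1
  rw [Nat.card_congr (Equiv.subtypeEquivRight fun z => (⟨fun hz => hconj t z ht hz, fun hz => ?_⟩ :
    orderOf z = 2 ↔ IsConj t z))]
  · omega
  · obtain ⟨g, rfl⟩ := isConj_iff.1 hz
    rw [← ht]
    exact (MulAut.conj g).orderOf_eq t

/-- **One involution centralizes each Sylow subgroup of order seven.** -/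
theorem seven_involution (hcard : Nat.card G = 10200960) [Fact (Nat.Prime 7)] (S : Sylow 7 G) :
    ∃ z : G, orderOf z = 2 ∧ (S : Subgroup G) ≤ Subgroup.centralizer ({z} : Set G) ∧
      (∀ g ∈ Subgroup.normalizer ((S : Subgroup G) : Set G), Commute g z) ∧
      Nat.card (Subgroup.centralizer ({z} : Set G)) = 2688 ∧
      ((Nat.card (Subgroup.centralizer ((S : Subgroup G) : Set G)) = 14 ∧
          Nat.card (Subgroup.normalizer ((S : Subgroup G) : Set G)) = 42) ∨
        (Nat.card (Subgroup.centralizer ((S : Subgroup G) : Set G)) = 448 ∧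
          Nat.card {P : Sylow 7 G // (P : Subgroup G) ≤ Subgroup.centralizer ({z} : Set G)} = 1) ∨
        ((Nat.card (Subgroup.centralizer ((S : Subgroup G) : Set G)) = 112 ∨
            Nat.card (Subgroup.centralizer ((S : Subgroup G) : Set G)) = 56) ∧
          Nat.card {P : Sylow 7 G // (P : Subgroup G) ≤ Subgroup.centralizer ({z} : Set G)} = 8)) := by
  classical
  haveI : Fact (Nat.Prime 2) := ⟨Nat.prime_two⟩
  obtain ⟨hconj, hC⟩ := involution_class hcard
  obtain ⟨t, ht⟩ := exists_prime_orderOf_dvd_card' (G := G) 2 (by rw [hcard]; norm_num)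
  have h7 : ∀ P : Sylow 7 G, Nat.card (P : Subgroup G) = 7 := fun P =>
    (setup hcard P (m := 1457280) (by norm_num) (by norm_num)).cardP
  set R : G → Sylow 7 G → Prop :=
    fun z P => (P : Subgroup G) ≤ Subgroup.centralizer ({z} : Set G) with hR
  -- both degrees are constant
  have hn : ∀ z : G, orderOf z = 2 → Nat.card {P // R z P} = Nat.card {P // R t P} := fun z hz => by
    obtain ⟨g, hg⟩ := isConj_iff.1 (hconj t z ht hz)
    refine (Nat.card_congr (Equiv.subtypeEquiv (MulAction.toPerm g) fun P => ?_)).symm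
    refine ⟨fun h => hg ▸ smul_le_centralizer h g, fun h => ?_⟩
    have h1 := smul_le_centralizer h g⁻¹
    rw [← hg] at h1
    simpa [R, mul_assoc] using h1
  have hI : ∀ P : Sylow 7 G, Nat.card {z : G // orderOf z = 2 ∧ R z P} =
      Nat.card {z : G // orderOf z = 2 ∧ R z S} := fun P => by
    obtain ⟨g, hg⟩ := MulAction.exists_smul_eq G S P
    refine (Nat.card_congr (Equiv.subtypeEquiv (MulAut.conj g).toEquiv fun z => ?_)).symm
    rw [← hg]
    show _ ↔ orderOf (g * z * g⁻¹) = 2 ∧ R (g * z * g⁻¹) (g • S)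
    rw [show orderOf (g * z * g⁻¹) = orderOf z from
      (MulAut.conj g).orderOf_eq z]
    refine and_congr_right fun _ => ⟨fun h => smul_le_centralizer h g, fun h => ?_⟩
    have h1 := smul_le_centralizer h g⁻¹
    simpa [R, mul_assoc] using h1
  -- the double count
  have hdouble : 3795 * Nat.card {P // R t P} =
      Nat.card (Sylow 7 G) * Nat.card {z : G // orderOf z = 2 ∧ R z S} := by
    have h := Nat.card_congr (show (Σ z : {z : G // orderOf z = 2}, {P // R z.1 P}) ≃
        (Σ P : Sylow 7 G, {z : G // orderOf z = 2 ∧ R z P}) from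
      ⟨fun p => ⟨p.2.1, ⟨p.1.1, p.1.2, p.2.2⟩⟩, fun p => ⟨⟨p.2.1, p.2.2.1⟩, ⟨p.1, p.2.2.2⟩⟩,
        fun _ => rfl, fun _ => rfl⟩)
    rw [Nat.card_sigma, Nat.card_sigma, sum_congr rfl fun z _ => hn z.1 z.2,
      sum_congr rfl fun P _ => hI P, sum_const, sum_const, card_univ, card_univ, smul_eq_mul,
      smul_eq_mul, ← Nat.card_eq_fintype_card, ← Nat.card_eq_fintype_card, card_involutions hcard] at h
    exact h
  -- the Sylow subgroups of the centralizer
  set n := Nat.card {P // R t P} with hndef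
  have hnval : n ∣ 384 ∧ n % 7 = 1 := by
    have hd : 7 ∣ Nat.card (Subgroup.centralizer ({t} : Set G)) := by rw [hC t ht]; norm_num
    have hn7 : n = Nat.card (Sylow 7 (Subgroup.centralizer ({t} : Set G))) :=
      card_sylow_centralizer t h7 hd
    obtain ⟨Q⟩ : Nonempty (Sylow 7 (Subgroup.centralizer ({t} : Set G))) := inferInstance
    have hQ : Nat.card (Q : Subgroup (Subgroup.centralizer ({t} : Set G))) = 7 := by
      simpa using CfsgLib.SmallSimple.card_sylow_eq Q (k := 1) (m := 384)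
        (by rw [hC t ht]; norm_num) (by norm_num)
    have h2 := (Q : Subgroup (Subgroup.centralizer ({t} : Set G))).card_mul_index
    rw [hQ, hC t ht] at h2
    refine ⟨?_, hn7 ▸ card_sylow_modEq_one 7 _⟩
    have h3 := Sylow.card_dvd_index Q
    rwa [← hn7, show (Q : Subgroup (Subgroup.centralizer ({t} : Set G))).index = 384 by omega] at h3
  have hn3 : n = 1 ∨ n = 8 ∨ n = 64 := by
    have : n ∈ (Nat.divisors 384).filter (fun k => k % 7 = 1) :=
      mem_filter.2 ⟨Nat.mem_divisors.2 ⟨hnval.1, by norm_num⟩, hnval.2⟩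
    rw [show (Nat.divisors 384).filter (fun k => k % 7 = 1) = {1, 8, 64} by decide] at this
    simpa using this
  set I := Nat.card {z : G // orderOf z = 2 ∧ R z S} with hIdef
  set H := Subgroup.centralizer ((S : Subgroup G) : Set G) with hHdef
  have hRS : ∀ z : G, R z S ↔ z ∈ H := fun z =>
    ⟨fun h => Subgroup.mem_centralizer_iff.2 fun a ha => Subgroup.mem_centralizer_singleton_iff.1 (h ha),
      fun h a ha => Subgroup.mem_centralizer_singleton_iff.2 (Subgroup.mem_centralizer_iff.1 h a ha)⟩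
  have hpar : Nat.gcd 2 (Nat.card H) ∣ I + 1 := by
    have h1 := CfsgLib.FrobRoots.gcd_dvd_card_pow_eq_one H 2
    have hiff : ∀ h : H, h ^ 2 = 1 ∧ h ≠ 1 ↔ orderOf (h : G) = 2 := fun h => by
      rw [orderOf_eq_prime_iff]
      exact and_congr (by rw [← Subgroup.coe_pow, OneMemClass.coe_eq_one])
        (by rw [ne_eq, ne_eq, OneMemClass.coe_eq_one])
    have h2 : Nat.card {h : H // h ^ 2 = 1} = I + 1 := by
      rw [hIdef, ← Nat.card_congr (show {h : H // h ^ 2 = 1 ∧ h ≠ 1} ≃ {z : G // orderOf z = 2 ∧ R z S} from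
        ⟨fun h => ⟨(h.1 : G), (hiff h.1).1 h.2, (hRS _).2 h.1.2⟩,
          fun z => ⟨⟨z.1, (hRS _).1 z.2.2⟩, (hiff _).2 z.2.1⟩, fun _ => rfl, fun _ => rfl⟩),
        Nat.card_eq_fintype_card, Nat.card_eq_fintype_card, Fintype.card_subtype, Fintype.card_subtype,
        ← filter_filter, filter_ne', card_erase_add_one (show (1 : H) ∈ univ.filter (fun h : H => h ^ 2 = 1) by simp)]
    rwa [h2] at h1
  have hI7 : Nat.card H = 7 → I = 0 := fun h => by
    refine Nat.card_eq_zero.2 (Or.inl ⟨fun z => ?_⟩)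
    have h1 := Subgroup.orderOf_dvd_natCard H ((hRS _).1 z.2.2)
    rw [h, z.2.1] at h1
    norm_num at h1
  have hopt := sylow_seven_options hcard S
  simp only [List.mem_cons, Prod.mk.injEq, List.not_mem_nil, or_false] at hopt
  have hI1 : I = 1 ∧ ((Nat.card H = 14 ∧ Nat.card (Subgroup.normalizer ((S : Subgroup G) : Set G)) = 42) ∨
      (Nat.card H = 448 ∧ n = 1) ∨ ((Nat.card H = 112 ∨ Nat.card H = 56) ∧ n = 8)) := by
    rcases hopt with ⟨h1, h2, h3⟩ | ⟨h1, h2, h3⟩ | ⟨h1, h2, h3⟩ | ⟨h1, h2, h3⟩ | ⟨h1, h2, h3⟩ <;>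
      rw [h1] at hdouble <;> rw [← hHdef] at h2 <;> rw [h2] at hpar <;> norm_num at hpar
    · exact ⟨by omega, Or.inr (Or.inr ⟨Or.inl h2, by omega⟩)⟩
    · exact ⟨by omega, Or.inl ⟨h2, h3⟩⟩
    · exact ⟨by omega, Or.inr (Or.inl ⟨h2, by omega⟩)⟩
    · exact ⟨by omega, Or.inr (Or.inr ⟨Or.inr h2, by omega⟩)⟩
    · have := hI7 h2
      omega
  obtain ⟨hI', hcases⟩ := hI1
  obtain ⟨⟨hsub⟩, ⟨⟨z, hz, hzS⟩⟩⟩ := Nat.card_eq_one_iff_unique.1 hI'
  refine ⟨z, hz, hzS, fun g hg => ?_, hC z hz, ?_⟩
  · have hgS : g • S = S := Sylow.smul_eq_iff_mem_normalizer.2 hg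
    have h1 : R (g * z * g⁻¹) S := by
      have := smul_le_centralizer hzS g
      rwa [hgS] at this
    have h2 : orderOf (g * z * g⁻¹) = 2 :=
      ((MulAut.conj g).orderOf_eq z).trans hz
    exact mul_inv_eq_iff_eq_mul.1 (congrArg Subtype.val (hsub ⟨g * z * g⁻¹, h2, h1⟩ ⟨z, hz, hzS⟩))
  · have hnz : Nat.card {P // R z P} = n := hn z hz
    rcases hcases with h | ⟨h, h'⟩ | ⟨h, h'⟩
    · exact Or.inl h
    · exact Or.inr (Or.inl ⟨h, hnz.trans h'⟩)
    · exact Or.inr (Or.inr ⟨h, hnz.trans h'⟩)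

end CfsgLib.M23Ord
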