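import Cfsg.Agent.M23Ord.ThreeCent

/-!
# Simple groups of order 10200960: the Sylow subgroups of order seven have normalizers of order 42

An element of order three commuting with an involution is inverted in the centralizer of the
involution, while the action on a Sylow subgroup of order seven forbids this in the larger cases.
-/

set_option autoImplicit false
set_option linter.style.haveILetI false
set_option linter.unusedSectionVars false

namespace CfsgLib.M23Ord

open Cfsg Finset CfsgLib.Block CfsgLib.BrauerPrime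
open scoped Pointwise

universe u

variable {G : Type u} [Group G] [Fintype G] [IsSimpleGroup G]

/-- **Centralizer and inverter inside the centralizer of an involution.** -/
theorem three_involution (hcard : Nat.card G = 10200960) {x z : G} (hx : orderOf x = 3)
    (hz : orderOf z = 2) (hxz : Commute x z) :
    Nat.card ↥(Subgroup.centralizer ({x} : Set G) ⊓ Subgroup.centralizer ({z} : Set G)) = 12 ∧
      ∃ s : G, Commute s z ∧ s * x * s⁻¹ = x⁻¹ := by
  classical
  haveI : Fact (Nat.Prime 2) := ⟨Nat.prime_two⟩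
  haveI : Fact (Nat.Prime 3) := ⟨Nat.prime_three⟩
  set Cx := Subgroup.centralizer ({x} : Set G) with hCxdef
  set L := Subgroup.centralizer ({z} : Set G) with hLdef
  have hCx : Nat.card Cx = 180 := three_centralizer hcard hx hz hxz
  have hL : Nat.card L = 2688 := (involution_class hcard).2 z hz
  have hxD : x ∈ Cx ⊓ L :=
    ⟨Subgroup.mem_centralizer_singleton_iff.2 rfl, Subgroup.mem_centralizer_singleton_iff.2 hxz.eq⟩
  have h12 : Nat.card (Cx ⊓ L : Subgroup G) = 12 := by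
    have hd : Nat.card (Cx ⊓ L : Subgroup G) ∣ 12 := by
      have h1 := Nat.dvd_gcd (hCx ▸ Subgroup.card_dvd_of_le (inf_le_left : Cx ⊓ L ≤ Cx))
        (hL ▸ Subgroup.card_dvd_of_le (inf_le_right : Cx ⊓ L ≤ L))
      exact h1.trans (by norm_num)
    have h3 : 3 ∣ Nat.card (Cx ⊓ L : Subgroup G) := hx ▸ Subgroup.orderOf_dvd_natCard _ hxD
    have h4 : 4 ∣ Nat.card (Cx ⊓ L : Subgroup G) := by
      set z' : Cx := ⟨z, Subgroup.mem_centralizer_singleton_iff.2 hxz.eq.symm⟩
      obtain ⟨Q, hQ⟩ := (IsPGroup.of_card (n := 1) (by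
        rw [Nat.card_zpowers, ← Subgroup.orderOf_coe, hz, pow_one]) :
        IsPGroup 2 (Subgroup.zpowers z')).exists_le_sylow
      have hQ4 : Nat.card (Q : Subgroup Cx) = 2 ^ 2 := by
        simpa using CfsgLib.SmallSimple.card_sylow_eq Q (k := 2) (m := 45)
          (by rw [hCx]; norm_num) (by norm_num)
      have hle : (Q : Subgroup Cx).map Cx.subtype ≤ Cx ⊓ L := by
        rintro _ ⟨g, hg, rfl⟩
        refine ⟨g.2, Subgroup.mem_centralizer_singleton_iff.2 ?_⟩
        exact congrArg (fun q : (Q : Subgroup Cx) => ((q : Cx) : G))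
          ((IsPGroup.isMulCommutative_of_card_eq_prime_sq hQ4).is_comm.comm
            (⟨g, hg⟩ : (Q : Subgroup Cx)) ⟨z', hQ (Subgroup.mem_zpowers z')⟩)
      have h5 := Subgroup.card_dvd_of_le hle
      rwa [Subgroup.card_map_of_injective Cx.subtype_injective, hQ4] at h5
    exact Nat.dvd_antisymm hd (Nat.Coprime.mul_dvd_of_dvd_of_dvd (show Nat.Coprime 3 4 by norm_num) h3 h4)
  refine ⟨h12, ?_⟩
  set x' : L := ⟨x, hxD.2⟩
  obtain ⟨P, hP⟩ := (IsPGroup.of_card (n := 1) (by
    rw [Nat.card_zpowers, ← Subgroup.orderOf_coe, hx, pow_one]) :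
    IsPGroup 3 (Subgroup.zpowers x')).exists_le_sylow
  have hP3 : Nat.card (P : Subgroup L) = 3 := by
    simpa using CfsgLib.SmallSimple.card_sylow_eq P (k := 1) (m := 896) (by rw [hL]; norm_num)
      (by norm_num)
  have hPz : (P : Subgroup L) = Subgroup.zpowers x' :=
    (Subgroup.eq_of_le_of_card_ge hP (by rw [hP3, Nat.card_zpowers, ← Subgroup.orderOf_coe, hx])).symm
  set N := Subgroup.normalizer ((P : Subgroup L) : Set L) with hNdef
  have hC12 : Nat.card (Subgroup.centralizer ({x'} : Set L)) = 12 := by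
    rw [← h12]
    refine Nat.card_congr
      { toFun := fun g => ⟨(g.1 : G), Subgroup.mem_centralizer_singleton_iff.2
          (congrArg Subtype.val (Subgroup.mem_centralizer_singleton_iff.1 g.2)), g.1.2⟩
        invFun := fun g => ⟨⟨g.1, g.2.2⟩, Subgroup.mem_centralizer_singleton_iff.2
          (Subtype.ext (Subgroup.mem_centralizer_singleton_iff.1 g.2.1))⟩
        left_inv := fun g => rfl
        right_inv := fun g => rfl }
  have hle : Subgroup.centralizer ({x'} : Set L) ≤ N := by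
    rw [hNdef, hPz]
    intro g hg
    refine Subgroup.centralizer_le_normalizer _ (Subgroup.mem_centralizer_iff.2 fun a ha => ?_)
    obtain ⟨k, rfl⟩ := Subgroup.mem_zpowers_iff.1 ha
    exact ((show Commute x' g from (Subgroup.mem_centralizer_singleton_iff.1 hg).symm).zpow_left k).eq
  obtain ⟨g, hgN, hgC⟩ : ∃ g ∈ N, g ∉ Subgroup.centralizer ({x'} : Set L) := by
    by_contra hno
    push Not at hno
    have hN : Nat.card N = 12 := by rw [le_antisymm hno hle, hC12]
    have h1 : Nat.card (Sylow 3 L) = N.index := Sylow.card_eq_index_normalizer P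
    have h2 := N.card_mul_index
    rw [hN, hL] at h2
    have h3 : Nat.card (Sylow 3 L) % 3 = 1 := card_sylow_modEq_one 3 L
    omega
  have h1 : g * x' * g⁻¹ ∈ Subgroup.zpowers x' := by
    rw [← hPz]
    exact (Subgroup.mem_normalizer_iff.1 hgN x').1 (hP (Subgroup.mem_zpowers x'))
  obtain ⟨k, hk⟩ := Submonoid.mem_powers_iff _ _ |>.1 (mem_powers_iff_mem_zpowers.2 h1)
  have hk' : x ^ (k % 3) = (g : G) * x * (g : G)⁻¹ := by
    rw [← hx, pow_mod_orderOf]
    exact congrArg Subtype.val hk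
  refine ⟨g, Subgroup.mem_centralizer_singleton_iff.1 g.2, ?_⟩
  rw [← hk']
  rcases (show k % 3 = 0 ∨ k % 3 = 1 ∨ k % 3 = 2 by omega) with e | e | e <;> rw [e] at hk' ⊢
  · rw [pow_zero] at hk'
    rw [conj_eq_one_iff.1 hk'.symm, orderOf_one] at hx
    norm_num at hx
  · rw [pow_one] at hk'
    exact absurd (Subgroup.mem_centralizer_singleton_iff.2
      (Subtype.ext (mul_inv_eq_iff_eq_mul.1 hk'.symm))) hgC
  · rw [eq_inv_iff_mul_eq_one, ← pow_succ, show 2 + 1 = orderOf x from hx.symm, pow_orderOf_eq_one]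

section Seven

variable [Fact (Nat.Prime 7)] {S : Sylow 7 G}

/-- The normalizer acts on the Sylow subgroup by commuting automorphisms. -/
theorem comm_act (h : Setup G 7 S) {n y : G}
    (hn : n ∈ Subgroup.normalizer ((S : Subgroup G) : Set G))
    (hy : y ∈ Subgroup.normalizer ((S : Subgroup G) : Set G)) :
    n * y * n⁻¹ * y⁻¹ ∈ Subgroup.centralizer ((S : Subgroup G) : Set G) := by
  obtain ⟨u, hu, hu1⟩ := exists_ne_one h
  rw [← centralizer_singleton h hu hu1]
  have hpow : ∀ g ∈ Subgroup.normalizer ((S : Subgroup G) : Set G), ∃ a : ℕ, g * u * g⁻¹ = u ^ a :=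
    fun g hg => by
      have h1 : g * u * g⁻¹ ∈ Subgroup.zpowers u :=
        (zpowers_eq h hu hu1).symm ▸ (Subgroup.mem_normalizer_iff.1 hg u).1 hu
      obtain ⟨k, hk⟩ := Submonoid.mem_powers_iff _ _ |>.1 (mem_powers_iff_mem_zpowers.2 h1)
      exact ⟨k, hk.symm⟩
  obtain ⟨a, ha⟩ := hpow y hy
  obtain ⟨b, hb⟩ := hpow n⁻¹ (inv_mem hn)
  rw [inv_inv] at hb
  have key : n * y * n⁻¹ * u * (n * y * n⁻¹)⁻¹ = y * u * y⁻¹ :=
    calc n * y * n⁻¹ * u * (n * y * n⁻¹)⁻¹ = n * (y * (n⁻¹ * u * n) * y⁻¹) * n⁻¹ := by group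
      _ = n * (y * u ^ b * y⁻¹) * n⁻¹ := by rw [hb]
      _ = n * (u ^ b) ^ a * n⁻¹ := by rw [← conj_pow, ha, ← pow_mul, mul_comm, pow_mul]
      _ = u ^ a := by rw [← conj_pow, ← hb]; group
      _ = y * u * y⁻¹ := ha.symm
  have key2 : (n * y * n⁻¹ * y⁻¹) * (y * u * y⁻¹) = (y * u * y⁻¹) * (n * y * n⁻¹ * y⁻¹) :=
    calc (n * y * n⁻¹ * y⁻¹) * (y * u * y⁻¹) =
          n * y * n⁻¹ * u * (n * y * n⁻¹)⁻¹ * (n * y * n⁻¹ * y⁻¹) := by group
      _ = _ := by rw [key]
  rw [ha] at key2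
  refine Subgroup.mem_centralizer_singleton_iff.2 ?_
  have hu7 : orderOf u = 7 := orderOf_eq h hu hu1
  have ha7 : Nat.Coprime a (orderOf u) := by
    rw [hu7, Nat.coprime_comm, Nat.Prime.coprime_iff_not_dvd (by norm_num)]
    intro hd
    obtain ⟨r, rfl⟩ := hd
    rw [pow_mul, ← hu7, pow_orderOf_eq_one, one_pow, mul_inv_eq_one, mul_eq_left] at ha
    exact hu1 ha
  obtain ⟨r, hr⟩ := exists_pow_eq_self_of_coprime ha7
  have hc := (show Commute (n * y * n⁻¹ * y⁻¹) (u ^ a) from key2).pow_right r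
  rw [hr] at hc
  exact hc.eq

theorem no_inverter (h : Setup G 7 S) {s y : G}
    (hs : s ∈ Subgroup.normalizer ((S : Subgroup G) : Set G))
    (hy : y ∈ Subgroup.normalizer ((S : Subgroup G) : Set G)) (hy3 : orderOf y = 3)
    (hsy : s * y * s⁻¹ = y⁻¹) : y ∈ Subgroup.centralizer ((S : Subgroup G) : Set G) := by
  have h1 := comm_act h hs hy
  rw [hsy, show y⁻¹ * y⁻¹ = y by
    rw [← _root_.mul_inv_rev, inv_eq_iff_mul_eq_one, ← pow_two, ← pow_succ,
      show 2 + 1 = orderOf y from hy3.symm, pow_orderOf_eq_one]] at h1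
  exact h1

/-- **The centralizer has order 14 and the normalizer order 42.** -/
theorem sylow_seven (hcard : Nat.card G = 10200960) (S : Sylow 7 G) :
    Nat.card (Subgroup.centralizer ((S : Subgroup G) : Set G)) = 14 ∧
      Nat.card (Subgroup.normalizer ((S : Subgroup G) : Set G)) = 42 := by
  classical
  haveI : Fact (Nat.Prime 2) := ⟨Nat.prime_two⟩
  haveI : Fact (Nat.Prime 3) := ⟨Nat.prime_three⟩
  have h : Setup G 7 S := setup hcard S (m := 1457280) (by norm_num) (by norm_num)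
  obtain ⟨z, hz, hzS, hzN, hL, hcases⟩ := seven_involution hcard S
  obtain ⟨y, hy3, hyN, hyC⟩ := exists_three_seven hcard S
  obtain ⟨h12, s, hsz, hsy⟩ := three_involution hcard hy3 hz (hzN y hyN)
  refine hcases.resolve_right ?_
  set L := Subgroup.centralizer ({z} : Set G) with hLdef
  have hsL : s ∈ L := Subgroup.mem_centralizer_singleton_iff.2 hsz.eq
  have hyL : y ∈ L := Subgroup.mem_centralizer_singleton_iff.2 (hzN y hyN).eq
  set Syl := {P : Sylow 7 G // (P : Subgroup G) ≤ L}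
  have hmove : ∀ g ∈ L, ∀ P : Syl, ((g • P.1 : Sylow 7 G) : Subgroup G) ≤ L := fun g hg P => by
    have h1 := smul_le_centralizer P.2 g
    rwa [mul_inv_eq_iff_eq_mul.2 (Subgroup.mem_centralizer_singleton_iff.1 hg)] at h1
  rintro (⟨hC, hn1⟩ | ⟨hC, hn8⟩)
  · -- a single Sylow subgroup in the centralizer
    refine hyC (no_inverter h ?_ hyN hy3 hsy)
    haveI : Subsingleton Syl := (Nat.card_eq_one_iff_unique.1 hn1).1
    exact Sylow.smul_eq_iff_mem_normalizer.1 (congrArg Subtype.val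
      (Subsingleton.elim (⟨s • S, hmove s hsL ⟨S, hzS⟩⟩ : Syl) ⟨S, hzS⟩))
  -- eight Sylow subgroups in the centralizer
  have h7 : ∀ P : Sylow 7 G, Setup G 7 P := fun P => setup hcard P (m := 1457280) (by norm_num) (by norm_num)
  have hfix : ∀ P Q : Sylow 7 G, ∀ v ∈ (P : Subgroup G), v ≠ 1 → v • Q = Q → P = Q := by
    intro P Q v hv hv1 hvQ
    have hp : IsPGroup 7 (Subgroup.zpowers v) := IsPGroup.of_card (n := 1) (by
      rw [Nat.card_zpowers, orderOf_eq (h7 P) hv hv1, pow_one])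
    have h1 : v ∈ Subgroup.zpowers v ⊓ Subgroup.normalizer ((Q : Subgroup G) : Set G) :=
      ⟨Subgroup.mem_zpowers v, Sylow.smul_eq_iff_mem_normalizer.1 hvQ⟩
    have e := hp.inf_normalizer_sylow Q
    have h2 : v ∈ Subgroup.zpowers v ⊓ (Q : Subgroup G) := e ▸ h1
    exact Sylow.ext ((zpowers_eq (h7 P) hv hv1).symm.trans (zpowers_eq (h7 Q) h2.2 hv1))
  have horbit : ∀ P Q R : Syl, Q ≠ P → R ≠ P → ∀ v ∈ (P.1 : Subgroup G), v ≠ 1 →
      ∃ i : ℕ, (v ^ i) • Q.1 = R.1 := by
    intro P Q R hQ hR v hv hv1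
    have hvo : orderOf v = 7 := orderOf_eq (h7 P.1) hv hv1
    let f : Fin 7 → {T : Syl // T ≠ P} := fun i => ⟨⟨(v ^ (i : ℕ)) • Q.1,
      hmove _ (pow_mem (P.2 hv) _) Q⟩, fun e => hQ (Subtype.ext (by
        have e1 : (v ^ (i : ℕ)) • Q.1 = P.1 := congrArg Subtype.val e
        have e2 : (v ^ (i : ℕ)) • P.1 = P.1 := Sylow.smul_eq_iff_mem_normalizer.2
          (Subgroup.le_normalizer (pow_mem hv _))
        exact smul_left_cancel (v ^ (i : ℕ)) (e1.trans e2.symm)))⟩
    have hf : Function.Injective f := by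
      intro i j he
      have e1 : (v ^ (i : ℕ)) • Q.1 = (v ^ (j : ℕ)) • Q.1 := congrArg (fun T => T.1.1) he
      by_contra hij
      have e2 : ((v ^ (j : ℕ))⁻¹ * v ^ (i : ℕ)) • Q.1 = Q.1 := by
        rw [mul_smul, e1, inv_smul_smul]
      refine hQ (Subtype.ext (hfix P.1 Q.1 _ (mul_mem (inv_mem (pow_mem hv _)) (pow_mem hv _))
        (fun e3 => ?_) e2).symm)
      rw [inv_mul_eq_one, pow_eq_pow_iff_modEq, hvo, Nat.ModEq, Nat.mod_eq_of_lt i.2,
        Nat.mod_eq_of_lt j.2] at e3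
      exact hij (Fin.ext e3.symm)
    have hb : Function.Bijective f := (Fintype.bijective_iff_injective_and_card f).2 ⟨hf, by
      rw [← Nat.card_eq_fintype_card, ← Nat.card_eq_fintype_card, Nat.card_fin,
        Nat.card_eq_fintype_card, Fintype.card_subtype_compl, Fintype.card_subtype_eq,
        ← Nat.card_eq_fintype_card, hn8]⟩
    obtain ⟨i, hi⟩ := hb.2 ⟨R, hR⟩
    exact ⟨i, congrArg (fun T => T.1.1) hi⟩
  obtain ⟨u, huS, hu1⟩ := exists_ne_one h
  have hCdef : Subgroup.centralizer ((S : Subgroup G) : Set G) ≤ L := fun g hg =>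
    Subgroup.mem_centralizer_singleton_iff.2 (hzN g (Subgroup.centralizer_le_normalizer _ hg)).eq
  -- the kernel of the action
  let K : Subgroup G :=
    { carrier := {g | g ∈ L ∧ ∀ P : Syl, g • P.1 = P.1}
      one_mem' := ⟨one_mem _, fun P => one_smul _ _⟩
      mul_mem' := fun {a b} ha hb => ⟨mul_mem ha.1 hb.1, fun P => by rw [mul_smul, hb.2 P, ha.2 P]⟩
      inv_mem' := fun {a} ha => ⟨inv_mem ha.1, fun P => by
        conv_lhs => rw [← ha.2 P, inv_smul_smul]⟩ }
  have hKnorm : ∀ g ∈ L, ∀ k ∈ K, g * k * g⁻¹ ∈ K := fun g hg k hk =>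
    ⟨mul_mem (mul_mem hg hk.1) (inv_mem hg), fun P => by
      have e := hk.2 ⟨g⁻¹ • P.1, hmove _ (inv_mem hg) P⟩
      rw [mul_smul, mul_smul, e, smul_inv_smul]⟩
  have hK2 : ∀ q ∈ Subgroup.centralizer ((S : Subgroup G) : Set G), q ^ 16 = 1 → q ∈ K := by
    intro q hq hq16
    refine ⟨hCdef hq, fun P => ?_⟩
    have hqS : q • S = S := Sylow.smul_eq_iff_mem_normalizer.2 (Subgroup.centralizer_le_normalizer _ hq)
    by_cases hP : P = ⟨S, hzS⟩
    · rw [hP]; exact hqS
    have hR : (⟨q • P.1, hmove _ (hCdef hq) P⟩ : Syl) ≠ ⟨S, hzS⟩ := fun e =>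
      hP (Subtype.ext (smul_left_cancel q ((congrArg Subtype.val e).trans hqS.symm)))
    obtain ⟨i, hi⟩ := horbit ⟨S, hzS⟩ P ⟨q • P.1, hmove _ (hCdef hq) P⟩ hP hR u huS hu1
    change (u ^ i) • P.1 = q • P.1 at hi
    have hcomm : Commute q u := (Subgroup.mem_centralizer_iff.1 hq u huS).symm
    have hiter : ∀ m : ℕ, (q ^ m) • P.1 = (u ^ (i * m)) • P.1 := by
      intro m
      induction m with
      | zero => simp
      | succ m ih =>
        rw [pow_succ', mul_smul, ih, ← mul_smul, (hcomm.pow_right (i * m)).eq, mul_smul, ← hi,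
          ← mul_smul, ← pow_add, Nat.mul_succ]
    have h16 := hiter 16
    rw [hq16, one_smul] at h16
    by_contra hne
    have hui : u ^ (i * 16) ≠ 1 := fun e => by
      have h1 := orderOf_dvd_of_pow_eq_one e
      rw [orderOf_eq h huS hu1] at h1
      have h2 : 7 ∣ i := (Nat.Coprime.dvd_mul_right (by norm_num)).1 h1
      obtain ⟨r, rfl⟩ := h2
      rw [pow_mul, show u ^ 7 = 1 from orderOf_eq h huS hu1 ▸ pow_orderOf_eq_one u, one_pow,
        one_smul] at hi
      exact hne hi.symm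
    exact hP (Subtype.ext (hfix S P.1 _ (pow_mem huS _) hui h16.symm).symm)
  have hKP : ∀ P : Syl, ∀ v ∈ (P.1 : Subgroup G), ∀ k ∈ K, Commute k v := by
    intro P v hv k hk
    have hw1 : k * v * k⁻¹ * v⁻¹ ∈ (P.1 : Subgroup G) := mul_mem
      ((Subgroup.mem_normalizer_iff.1 (Sylow.smul_eq_iff_mem_normalizer.1 (hk.2 P)) v).1 hv) (inv_mem hv)
    have hw2 : k * v * k⁻¹ * v⁻¹ ∈ K := by
      rw [show k * v * k⁻¹ * v⁻¹ = k * (v * k⁻¹ * v⁻¹) by group]
      exact mul_mem hk (hKnorm v (P.2 hv) _ (inv_mem hk))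
    by_contra hne
    obtain ⟨P', hP'⟩ : ∃ P' : Syl, P' ≠ P := Fintype.exists_ne_of_one_lt_card
      (by rw [← Nat.card_eq_fintype_card, hn8]; norm_num) P
    refine hP' (Subtype.ext (hfix P.1 P'.1 _ hw1 (fun e => hne ?_) (hw2.2 P')).symm)
    rw [mul_inv_eq_one, mul_inv_eq_iff_eq_mul] at e
    exact e
  -- the part centralizing the kernel
  let M : Subgroup L :=
    { carrier := {g | ∀ k ∈ K, Commute (g : G) k}
      one_mem' := fun k _ => Commute.one_left k
      mul_mem' := fun {a b} ha hb k hk => (ha k hk).mul_left (hb k hk)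
      inv_mem' := fun {a} ha k hk => (ha k hk).inv_left }
  haveI : M.Normal := ⟨fun a ha g k hk => by
    have h1 := ha _ (hKnorm _ (inv_mem g.2) k hk)
    rw [inv_inv] at h1
    show (g : G) * (a : G) * (g : G)⁻¹ * k = k * ((g : G) * (a : G) * (g : G)⁻¹)
    calc (g : G) * a * (g : G)⁻¹ * k = g * ((a : G) * ((g : G)⁻¹ * k * g)) * (g : G)⁻¹ := by group
      _ = g * (((g : G)⁻¹ * k * g) * a) * (g : G)⁻¹ := by rw [h1.eq]
      _ = k * ((g : G) * a * (g : G)⁻¹) := by group⟩
  set y' : L := ⟨y, hyL⟩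
  have hy'3 : y' ^ 3 = 1 := Subtype.ext (by
    show y ^ 3 = 1
    rw [← hy3, pow_orderOf_eq_one])
  have hyM : y' ∉ M := by
    intro hy
    obtain ⟨T⟩ : Nonempty (Sylow 2 (Subgroup.centralizer ((S : Subgroup G) : Set G))) := inferInstance
    have hT : 8 ∣ Nat.card (T : Subgroup (Subgroup.centralizer ((S : Subgroup G) : Set G))) ∧
        Nat.card (T : Subgroup (Subgroup.centralizer ((S : Subgroup G) : Set G))) ∣ 16 := by
      rcases hC with e | e
      · have h16 : Nat.card (T : Subgroup (Subgroup.centralizer ((S : Subgroup G) : Set G))) = 16 := by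
          simpa using CfsgLib.SmallSimple.card_sylow_eq T (k := 4) (m := 7) (by rw [e]; norm_num)
            (by norm_num)
        rw [h16]; norm_num
      · have h8 : Nat.card (T : Subgroup (Subgroup.centralizer ((S : Subgroup G) : Set G))) = 8 := by
          simpa using CfsgLib.SmallSimple.card_sylow_eq T (k := 3) (m := 7) (by rw [e]; norm_num)
            (by norm_num)
        rw [h8]; norm_num
    have hle : (T : Subgroup (Subgroup.centralizer ((S : Subgroup G) : Set G))).map (Subgroup.subtype _) ≤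
        Subgroup.centralizer ({y} : Set G) ⊓ L := by
      rintro _ ⟨q, hq, rfl⟩
      have hqK : (q : G) ∈ K := hK2 _ q.2 (orderOf_dvd_iff_pow_eq_one.1 (by
        rw [Subgroup.orderOf_coe]
        exact (Subgroup.orderOf_dvd_natCard _ hq).trans hT.2))
      exact ⟨Subgroup.mem_centralizer_singleton_iff.2 (hy _ hqK).eq.symm, hqK.1⟩
    have h5 := Subgroup.card_dvd_of_le hle
    rw [Subgroup.card_map_of_injective (Subgroup.subtype_injective _), h12] at h5
    have := hT.1.trans h5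
    norm_num at this
  obtain ⟨m, hmM, hm⟩ : ∃ m : L, m ∈ M ∧ ((m : L) : G) • S = s • S := by
    by_cases hsS : s • S = S
    · exact ⟨1, one_mem M, by rw [OneMemClass.coe_one, one_smul, hsS]⟩
    obtain ⟨P₁, -, hP₁, hP₁'⟩ : ∃ P₁ : Syl, P₁ ∈ (univ : Finset Syl) ∧ P₁ ≠ ⟨S, hzS⟩ ∧
        P₁ ≠ ⟨s • S, hmove s hsL ⟨S, hzS⟩⟩ := by
      obtain ⟨P₁, hP₁⟩ : (((univ : Finset Syl).erase ⟨S, hzS⟩).erase
          ⟨s • S, hmove s hsL ⟨S, hzS⟩⟩).Nonempty := by
        rw [← card_pos]
        have h1 := pred_card_le_card_erase (a := (⟨s • S, hmove s hsL ⟨S, hzS⟩⟩ : Syl))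
          (s := (univ : Finset Syl).erase ⟨S, hzS⟩)
        rw [card_erase_of_mem (mem_univ (⟨S, hzS⟩ : Syl)), card_univ, ← Nat.card_eq_fintype_card, hn8] at h1
        omega
      simp only [mem_erase] at hP₁
      exact ⟨P₁, mem_univ _, hP₁.2.1, hP₁.1⟩
    obtain ⟨v, hv, hv1⟩ := exists_ne_one (h7 P₁.1)
    obtain ⟨i, hi⟩ := horbit P₁ ⟨S, hzS⟩ ⟨s • S, hmove s hsL ⟨S, hzS⟩⟩ hP₁.symm hP₁'.symm v hv hv1
    exact ⟨⟨v ^ i, pow_mem (P₁.2 hv) i⟩, fun k hk => ((hKP P₁ v hv k hk).pow_right i).symm, hi⟩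
  set s' : L := ⟨s, hsL⟩
  set n : L := m⁻¹ * s' with hndef
  have hnN : (n : G) ∈ Subgroup.normalizer ((S : Subgroup G) : Set G) :=
    Sylow.smul_eq_iff_mem_normalizer.1 (by
      show ((m : G)⁻¹ * s) • S = S
      rw [mul_smul, ← hm, inv_smul_smul])
  set c : L := n * y' * n⁻¹ * y'⁻¹ with hcdef
  have hcC : (c : G) ∈ Subgroup.centralizer ((S : Subgroup G) : Set G) := comm_act h hnN hyN
  have hc3 : ¬ 3 ∣ orderOf c := fun hd => by
    rw [← Subgroup.orderOf_coe] at hd
    have h1 := hd.trans (Subgroup.orderOf_dvd_natCard _ hcC)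
    rcases hC with e | e <;> rw [e] at h1 <;> norm_num at h1
  set π := QuotientGroup.mk' M
  have hπm : π m = 1 := (QuotientGroup.eq_one_iff m).2 hmM
  have hπn : π n = π s' := by rw [hndef, map_mul, map_inv, hπm, inv_one, one_mul]
  have hsy' : s' * y' * s'⁻¹ = y'⁻¹ := Subtype.ext hsy
  have hπc : π c = (π y' * π y')⁻¹ := by
    rw [hcdef, map_mul, map_mul, map_mul, map_inv, map_inv, hπn, ← map_inv, ← map_mul, ← map_mul,
      hsy', map_inv, _root_.mul_inv_rev]
  have hy3π : π y' ^ 3 = 1 := by rw [← map_pow, hy'3, map_one]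
  have hc1 : π c = 1 := by
    rw [← orderOf_eq_one_iff]
    refine Nat.eq_one_of_dvd_coprimes ((Nat.Prime.coprime_iff_not_dvd Nat.prime_three).2 hc3)
      (orderOf_dvd_of_pow_eq_one ?_) (orderOf_map_dvd π c)
    rw [hπc, inv_pow, (Commute.refl (π y')).mul_pow, hy3π, mul_one, inv_one]
  rw [hπc, inv_eq_one, ← pow_two] at hc1
  have h1 : π y' = 1 := by
    calc π y' = π y' ^ 2 * π y' := by rw [hc1, one_mul]
      _ = π y' ^ 3 := (pow_succ (π y') 2).symm
      _ = 1 := hy3π
  exact hyM ((QuotientGroup.eq_one_iff y').1 h1)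

end Seven

end CfsgLib.M23Ord
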