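import Cfsg.Agent.M23Ord.SevenInvol

/-!
# Simple groups of order 10200960: the elements of order three commuting with an involution

They form at most two classes exchanged by inversion. The two characters of degree 11 would have a
negative multiplicity on a subgroup of order 21, so the block at five has the second pattern and
the centralizer of such an element has order 180.
-/

set_option autoImplicit false
set_option linter.style.haveILetI false
set_option linter.unusedSectionVars false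

namespace CfsgLib.M23Ord

open Cfsg Finset CfsgLib.Block CfsgLib.Block.Chr CfsgLib.BrauerPrime CfsgLib.BrauerPairs
open CfsgLib.Cyclic (deg)
open CfsgLib.GaloisParity (twist twist_apply twist_deg twist_mem_principal)
open scoped Pointwise

universe u

variable {G : Type u} [Group G] [Fintype G]

theorem centralizer_arith {C : ℕ} (hC : C ∣ 5760) (h45 : 45 ∣ C) (h2 : 30 ∣ C)
    (hn : ∃ m, (m * 30 = C ∨ m * 60 = C) ∧ m % 5 = 1) :
    C ∈ [180, 360, 2880, 5760] := by
  obtain ⟨m, hm, hm5⟩ := hn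
  have hck : (List.range 193).all (fun m =>
      [30, 60].all fun k => if 5760 % (m * k) = 0 ∧ (m * k) % 45 = 0 ∧ m % 5 = 1 then
        decide (m * k ∈ [180, 360, 2880, 5760]) else true) = true := by decide +kernel
  have hle := Nat.le_of_dvd (by norm_num) hC
  have h1 := List.all_eq_true.1 (all_range hck (show m < 193 by omega))
  rcases hm with rfl | rfl
  · have h3 := h1 30 (by simp)
    rwa [if_pos ⟨Nat.mod_eq_zero_of_dvd hC, Nat.mod_eq_zero_of_dvd h45, hm5⟩, decide_eq_true_eq] at h3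
  · have h3 := h1 60 (by simp)
    rwa [if_pos ⟨Nat.mod_eq_zero_of_dvd hC, Nat.mod_eq_zero_of_dvd h45, hm5⟩, decide_eq_true_eq] at h3

/-- The values in the block at five exclude the larger centralizers. -/
theorem fit_three {C K : ℕ} (hC : C ∈ [180, 360, 2880, 5760]) (hCK : C * K = 10200960) {a b : ℤ}
    (ha : a % 15 = 6) (hb : b % 15 = 11) (hcol : 1 + a ^ 2 + b ^ 2 + b ^ 2 ≤ (C : ℤ))
    (hcol' : 1 + a ^ 2 + b ^ 2 + b ^ 2 + (1 + a + b + b) ^ 2 ≤ (C : ℤ))
    (hint : (896 : ℤ) ∣ (K : ℤ) * b) : C = 180 := by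
  by_contra hne
  have hC' : (C, K) ∈ [(360, 28336), (2880, 3542), (5760, 1771)] := by
    simp only [List.mem_cons, List.not_mem_nil, or_false] at hC
    rcases hC with rfl | rfl | rfl | rfl
    · exact absurd rfl hne
    all_goals simp; omega
  have hC8 : (C : ℤ) ≤ 5760 := by
    simp only [List.mem_cons, List.not_mem_nil, or_false] at hC; omega
  have ha2 : a ^ 2 ≤ 5759 := by linarith [sq_nonneg b]
  have hb2 : b ^ 2 ≤ 2879 := by linarith [sq_nonneg a]
  have ha1 : -76 ≤ a ∧ a ≤ 76 := by constructor <;> nlinarith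
  have hb1 : -54 ≤ b ∧ b ≤ 54 := by constructor <;> nlinarith
  have hck : (List.range 153).all (fun i => let a : ℤ := (i : ℤ) - 76
      if a % 15 = 6 then (List.range 109).all (fun j => let b : ℤ := (j : ℤ) - 54
        if b % 15 = 11 then [(360, 28336), (2880, 3542), (5760, 1771)].all fun p : ℕ × ℕ =>
          decide ((p.2 : ℤ) * b % 896 ≠ 0) ||
            decide ((p.1 : ℤ) < 1 + a * a + b * b + b * b + (1 + a + b + b) * (1 + a + b + b))
        else true) else true) = true := by decide +kernel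
  have h1 := all_range hck (show (a + 76).toNat < 153 by omega)
  simp only [Int.toNat_of_nonneg (show 0 ≤ a + 76 by omega), add_sub_cancel_right] at h1
  rw [if_pos ha] at h1
  have h2 := all_range h1 (show (b + 54).toNat < 109 by omega)
  simp only [Int.toNat_of_nonneg (show 0 ≤ b + 54 by omega), add_sub_cancel_right] at h2
  rw [if_pos hb] at h2
  have h3 := List.all_eq_true.1 h2 _ hC'
  simp only [Bool.or_eq_true, decide_eq_true_eq] at h3
  rcases h3 with h3 | h3
  · exact h3 (Int.emod_eq_zero_of_dvd hint)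
  · rw [← sq, ← sq, ← sq] at h3
    linarith

/-- An integral value times the class size is divisible by the degree. -/
theorem dvd_index_mul (χ : IrrCharacter G) {y : G} {j : ℤ} (hj : (χ : G → ℂ) y = (j : ℂ)) :
    (charDegree (χ : G → ℂ) : ℤ) ∣ ((Subgroup.centralizer ({y} : Set G)).index : ℤ) * j := by
  have h1 := CfsgLib.Char.IsIrrCharacter.isIntegral_class_mul_div χ.2 y
  rw [hj, (irr_one χ).1] at h1
  have h' : IsIntegral ℤ (((((Subgroup.centralizer ({y} : Set G)).index : ℚ)) * (j : ℚ) /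
      (charDegree (χ : G → ℂ) : ℚ) : ℚ) : ℂ) := by push_cast; exact h1
  obtain ⟨w, hw⟩ := exists_int_of_isIntegral_ratCast h'
  have hd : (charDegree (χ : G → ℂ) : ℚ) ≠ 0 := Nat.cast_ne_zero.2 (irr_one χ).2.ne'
  refine ⟨w, ?_⟩
  have h2 : (((Subgroup.centralizer ({y} : Set G)).index : ℚ)) * (j : ℚ) = (w : ℚ) * charDegree (χ : G → ℂ) :=
    (div_eq_iff hd).1 (by exact_mod_cast hw)
  have h3 : ((Subgroup.centralizer ({y} : Set G)).index : ℤ) * j = w * (charDegree (χ : G → ℂ) : ℤ) := by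
    exact_mod_cast h2
  linarith

theorem conj_value (χ : IrrCharacter G) {x y : G} (h : IsConj x y) :
    (χ : G → ℂ) y = (χ : G → ℂ) x := by
  obtain ⟨g, rfl⟩ := isConj_iff.1 h
  exact CfsgLib.Char.IsIrrCharacter.isClassFunction χ.2 _ _

variable [IsSimpleGroup G]

/-- Elements of order three commuting with involutions. -/
theorem three_conj (hcard : Nat.card G = 10200960) {x y z z' : G} (hx : orderOf x = 3)
    (hy : orderOf y = 3) (hz : orderOf z = 2) (hz' : orderOf z' = 2) (hxz : Commute x z)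
    (hyz : Commute y z') : IsConj y x ∨ IsConj y x⁻¹ := by
  classical
  haveI : Fact (Nat.Prime 3) := ⟨Nat.prime_three⟩
  obtain ⟨hconj, hC⟩ := involution_class hcard
  obtain ⟨g, hg⟩ := isConj_iff.1 (hconj z' z hz' hz)
  set L := Subgroup.centralizer ({z} : Set G) with hL
  have hyL : g * y * g⁻¹ ∈ L := Subgroup.mem_centralizer_singleton_iff.2 (by
    rw [← hg, show g * y * g⁻¹ * (g * z' * g⁻¹) = g * (y * z') * g⁻¹ by group, hyz.eq]
    group)
  have hxL : x ∈ L := Subgroup.mem_centralizer_singleton_iff.2 hxz.eq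
  set a : L := ⟨x, hxL⟩
  set b : L := ⟨g * y * g⁻¹, hyL⟩
  have hord : orderOf (g * y * g⁻¹) = 3 := ((MulAut.conj g).orderOf_eq y).trans hy
  have hS : ∀ c : L, orderOf (c : G) = 3 → ∃ Q : Sylow 3 L, (Q : Subgroup L) = Subgroup.zpowers c := by
    intro c hc
    obtain ⟨Q, hQ⟩ := (IsPGroup.of_card (n := 1) (by
      rw [Nat.card_zpowers, ← Subgroup.orderOf_coe, hc, pow_one]) :
      IsPGroup 3 (Subgroup.zpowers c)).exists_le_sylow
    refine ⟨Q, (Subgroup.eq_of_le_of_card_ge hQ ?_).symm⟩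
    have h1 : Nat.card (Q : Subgroup L) = 3 := by
      simpa using CfsgLib.SmallSimple.card_sylow_eq Q (k := 1) (m := 896)
        (by rw [hL, hC z hz]; norm_num) (by norm_num)
    rw [h1, Nat.card_zpowers, ← Subgroup.orderOf_coe, hc]
  obtain ⟨P, hP⟩ := hS a hx
  obtain ⟨Q, hQ⟩ := hS b hord
  obtain ⟨l, hl⟩ := MulAction.exists_smul_eq L P Q
  have hmem : l * a * l⁻¹ ∈ Subgroup.zpowers b := by
    rw [← hQ, ← hl]
    exact ⟨a, by rw [SetLike.mem_coe, hP]; exact Subgroup.mem_zpowers a, rfl⟩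
  obtain ⟨k, hk⟩ := Submonoid.mem_powers_iff _ _ |>.1 (mem_powers_iff_mem_zpowers.2 hmem)
  have hk' : (g * y * g⁻¹) ^ (k % 3) = (l : G) * x * (l : G)⁻¹ := by
    rw [← hord, pow_mod_orderOf]
    exact congrArg Subtype.val hk
  have hk3 : k % 3 ≠ 0 := fun e => by
    rw [e, pow_zero] at hk'
    rw [(conj_eq_one_iff.1 hk'.symm), orderOf_one] at hx
    norm_num at hx
  have h12 : k % 3 = 1 ∨ k % 3 = 2 := by omega
  rcases h12 with e | e <;> rw [e] at hk'
  · rw [pow_one] at hk'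
    exact Or.inl (isConj_iff.2 ⟨(l : G)⁻¹ * g, by
      rw [show (l : G)⁻¹ * g * y * ((l : G)⁻¹ * g)⁻¹ = (l : G)⁻¹ * (g * y * g⁻¹) * l by group, hk']
      group⟩)
  · have h2 : (g * y * g⁻¹) ^ 2 = (g * y * g⁻¹)⁻¹ := by
      rw [eq_inv_iff_mul_eq_one, ← pow_succ, show 2 + 1 = orderOf (g * y * g⁻¹) from hord.symm,
        pow_orderOf_eq_one]
    rw [h2, inv_eq_iff_eq_inv] at hk'
    exact Or.inr (isConj_iff.2 ⟨(l : G)⁻¹ * g, by
      rw [show (l : G)⁻¹ * g * y * ((l : G)⁻¹ * g)⁻¹ = (l : G)⁻¹ * (g * y * g⁻¹) * l by group, hk']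
      group⟩)

/-- The centralizers of those elements have one order. -/
theorem card_centralizer_three (hcard : Nat.card G = 10200960) {x y z z' : G} (hx : orderOf x = 3)
    (hy : orderOf y = 3) (hz : orderOf z = 2) (hz' : orderOf z' = 2) (hxz : Commute x z)
    (hyz : Commute y z') : Nat.card (Subgroup.centralizer ({x} : Set G)) =
      Nat.card (Subgroup.centralizer ({y} : Set G)) := by
  have hinv : Subgroup.centralizer ({x⁻¹} : Set G) = Subgroup.centralizer ({x} : Set G) := by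
    ext g
    rw [Subgroup.mem_centralizer_singleton_iff, Subgroup.mem_centralizer_singleton_iff]
    exact Commute.inv_right_iff
  have h : ∀ v : G, IsConj y v → Nat.card (Subgroup.centralizer ({v} : Set G)) =
      Nat.card (Subgroup.centralizer ({y} : Set G)) := fun v hv => by
    have h1 := CfsgLib.Char.card_conj_class_mul_card_centralizer v
    have h2 := CfsgLib.Char.card_conj_class_mul_card_centralizer y
    rw [Nat.card_congr (Equiv.subtypeEquivRight fun w : G =>
      (⟨fun hw => hv.trans hw, fun hw => hv.symm.trans hw⟩ : IsConj v w ↔ IsConj y w)), ← h2] at h1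
    exact Nat.eq_of_mul_eq_mul_left (@Nat.card_pos _ ⟨⟨y, IsConj.refl y⟩⟩ _) h1
  rcases three_conj hcard hx hy hz hz' hxz hyz with h1 | h1
  · exact h x h1
  · rw [← hinv]; exact h x⁻¹ h1

/-- An element of order three acting on a Sylow subgroup of order seven. -/
theorem exists_three_seven (hcard : Nat.card G = 10200960) [Fact (Nat.Prime 7)] (S : Sylow 7 G) :
    ∃ y : G, orderOf y = 3 ∧ y ∈ Subgroup.normalizer ((S : Subgroup G) : Set G) ∧
      y ∉ Subgroup.centralizer ((S : Subgroup G) : Set G) := by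
  haveI : Fact (Nat.Prime 3) := ⟨Nat.prime_three⟩
  have hopt := sylow_seven_options hcard S
  simp only [List.mem_cons, Prod.mk.injEq, List.not_mem_nil, or_false] at hopt
  have hN : 3 ∣ Nat.card (Subgroup.normalizer ((S : Subgroup G) : Set G)) ∧
      ¬ 3 ∣ Nat.card (Subgroup.centralizer ((S : Subgroup G) : Set G)) := by
    rcases hopt with ⟨-, h2, h3⟩ | ⟨-, h2, h3⟩ | ⟨-, h2, h3⟩ | ⟨-, h2, h3⟩ | ⟨-, h2, h3⟩ <;>
      rw [h2, h3] <;> norm_num
  obtain ⟨⟨y, hy⟩, hyo⟩ := exists_prime_orderOf_dvd_card' 3 hN.1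
  rw [Subgroup.orderOf_mk] at hyo
  exact ⟨y, hyo, hy, fun hc => hN.2 (hyo ▸ Subgroup.orderOf_dvd_natCard _ hc)⟩

theorem seven_action {u y : G} (hu : orderOf u = 7)
    (hy : orderOf y = 3) (hn : ∃ k : ℕ, y * u * y⁻¹ = u ^ k) (hne : ¬ Commute y u) :
    ∃ b : ℕ, (b = 2 ∨ b = 4) ∧ y * u * y⁻¹ = u ^ b := by
  obtain ⟨k, hk⟩ := hn
  have hy3 : y ^ 3 = 1 := by rw [← hy, pow_orderOf_eq_one]
  have hkey : u ^ (k * k * k) = u := by
    rw [pow_mul, pow_mul, ← hk, conj_pow, ← hk, conj_pow, conj_pow, ← hk,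
      show y * (y * (y * u * y⁻¹) * y⁻¹) * y⁻¹ = y ^ 3 * u * (y ^ 3)⁻¹ by rw [pow_three]; group, hy3]
    group
  have hmod : (k % 7) * (k % 7) * (k % 7) % 7 = 1 := by
    have h1 := pow_eq_pow_iff_modEq.1 (hkey.trans (pow_one u).symm)
    rw [hu, Nat.ModEq] at h1
    simpa [Nat.mul_mod, Nat.mod_mod] using h1
  rw [← pow_mod_orderOf, hu] at hk
  have hlt : k % 7 < 7 := Nat.mod_lt _ (by norm_num)
  generalize k % 7 = b at hk hmod hlt
  refine ⟨b, ?_, hk⟩
  interval_cases b <;> simp_all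
  exact hne (mul_inv_eq_iff_eq_mul.1 hk)

/-- A character with values 4 and -4 on the Frobenius subgroup of order 21 has no degree 11. -/
theorem no_eleven_char (χ : IrrCharacter G) (hd : charDegree (χ : G → ℂ) = 11) {u y : G}
    (hu : orderOf u = 7) (hy : orderOf y = 3) (hn : ∃ k : ℕ, y * u * y⁻¹ = u ^ k)
    (hne : ¬ Commute y u) (hvu : ∀ i : ℕ, ¬ 7 ∣ i → (χ : G → ℂ) (u ^ i) = 4)
    (hvy : ∀ j : ℕ, ¬ 3 ∣ j → (χ : G → ℂ) (y ^ j) = -4) : False := by
  classical
  obtain ⟨b, hb, hyu⟩ := seven_action hu hy hn hne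
  have hu7 : u ^ 7 = 1 := by rw [← hu, pow_orderOf_eq_one]
  have hy3 : y ^ 3 = 1 := by rw [← hy, pow_orderOf_eq_one]
  have hle : Subgroup.zpowers y ≤ Subgroup.normalizer (Subgroup.zpowers u : Set G) := by
    haveI : Fintype (Subgroup.zpowers u) := Fintype.ofFinite _
    rw [Subgroup.zpowers_le, Subgroup.mem_normalizer_iff]
    intro g
    constructor
    · intro hg
      obtain ⟨i, rfl⟩ := Subgroup.mem_zpowers_iff.1 hg
      rw [← conj_zpow, hyu]
      exact zpow_mem (pow_mem (Subgroup.mem_zpowers u) b) i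
    · intro hg
      have hinj : ∀ i : ℤ, y⁻¹ * u ^ i * y ∈ Subgroup.zpowers u := fun i => by
        have h2 : y⁻¹ * u * y = u ^ (b * b) := by
          rw [pow_mul, ← hyu, conj_pow, ← hyu,
            show y * (y * u * y⁻¹) * y⁻¹ = y ^ 3 * (y⁻¹ * u * y) * (y ^ 3)⁻¹ by rw [pow_three]; group, hy3]
          group
        rw [show y⁻¹ * u ^ i * y = y⁻¹ * u ^ i * y⁻¹⁻¹ by group, ← conj_zpow, inv_inv, h2]
        exact zpow_mem (pow_mem (Subgroup.mem_zpowers u) _) i
      obtain ⟨i, hi⟩ := Subgroup.mem_zpowers_iff.1 hg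
      have h3 := hinj i
      rwa [hi, show y⁻¹ * (y * g * y⁻¹) * y = g by group] at h3
  set H := Subgroup.zpowers u ⊔ Subgroup.zpowers y with hH
  have hcoe := Subgroup.coe_mul_of_right_le_normalizer_left (Subgroup.zpowers u) (Subgroup.zpowers y) hle
  let f : Fin 7 × Fin 3 → H := fun p => ⟨u ^ (p.1 : ℕ) * y ^ (p.2 : ℕ),
    mul_mem (Subgroup.mem_sup_left (pow_mem (Subgroup.mem_zpowers u) _))
      (Subgroup.mem_sup_right (pow_mem (Subgroup.mem_zpowers y) _))⟩
  have hinj : Function.Injective f := by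
    rintro ⟨i, j⟩ ⟨i', j'⟩ he
    have he' : u ^ (i : ℕ) * y ^ (j : ℕ) = u ^ (i' : ℕ) * y ^ (j' : ℕ) := congrArg Subtype.val he
    have h1 : (u ^ (i' : ℕ))⁻¹ * u ^ (i : ℕ) = y ^ (j' : ℕ) * (y ^ (j : ℕ))⁻¹ := by
      rw [eq_mul_inv_iff_mul_eq, mul_assoc, he', inv_mul_cancel_left]
    have h2 : (u ^ (i' : ℕ))⁻¹ * u ^ (i : ℕ) = 1 := by
      rw [← orderOf_eq_one_iff]
      refine Nat.eq_one_of_dvd_coprimes (show Nat.Coprime 7 3 by norm_num) ?_ ?_
      · exact (Subgroup.orderOf_dvd_natCard _ (mul_mem (inv_mem (pow_mem (Subgroup.mem_zpowers u) _))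
          (pow_mem (Subgroup.mem_zpowers u) _))).trans (by rw [Nat.card_zpowers, hu])
      · rw [h1]
        exact (Subgroup.orderOf_dvd_natCard _ (mul_mem (pow_mem (Subgroup.mem_zpowers y) _)
          (inv_mem (pow_mem (Subgroup.mem_zpowers y) _)))).trans (by rw [Nat.card_zpowers, hy])
    have h3 := h2
    rw [inv_mul_eq_one] at h3
    rw [h2, eq_comm, mul_inv_eq_one] at h1
    rw [pow_eq_pow_iff_modEq, hu, Nat.ModEq, Nat.mod_eq_of_lt i.2, Nat.mod_eq_of_lt i'.2] at h3
    rw [pow_eq_pow_iff_modEq, hy, Nat.ModEq, Nat.mod_eq_of_lt j.2, Nat.mod_eq_of_lt j'.2] at h1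
    exact Prod.ext (Fin.ext h3.symm) (Fin.ext h1.symm)
  have hsurj : Function.Surjective f := by
    rintro ⟨h, hh⟩
    have h1 : h ∈ (H : Set G) := hh
    rw [hH, hcoe] at h1
    obtain ⟨a, ha, c, hc, rfl⟩ := h1
    obtain ⟨i, rfl⟩ := Submonoid.mem_powers_iff _ _ |>.1 (mem_powers_iff_mem_zpowers.2 ha)
    obtain ⟨j, rfl⟩ := Submonoid.mem_powers_iff _ _ |>.1 (mem_powers_iff_mem_zpowers.2 hc)
    refine ⟨(⟨i % 7, Nat.mod_lt _ (by norm_num)⟩, ⟨j % 3, Nat.mod_lt _ (by norm_num)⟩), Subtype.ext ?_⟩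
    show u ^ (i % 7) * y ^ (j % 3) = u ^ i * y ^ j
    rw [← hu, pow_mod_orderOf, ← hy, pow_mod_orderOf]
  haveI : Fintype H := Fintype.ofFinite _
  obtain ⟨m, hm⟩ := sum_over (isCharacter_irr χ) H
  have hval : ∀ p : Fin 7 × Fin 3, (χ : G → ℂ) (f p : G) =
      if (p.2 : ℕ) = 0 then (if (p.1 : ℕ) = 0 then 11 else 4) else -4 := by
    rintro ⟨i, j⟩
    show (χ : G → ℂ) (u ^ (i : ℕ) * y ^ (j : ℕ)) = _
    by_cases hj : (j : ℕ) = 0
    · rw [if_pos hj, hj, pow_zero, mul_one]
      by_cases hi : (i : ℕ) = 0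
      · rw [if_pos hi, hi, pow_zero, apply_one_eq]
        simp [deg, hd]
      · rw [if_neg hi]
        exact hvu _ fun hd' => hi (Nat.eq_zero_of_dvd_of_lt hd' i.2)
    · rw [if_neg hj, ← hvy _ fun hd' => hj (Nat.eq_zero_of_dvd_of_lt hd' j.2)]
      refine conj_value χ ?_
      -- move the factor in `u` away
      obtain ⟨B, hB, hBu⟩ : ∃ B : ℕ, B % 7 ≠ 1 ∧ y ^ (j : ℕ) * u * (y ^ (j : ℕ))⁻¹ = u ^ B := by
        rcases (show (j : ℕ) = 1 ∨ (j : ℕ) = 2 by omega) with e | e <;> rw [e]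
        · exact ⟨b, by omega, by rw [pow_one, hyu]⟩
        · refine ⟨b * b, by rcases hb with rfl | rfl <;> norm_num, ?_⟩
          rw [pow_mul, ← hyu, conj_pow, ← hyu, pow_two]
          group
      obtain ⟨r, hr⟩ : ∃ r : ℕ, (B * r) % 7 = (i + r) % 7 := by
        have hall : ∀ B < 7, ∀ i < 7, B ≠ 1 → ∃ r < 7, B * r % 7 = (i + r) % 7 := by decide
        obtain ⟨r, -, hr⟩ := hall (B % 7) (Nat.mod_lt _ (by norm_num)) i i.2 hB
        exact ⟨r, by rw [← hr, Nat.mod_mul_mod]⟩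
      refine isConj_iff.2 ⟨(u ^ r)⁻¹, ?_⟩
      have h5 : y ^ (j : ℕ) * u ^ r = u ^ ((i : ℕ) + r) * y ^ (j : ℕ) := by
        rw [← mul_inv_eq_iff_eq_mul, ← conj_pow, hBu, ← pow_mul, pow_eq_pow_iff_modEq, hu]
        exact hr
      rw [inv_inv, mul_assoc, h5, ← mul_assoc, add_comm (i : ℕ) r, pow_add, inv_mul_cancel_left]
  have hcardH : Nat.card H = 21 := by
    rw [← Nat.card_congr (Equiv.ofBijective f ⟨hinj, hsurj⟩), Nat.card_prod, Nat.card_fin, Nat.card_fin]
  rw [hcardH, ← Fintype.sum_equiv (Equiv.ofBijective f ⟨hinj, hsurj⟩)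
    (fun p => (χ : G → ℂ) (f p : G)) (fun h : H => (χ : G → ℂ) (h : G)) (fun p => rfl),
    sum_congr rfl fun p _ => hval p, Fintype.sum_prod_type] at hm
  simp only [Fin.sum_univ_succ, Fin.sum_univ_zero, Fin.val_zero, Fin.val_succ] at hm
  norm_num at hm
  have h4 : (-21 : ℤ) = 21 * (m : ℤ) := by exact_mod_cast hm
  omega

/-- **The pattern at five is the second one.** -/
theorem five_pattern (hcard : Nat.card G = 10200960) [Fact (Nat.Prime 5)] {S : Sylow 5 G}
    {M : Ideal AlgInt} [M.IsPrime] (hM : IsPModular 5 M) {f₁ f₂ f₃ f₄ : IrrCharacter G}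
    (F : Five M S f₁ f₂ f₃ f₄ fivePat) :
    charDegree (f₁ : G → ℂ) = 231 ∧ charDegree (f₂ : G → ℂ) = 896 ∧
      charDegree (f₃ : G → ℂ) = 896 ∧ charDegree (f₄ : G → ℂ) = 2024 := by
  classical
  have hdegs := F.degs
  simp only [fivePat, List.mem_cons, Prod.mk.injEq, List.not_mem_nil, or_false] at hdegs
  refine hdegs.resolve_left fun hd => ?_
  obtain ⟨d1, -, -, -⟩ := hd
  haveI : Fact (Nat.Prime 7) := ⟨by norm_num⟩
  haveI : Fact (Nat.Prime 3) := ⟨Nat.prime_three⟩
  have h : Setup G 5 S := setup hcard S (m := 2040192) (by norm_num) (by norm_num)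
  obtain ⟨x, hxS, hx1⟩ := exists_ne_one h
  have hxo := orderOf_eq h hxS hx1
  obtain ⟨y₀, t, L⟩ := exists_fiveLocal hcard hxo
  have hne : f₁ ≠ trivIrr G := fun e => by
    have h5 := deg_trivIrr (G := G)
    rw [← e] at h5
    change (charDegree (f₁ : G → ℂ) : ℤ) = 1 at h5
    rw [d1] at h5
    norm_num at h5
  have hdeg : deg f₁ = 11 := by simp [deg, d1]
  have hval : ∀ g : G, ¬ 23 ∣ orderOf g → ∃ j : ℤ, (f₁ : G → ℂ) g = (j : ℂ) := fun g hg =>
    int_value_twentyThree hcard (by rw [d1]; decide) hg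
  have hsmall : ∀ (g : G) (j : ℤ), (f₁ : G → ℂ) g = (j : ℂ) → g ≠ 1 → j ≠ 11 := fun g j hj hg e =>
    hg (faithful_of_simple h hne g (by rw [hj, e, apply_one_eq, hdeg]))
  -- the value at the element of order three
  obtain ⟨j, hj⟩ := hval y₀ (by rw [L.ordy]; norm_num)
  have hj5 : j ≡ 11 [ZMOD 5] := hdeg ▸ value_modEq hM S ((F.mem f₁).2 (by simp))
    (by rw [← centralizer_singleton h hxS hx1]; exact Subgroup.mem_centralizer_singleton_iff.2 L.comm.eq.symm) hj
  obtain ⟨m, hm⟩ := value_mult f₁ L.ordy (value_pow f₁ L.ordy hj)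
  have hjle := abs_le.1 (hdeg ▸ value_abs_le f₁ hj : |j| ≤ 11)
  have hj11 := hsmall y₀ j hj fun e => by have := L.ordy; rw [e, orderOf_one] at this; norm_num at this
  rw [hdeg] at hm
  push_cast at hm
  have hj4 : j = -4 := by
    rw [Int.ModEq] at hj5
    omega
  -- the Sylow subgroup of order seven
  obtain ⟨P⟩ : Nonempty (Sylow 7 G) := inferInstance
  have h7 : Setup G 7 P := setup hcard P (m := 1457280) (by norm_num) (by norm_num)
  obtain ⟨y, hyo, hyN, hyC⟩ := exists_three_seven hcard P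
  obtain ⟨z, hz, -, hzN, -, -⟩ := seven_involution hcard P
  obtain ⟨u, huP, hu1⟩ := exists_ne_one h7
  have huo := orderOf_eq h7 huP hu1
  have hy4 : (f₁ : G → ℂ) y = ((-4 : ℤ) : ℂ) := by
    rcases three_conj hcard hyo L.ordy hz L.ordt (hzN y hyN) L.fix.symm with hc | hc
    · rw [conj_value f₁ hc, hj, hj4]
    · have e : (y⁻¹ ^ 2) = y := by
        rw [inv_pow, inv_eq_iff_eq_inv, eq_inv_iff_mul_eq_one, ← pow_succ,
          show 2 + 1 = orderOf y from hyo.symm, pow_orderOf_eq_one]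
      rw [← e]
      exact value_pow f₁ (q := 3) (by rw [orderOf_inv, hyo]) (by rw [conj_value f₁ hc, hj, hj4]) 2
        (by norm_num)
  obtain ⟨i, hi⟩ := hval u (by rw [huo]; norm_num)
  obtain ⟨m', hm'⟩ := value_mult f₁ huo (value_pow f₁ huo hi)
  have hile := abs_le.1 (hdeg ▸ value_abs_le f₁ hi : |i| ≤ 11)
  have hi11 := hsmall u i hi hu1
  rw [hdeg] at hm'
  push_cast at hm'
  have hi4 : i = 4 := by omega
  refine no_eleven_char f₁ d1 huo hyo ?_ (fun hc => hyC ?_)
    (fun k hk => by rw [value_pow f₁ huo hi k hk, hi4]; norm_num)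
    (fun k hk => by rw [value_pow f₁ hyo hy4 k hk]; norm_num)
  · have h1 : y * u * y⁻¹ ∈ Subgroup.zpowers u := by
      rw [zpowers_eq h7 huP hu1]
      exact (Subgroup.mem_normalizer_iff.1 hyN u).1 huP
    obtain ⟨k, hk⟩ := Submonoid.mem_powers_iff _ _ |>.1 (mem_powers_iff_mem_zpowers.2 h1)
    exact ⟨k, hk.symm⟩
  · rw [← centralizer_singleton h7 huP hu1]
    exact Subgroup.mem_centralizer_singleton_iff.2 hc.eq

/-- **The centralizer of an element of order three commuting with an involution.** -/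
theorem three_centralizer (hcard : Nat.card G = 10200960) {x z : G} (hx : orderOf x = 3)
    (hz : orderOf z = 2) (hxz : Commute x z) :
    Nat.card (Subgroup.centralizer ({x} : Set G)) = 180 := by
  classical
  haveI : Fact (Nat.Prime 5) := ⟨by norm_num⟩
  haveI : Fact (Nat.Prime 3) := ⟨Nat.prime_three⟩
  obtain ⟨S⟩ : Nonempty (Sylow 5 G) := inferInstance
  have h : Setup G 5 S := setup hcard S (m := 2040192) (by norm_num) (by norm_num)
  obtain ⟨-, -, -, M, hprime, hM, f₁, f₂, f₃, f₄, F⟩ := sylow_five hcard S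
  haveI := hprime
  letI := irrFintype (G := G)
  obtain ⟨w, hwS, hw1⟩ := exists_ne_one h
  obtain ⟨y, t, L⟩ := exists_fiveLocal hcard (orderOf_eq h hwS hw1)
  rw [card_centralizer_three hcard hx L.ordy hz L.ordt hxz L.fix.symm]
  set Cy := Subgroup.centralizer ({y} : Set G) with hCydef
  have hCG : Nat.card Cy ∣ 10200960 := hcard ▸ Subgroup.card_subgroup_dvd_card _
  have hwy : w ∈ Cy := Subgroup.mem_centralizer_singleton_iff.2 L.comm.eq
  have hno : ∀ q : ℕ, q.Prime → (∀ v : G, orderOf v = q →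
      ¬ 3 ∣ Nat.card (Subgroup.centralizer ({v} : Set G))) → ¬ q ∣ Nat.card Cy := fun q hq hv hd => by
    haveI := Fact.mk hq
    obtain ⟨⟨v, hvC⟩, hvo⟩ := exists_prime_orderOf_dvd_card' (G := Cy) q hd
    rw [Subgroup.orderOf_mk] at hvo
    exact hv v hvo (L.ordy ▸ orderOf_dvd_centralizer
      (Subgroup.mem_centralizer_singleton_iff.1 hvC : Commute v y).symm)
  have h11 := hno 11 (by norm_num) fun v hv => by rw [centralizer_eleven hcard hv]; norm_num
  have h23 := hno 23 (by norm_num) fun v hv => by rw [centralizer_twentyThree hcard hv]; norm_num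
  haveI : Fact (Nat.Prime 7) := ⟨by norm_num⟩
  have h7 := hno 7 (by norm_num) fun v hv => by
    obtain ⟨P, -, -, -, hP⟩ := exists_setup hcard (k := 1457280) (by norm_num) (by norm_num) hv
    rw [hP]
    have hopt := sylow_seven_options hcard P
    simp only [List.mem_cons, Prod.mk.injEq, List.not_mem_nil, or_false] at hopt
    rcases hopt with ⟨-, h2, -⟩ | ⟨-, h2, -⟩ | ⟨-, h2, -⟩ | ⟨-, h2, -⟩ | ⟨-, h2, -⟩ <;>
      rw [h2] <;> norm_num
  have hC5760 : Nat.card Cy ∣ 5760 := by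
    have hco : Nat.Coprime (Nat.card Cy) (7 * (11 * 23)) := Nat.Coprime.mul_right
      ((Nat.Prime.coprime_iff_not_dvd (by norm_num)).2 h7).symm
      (Nat.Coprime.mul_right ((Nat.Prime.coprime_iff_not_dvd (by norm_num)).2 h11).symm
        ((Nat.Prime.coprime_iff_not_dvd (by norm_num)).2 h23).symm)
    exact hco.dvd_of_dvd_mul_left hCG
  have h9 : 9 ∣ Nat.card Cy := by
    obtain ⟨Q, hQ⟩ := (IsPGroup.of_card (n := 1) (by rw [Nat.card_zpowers, L.ordy, pow_one]) :
      IsPGroup 3 (Subgroup.zpowers y)).exists_le_sylow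
    have hQ9 : Nat.card (Q : Subgroup G) = 3 ^ 2 := by
      simpa using CfsgLib.SmallSimple.card_sylow_eq Q (k := 2) (m := 1133440)
        (by rw [hcard]; norm_num) (by norm_num)
    refine (hQ9 ▸ Subgroup.card_dvd_of_le fun g hg => Subgroup.mem_centralizer_singleton_iff.2 ?_ :
      3 ^ 2 ∣ Nat.card Cy)
    exact congrArg Subtype.val ((IsPGroup.isMulCommutative_of_card_eq_prime_sq hQ9).is_comm.comm
      (⟨g, hg⟩ : (Q : Subgroup G)) ⟨y, hQ (Subgroup.mem_zpowers y)⟩)
  have h5 : 5 ∣ Nat.card Cy := L.ordx ▸ Subgroup.orderOf_dvd_natCard _ hwy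
  -- the Sylow subgroups of order five in the centralizer
  have hle : (S : Subgroup G) ≤ Cy := by
    rw [← zpowers_eq h hwS hw1, Subgroup.zpowers_le]; exact hwy
  set N := Subgroup.normalizer ((S : Subgroup G) : Set G) with hNdef
  have hN : Nat.card N = 60 := (sylow_five hcard S).2.2.1
  have hNy : Nat.card (N ⊓ Cy : Subgroup G) = 30 ∨ Nat.card (N ⊓ Cy : Subgroup G) = 60 := by
    have hd : Nat.card (N ⊓ Cy : Subgroup G) ∣ 60 := hN ▸ Subgroup.card_dvd_of_le inf_le_left
    have hmemS : ∀ g : G, (∃ i : ℕ, g * w * g⁻¹ = w ^ i) → (∃ i : ℕ, g⁻¹ * w * g = w ^ i) → g ∈ N := by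
      intro g ⟨i, hi⟩ ⟨i', hi'⟩
      rw [hNdef, ← zpowers_eq h hwS hw1, Subgroup.mem_normalizer_iff]
      intro a
      constructor
      · intro ha
        obtain ⟨k, rfl⟩ := Subgroup.mem_zpowers_iff.1 ha
        rw [← conj_zpow, hi]
        exact zpow_mem (pow_mem (Subgroup.mem_zpowers w) i) k
      · intro ha
        obtain ⟨k, hk⟩ := Subgroup.mem_zpowers_iff.1 ha
        have h1 : a = g⁻¹ * w ^ k * g⁻¹⁻¹ := by rw [hk]; group
        rw [h1, ← conj_zpow, inv_inv, hi']
        exact zpow_mem (pow_mem (Subgroup.mem_zpowers w) i') k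
    have h15 : 15 ∣ Nat.card (N ⊓ Cy : Subgroup G) := by
      have ho : orderOf (w * y) = 15 := by
        rw [L.comm.orderOf_mul_eq_mul_orderOf_of_coprime (by rw [L.ordx, L.ordy]; norm_num), L.ordx,
          L.ordy]
      refine ho ▸ Subgroup.orderOf_dvd_natCard _ ⟨?_, mul_mem hwy
        (Subgroup.mem_centralizer_singleton_iff.2 rfl)⟩
      have hc : Commute (w * y) w := (Commute.refl w).mul_left L.comm.symm
      exact hmemS _ ⟨1, by rw [pow_one]; exact mul_inv_eq_iff_eq_mul.2 hc.eq⟩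
        ⟨1, by rw [pow_one, mul_assoc, ← hc.eq, inv_mul_cancel_left]⟩
    have h2 : 2 ∣ Nat.card (N ⊓ Cy : Subgroup G) := by
      have hti : t⁻¹ = t := inv_eq_of_mul_eq_one_right (by rw [← sq, ← L.ordt, pow_orderOf_eq_one])
      have h4 : t * w * t⁻¹ = w ^ 4 := by
        rw [L.inv, inv_eq_iff_mul_eq_one, ← pow_succ', show 4 + 1 = orderOf w from L.ordx.symm,
          pow_orderOf_eq_one]
      refine L.ordt ▸ Subgroup.orderOf_dvd_natCard _ ⟨hmemS t ⟨4, h4⟩ ⟨4, ?_⟩,
        Subgroup.mem_centralizer_singleton_iff.2 L.fix.eq⟩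
      rw [hti] at h4 ⊢
      exact h4
    have h30 : 30 ∣ Nat.card (N ⊓ Cy : Subgroup G) :=
      Nat.Coprime.mul_dvd_of_dvd_of_dvd (show Nat.Coprime 15 2 by norm_num) h15 h2
    obtain ⟨k, hk⟩ := h30
    have := Nat.le_of_dvd (by norm_num) hd
    have hk0 : k ≠ 0 := fun e => by rw [e, mul_zero] at hk; exact Nat.card_pos.ne' hk
    omega
  have hm : ∃ m, (m * 30 = Nat.card Cy ∨ m * 60 = Nat.card Cy) ∧ m % 5 = 1 := by
    refine ⟨Nat.card (Sylow 5 Cy), ?_, card_sylow_modEq_one 5 Cy⟩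
    have h1 := Sylow.card_eq_index_normalizer (S.subtype hle)
    have h2 := (Subgroup.normalizer ((S.subtype hle : Sylow 5 Cy) : Set Cy)).card_mul_index
    rw [← h1] at h2
    have h3 : Nat.card (Subgroup.normalizer ((S.subtype hle : Sylow 5 Cy) : Set Cy)) =
        Nat.card (N ⊓ Cy : Subgroup G) := by
      refine Nat.card_congr
        { toFun := fun g => ⟨(g.1 : G), ?_, g.1.2⟩
          invFun := fun g => ⟨⟨g.1, g.2.2⟩, ?_⟩
          left_inv := fun g => rfl
          right_inv := fun g => rfl }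
      · have hg := Sylow.smul_eq_iff_mem_normalizer.2 g.2
        rw [Sylow.smul_subtype hle g.1] at hg
        exact Sylow.smul_eq_iff_mem_normalizer.1 (Sylow.subtype_injective hg)
      · refine Sylow.smul_eq_iff_mem_normalizer.1 ?_
        rw [Sylow.smul_subtype hle]
        exact Sylow.ext (by
          show ((g.1 • S : Sylow 5 G) : Subgroup G).subgroupOf Cy = (S : Subgroup G).subgroupOf Cy
          rw [Sylow.smul_eq_iff_mem_normalizer.2 g.2.1])
    rw [h3, mul_comm] at h2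
    rcases hNy with e | e <;> rw [e] at h2
    · exact Or.inl h2
    · exact Or.inr h2
  have h30 : 30 ∣ Nat.card Cy := by
    have h1 := Subgroup.card_dvd_of_le (inf_le_right : N ⊓ Cy ≤ Cy)
    rcases hNy with e | e <;> rw [e] at h1
    · exact h1
    · exact (show 30 ∣ 60 by norm_num).trans h1
  have hCmem := centralizer_arith hC5760
    (Nat.Coprime.mul_dvd_of_dvd_of_dvd (show Nat.Coprime 9 5 by norm_num) h9 h5) h30 hm
  -- the values in the block at five
  obtain ⟨d1, d2, d3, d4⟩ := five_pattern hcard hM F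
  have hnd := F.nodup
  simp only [List.nodup_cons, List.mem_cons, List.not_mem_nil, or_false, not_or, List.nodup_nil,
    and_true, not_false_eq_true] at hnd
  obtain ⟨⟨n1, n2, n3, n4⟩, ⟨n5, n6, n7⟩, ⟨n8, n9⟩, n10⟩ := hnd
  have hfilter : univ.filter (· ∈ principalBlock M G) = {trivIrr G, f₁, f₂, f₃, f₄} := by
    ext φ
    simp [F.mem φ]
  have hyreg : ∀ q : ℕ, q.Prime → q ≠ 3 → ¬ q ∣ orderOf y := fun q hq hq3 hd => by
    rw [L.ordy] at hd
    exact hq3 ((Nat.prime_dvd_prime_iff_eq hq Nat.prime_three).1 hd)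
  obtain ⟨b, hb⟩ := int_value_eleven hcard (φ := f₂) (y := y) (by rw [d2]; decide) (hyreg 11 (by norm_num) (by norm_num))
  have hb3 : (f₃ : G → ℂ) y = (b : ℂ) := by
    rw [← hb]
    exact (deg_eq_of_eleven hcard (φ := f₃) (ψ := f₂) (by rw [d3]; decide) (by rw [d2]; decide)).2 y
      (hyreg 11 (by norm_num) (by norm_num))
  obtain ⟨a, ha⟩ : ∃ a : ℤ, (f₁ : G → ℂ) y = (a : ℂ) := by
    refine CfsgLib.Char.IsCharacter.exists_int_apply (isCharacter_irr f₁) fun k hk => ?_
    have hmem := (F.mem (twist hk f₁)).1 ((twist_mem_principal hM hk f₁).2 ((F.mem f₁).2 (by simp)))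
    have hd := twist_deg hk f₁
    rw [d1] at hd
    simp only [List.mem_cons, List.not_mem_nil, or_false] at hmem
    rcases hmem with e | e | e | e | e
    · have h5 := deg_trivIrr (G := G)
      rw [← e] at h5
      change (charDegree (twist hk f₁ : G → ℂ) : ℤ) = 1 at h5
      rw [hd] at h5
      norm_num at h5
    · rw [← twist_apply hk f₁ y, e]
    · rw [e, d2] at hd; norm_num at hd
    · rw [e, d3] at hd; norm_num at hd
    · rw [e, d4] at hd; norm_num at hd
  have hyC : y ∈ Subgroup.centralizer ((S : Subgroup G) : Set G) := by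
    rw [← centralizer_singleton h hwS hw1]
    exact Subgroup.mem_centralizer_singleton_iff.2 L.comm.eq.symm
  have ha5 := value_modEq hM S ((F.mem f₁).2 (by simp)) hyC ha
  have hb5 := value_modEq hM S ((F.mem f₂).2 (by simp)) hyC hb
  obtain ⟨ma, hma⟩ := value_mult f₁ L.ordy (value_pow f₁ L.ordy ha)
  obtain ⟨mb, hmb⟩ := value_mult f₂ L.ordy (value_pow f₂ L.ordy hb)
  rw [show deg f₁ = 231 by simp [deg, d1]] at ha5 hma
  rw [show deg f₂ = 896 by simp [deg, d2]] at hb5 hmb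
  push_cast at hma hmb
  rw [Int.ModEq] at ha5 hb5
  have hcol := CfsgLib.PrincipalNorm.normSq_le (M := M) (G := G) y
  rw [finsum_set_eq, hfilter, sum_insert (by simp [n1, n2, n3, n4]),
    sum_insert (by simp [n5, n6, n7]), sum_insert (by simp [n8, n9]), sum_pair n10, trivIrr_apply,
    F.rel y (hyreg 5 (by norm_num) (by norm_num)), ha, hb, hb3, map_one] at hcol
  have hn : ∀ i : ℤ, Complex.normSq (i : ℂ) = (i : ℝ) ^ 2 := fun i => by
    rw [show (i : ℂ) = ((i : ℝ) : ℂ) by push_cast; rfl, Complex.normSq_ofReal]; ring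
  rw [show (1 : ℂ) + (a : ℂ) + (b : ℂ) + (b : ℂ) = ((1 + a + b + b : ℤ) : ℂ) by push_cast; ring,
    hn, hn, hn] at hcol
  have hcol' : (1 + a ^ 2 + b ^ 2 + b ^ 2 + (1 + a + b + b) ^ 2 : ℤ) ≤ (Nat.card Cy : ℤ) := by
    have h' : ((1 + a ^ 2 + b ^ 2 + b ^ 2 + (1 + a + b + b) ^ 2 : ℤ) : ℝ) ≤
        (((Nat.card Cy : ℤ)) : ℝ) := by
      push_cast at hcol ⊢
      rw [hCydef]
      linarith
    exact_mod_cast h'
  refine fit_three (K := Cy.index) hCmem (by rw [Subgroup.card_mul_index, hcard]) (a := a) (b := b)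
    (by omega) (by omega) ?_ hcol' ?_
  · nlinarith [sq_nonneg (1 + a + b + b)]
  · have h1 := dvd_index_mul f₂ hb
    rwa [d2] at h1

end CfsgLib.M23Ord
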