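import Cfsg.Agent.BrauerPrime.Small
import Cfsg.Agent.BrauerPrime.QPower
import Cfsg.Agent.Classical.SmallPSL
import Cfsg.Agent.SmallSimple.Basic
import Cfsg.Agent.Char.Kernel
import Cfsg.Agent.SmallSimple.FixedPoints
import Cfsg.Agent.Blocks.DefectZeroVanish

/-!
# Simple groups of order 10200960: tools

Residues of the degree relation of a principal block and characters of degree 23.
-/

set_option autoImplicit false
set_option linter.style.haveILetI false
set_option linter.unusedSectionVars false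

namespace CfsgLib.M23Ord

open Cfsg Finset CfsgLib.Block CfsgLib.Block.Chr CfsgLib.BrauerPrime
  CfsgLib.BrauerPairs
open CfsgLib.Cyclic (deg)

universe u

variable {G : Type u} [Group G] [Fintype G]

/-- A simple group of order 10200960 is not cyclic. -/
theorem not_cyclic [IsSimpleGroup G] (hcard : Nat.card G = 10200960) : ¬ IsCyclic G := fun h => by
  haveI := h
  letI := IsCyclic.commGroup (α := G)
  have := IsSimpleGroup.prime_card (α := G)
  rw [hcard] at this
  norm_num at this

theorem setup [IsSimpleGroup G] (hcard : Nat.card G = 10200960) {p : ℕ} [Fact p.Prime] (S : Sylow p G)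
    {m : ℕ} (hm : 10200960 = p * m) (hpm : ¬ p ∣ m) : Setup G p S :=
  setup_of_simple (not_cyclic hcard) (by
    simpa using CfsgLib.SmallSimple.card_sylow_eq S (k := 1) (m := m) (by rw [hcard, pow_one, hm]) hpm)

/-- Few Sylow subgroups are impossible. -/
theorem not_few [IsSimpleGroup G] (hcard : Nat.card G = 10200960) {p n : ℕ} [Fact p.Prime]
    (hp : p = 23 ∨ p = 11) {S : Sylow p G} (h : Setup G p S) (hn : Nat.card (Sylow p G) = 1 + n * p)
    (hsmall : 2 * n < p + 3) : False := by
  rcases classify h hn (not_eqn_of_lt hsmall) with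
    ⟨F, iF, iF', hF, -, ⟨e⟩⟩ | ⟨m, F, iF, iF', hF, hpm, -, -⟩
  · have h1 := CfsgLib.Linear.Small.card_psl_two hF
    rw [← Nat.card_congr e.toEquiv, hcard] at h1
    rcases hp with rfl | rfl <;> norm_num at h1
  · have h16 : m ≤ 4 := by
      by_contra hle
      have h32 : 2 ^ 5 ≤ 2 ^ m := Nat.pow_le_pow_right two_pos (by omega)
      omega
    interval_cases m <;> omega

/-- The possible sums of `k` members of a list, added to one. -/
def sums {R : Type*} [AddCommMonoidWithOne R] [DecidableEq R] (L : List R) : ℕ → Finset R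
  | 0 => {1}
  | k + 1 => (sums L k).biUnion fun r => (L.map fun x => x + r).toFinset

theorem mem_sums {R : Type*} [AddCommMonoidWithOne R] [DecidableEq R] (L : List R) {ι : Type*}
    [DecidableEq ι] (s : Finset ι) (f : ι → R) (hf : ∀ i ∈ s, f i ∈ L) :
    1 + ∑ i ∈ s, f i ∈ sums L s.card := by
  induction s using Finset.induction_on with
  | empty => simp [sums]
  | @insert a s ha ih =>
    rw [card_insert_of_notMem ha, sum_insert ha]
    refine mem_biUnion.2 ⟨_, ih fun i hi => hf i (mem_insert_of_mem hi), ?_⟩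
    exact List.mem_toFinset.2 (List.mem_map.2 ⟨f a, hf a (mem_insert_self a s), by abel⟩)

section Residue

variable {p : ℕ} [Fact p.Prime] {S : Sylow p G} {M : Ideal AlgInt} {e s : ℕ}
  {X Y : Finset (IrrCharacter G)} {sg : IrrCharacter G → ℤ} {ε : ℤ}

/-- The residue of the exceptional degree lies in the possible sums. -/
theorem residue [M.IsPrime] (B : Blk M S e s X Y sg ε) {θ : IrrCharacter G} (hθ : θ ∈ Y) (m : ℕ)
    (L : List (ZMod m)) (hX : ∀ χ ∈ X, χ ≠ trivIrr G → ((sg χ * deg χ : ℤ) : ZMod m) ∈ L) :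
    ((ε * deg θ : ℤ) : ZMod m) ∈ sums L (e - 1) := by
  classical
  have hc : (X.erase (trivIrr G)).card = e - 1 := by rw [card_erase_of_mem B.triv, B.cardX]
  rw [← hc, B.degY hθ, ← add_sum_erase X _ B.triv, B.sgTriv, deg_trivIrr, one_mul, Int.cast_add,
    Int.cast_one, Int.cast_sum]
  exact mem_sums L _ _ fun χ hχ => hX χ (mem_of_mem_erase hχ) (ne_of_mem_erase hχ)

/-- The two congruences read in the natural numbers. -/
theorem mod_of_modEq {d r : ℕ} {δ : ℤ} (hδ : δ = 1 ∨ δ = -1) (hr : r < p) (hr0 : 0 < r)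
    (h : (d : ℤ) ≡ δ * (r : ℤ) [ZMOD p]) :
    d % p = r ∧ δ = 1 ∨ d % p = p - r ∧ δ = -1 := by
  rcases hδ with rfl | rfl
  · refine Or.inl ⟨?_, rfl⟩
    rw [one_mul, Int.natCast_modEq_iff, Nat.ModEq, Nat.mod_eq_of_lt hr] at h
    exact h
  · refine Or.inr ⟨?_, rfl⟩
    have h' : (d : ℤ) ≡ ((p - r : ℕ) : ℤ) [ZMOD p] := by
      refine h.trans (Int.modEq_iff_dvd.2 ⟨1, ?_⟩)
      rw [Nat.cast_sub hr.le]; ring
    rw [Int.natCast_modEq_iff, Nat.ModEq, Nat.mod_eq_of_lt (by omega : p - r < p)] at h'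
    exact h'

end Residue

/-- A test for the residues of the degrees of the non-exceptional characters. -/
def goodX (p N m : ℕ) (bad : ℕ → Bool) (L : List (ZMod m)) (d : ℕ) : Bool :=
  if d ∣ N ∧ bad d = false then
    (if d % p = 1 then decide ((d : ZMod m) ∈ L) else true) &&
      (if d % p = p - 1 then decide (-(d : ZMod m) ∈ L) else true)
  else true

/-- A test for the residues of the exceptional degree. -/
def goodY (p N e m : ℕ) (bad : ℕ → Bool) (R : Finset (ZMod m)) (d : ℕ) : Bool :=
  if d ∣ N ∧ bad d = false then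
    (if d % p = e then decide ((d : ZMod m) ∉ R) else true) &&
      (if d % p = p - e then decide (-(d : ZMod m) ∉ R) else true)
  else true

theorem all_range {f : ℕ → Bool} {N : ℕ} (h : (List.range N).all f = true) {d : ℕ} (hd : d < N) :
    f d = true :=
  List.all_eq_true.1 h d (List.mem_range.2 hd)

/-- A principal block whose degrees have impossible residues. -/
theorem no_block {p : ℕ} [Fact p.Prime] {S : Sylow p G} {M : Ideal AlgInt} [M.IsPrime]
    (hM : IsPModular p M) (h : Setup G p S) {c e n s : ℕ} (num : Num S c e n)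
    {X Y : Finset (IrrCharacter G)} {sg : IrrCharacter G → ℤ} {ε : ℤ} (B : Blk M S e s X Y sg ε)
    (bad : ℕ → Bool) (hbad : ∀ χ : IrrCharacter G, χ ∈ X ∨ χ ∈ Y → χ ≠ trivIrr G →
      bad (charDegree (χ : G → ℂ)) = false) (m : ℕ) (L : List (ZMod m)) (he : e < p)
    (hX : (List.range (e * (1 + n * p) + 1)).all (goodX p (e * (1 + n * p)) m bad L) = true)
    (hY : (List.range (e * (1 + n * p) + 1)).all
      (goodY p (e * (1 + n * p)) e m bad (sums L (e - 1))) = true) : False := by
  classical
  obtain ⟨θ, hθ⟩ := card_pos.1 (B.cardY ▸ B.spos : 0 < Y.card)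
  have hp2 := (Fact.out : p.Prime).two_le
  have hN : 0 < e * (1 + n * p) := Nat.mul_pos (by have := num.epos; omega) (by omega)
  have hres := residue B hθ m L fun χ hχ hne => by
    have hd := B.dvdX h num hχ
    have hg := all_range hX (Nat.lt_succ_of_le (Nat.le_of_dvd hN hd))
    have hc := mod_of_modEq (d := charDegree (χ : G → ℂ)) (r := 1) (B.sign χ hχ) hp2 one_pos
      (by rw [Nat.cast_one, mul_one]; exact B.congX χ hχ)
    simp only [goodX, hbad χ (Or.inl hχ) hne, hd, and_self, if_true, Bool.and_eq_true] at hg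
    show (((sg χ * (charDegree (χ : G → ℂ) : ℤ) : ℤ)) : ZMod m) ∈ L
    rcases hc with ⟨h1, h2⟩ | ⟨h1, h2⟩
    · rw [h2]; simpa [h1] using hg.1
    · rw [h2]; simpa [h1] using hg.2
  have hd := B.dvdY hM h num hθ
  have hg := all_range hY (Nat.lt_succ_of_le (Nat.le_of_dvd hN hd))
  have hc := mod_of_modEq (d := charDegree (θ : G → ℂ)) (r := e) B.signY he
    (by have := num.epos; omega) (B.congY θ hθ)
  rw [goodY, if_pos ⟨hd, hbad θ (Or.inr hθ) fun hh => B.disj _ B.triv (hh ▸ hθ)⟩,
    Bool.and_eq_true] at hg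
  change (((ε * (charDegree (θ : G → ℂ) : ℤ) : ℤ)) : ZMod m) ∈ _ at hres
  rcases hc with ⟨h1, h2⟩ | ⟨h1, h2⟩ <;> rw [h2] at hres
  · simp [h1] at hg hres
    exact hg.1 hres
  · simp [h1] at hg hres
    exact hg.2 hres

section Small

variable [IsSimpleGroup G] {p : ℕ} [Fact p.Prime] {S : Sylow p G} {M : Ideal AlgInt} [M.IsPrime]
  {c e n s : ℕ} {X Y : Finset (IrrCharacter G)} {sg : IrrCharacter G → ℤ} {ε : ℤ}

/-- A small degree in the principal block makes the centralizer trivial. -/
theorem c_eq_one_of_lt (hM : IsPModular p M) (h : Setup G p S) (num : Num S c e n)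
    (B : Blk M S e s X Y sg ε) {χ : IrrCharacter G} (hχ : χ ∈ X ∨ χ ∈ Y) (hne : χ ≠ trivIrr G)
    (hdeg : charDegree (χ : G → ℂ) < 2 * p) : c = 1 := by
  classical
  have hp : p.Prime := Fact.out
  by_contra hc
  obtain ⟨q, hq, hqc⟩ := Nat.exists_prime_and_dvd hc
  haveI := Fact.mk hq
  have hqp : q ≠ p := fun e1 => by
    subst e1
    have h1 : q * q ∣ Nat.card (Subgroup.centralizer ((S : Subgroup G) : Set G)) :=
      num.cardC ▸ Nat.mul_dvd_mul_left q hqc
    have h2 : q ^ 2 ∣ Nat.card (S : Subgroup G) := by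
      rw [S.card_eq_multiplicity]
      refine pow_dvd_pow q ((hq.pow_dvd_iff_le_factorization Nat.card_pos.ne').1 ?_)
      rw [sq]; exact h1.trans (Subgroup.card_subgroup_dvd_card _)
    rw [show Nat.card (S : Subgroup G) = q from h.cardP] at h2
    have h3 := Nat.le_of_dvd hq.pos h2
    nlinarith [hq.two_le]
  obtain ⟨⟨y, hy⟩, hyo⟩ := exists_prime_orderOf_dvd_card'
    (G := Subgroup.centralizer ((S : Subgroup G) : Set G)) q (num.cardC ▸ Dvd.dvd.mul_left hqc p)
  have hyo' : orderOf y = q := by rw [← hyo, ← Subgroup.orderOf_coe]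
  have hy1 := CfsgLib.SmallFaithful.eq_one hM h.perfect S ((B.mem χ).2 hχ)
    (faithful_of_simple h hne) hdeg hy
    (fun hd => hqp ((Nat.prime_dvd_prime_iff_eq hp hq).1 (hyo' ▸ hd)).symm)
  rw [hy1, orderOf_one] at hyo'
  exact hq.one_lt.ne hyo'

end Small

/-- The sum of a character over a subgroup is a multiple of its order. -/
theorem sum_over {χ : G → ℂ} (hχ : Cfsg.IsCharacter G χ) (H : Subgroup G) [Fintype H] :
    ∃ m : ℕ, ∑ g : H, χ (g : G) = (Nat.card H : ℂ) * (m : ℂ) := by
  classical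
  obtain ⟨d, σ, hσ⟩ := CfsgLib.Char.IsCharacter.restrict hχ H
  haveI : Invertible (Nat.card H : ℂ) := invertibleOfNonzero (by exact_mod_cast Nat.card_pos.ne')
  have h1 := FDRep.average_char_eq_finrank_invariants (FDRep.of σ)
  have e : ∀ g : H, (FDRep.of σ).character g = χ (g : G) := fun g => by
    show σ.character g = _
    rw [hσ]
  simp only [e] at h1
  rw [inv_mul_eq_iff_eq_mul₀ (by exact_mod_cast Nat.card_pos.ne')] at h1
  exact ⟨_, h1⟩

/-- No character has degree 23 when an involution commutes with an element of order 23. -/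
theorem deg_ne_twentyThree [IsSimpleGroup G] (hcard : Nat.card G = 10200960) (χ : IrrCharacter G)
    {t z : G} (ht : orderOf t = 2) (hz : orderOf z = 23) (htz : Commute t z) :
    charDegree (χ : G → ℂ) ≠ 23 := by
  classical
  haveI : Fact (Nat.Prime 23) := ⟨by norm_num⟩
  intro hd
  have hone : (χ : G → ℂ) 1 = 23 := by rw [(irr_one χ).1, hd]; norm_num
  have hv : ∀ g : G, 23 ∣ orderOf g → (χ : G → ℂ) g = 0 := fun g hg =>
    eq_zero_of_defectZero (p := 23) (by norm_num) χ (by
      have hf : (Nat.card G).factorization 23 = 1 := CfsgLib.FixedPoints.factorization_eq_one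
        (by norm_num) Nat.card_pos.ne' (by rw [hcard]; norm_num) (by rw [hcard]; norm_num)
      rw [hf, hd, pow_one]) hg
  have hto : orderOf (t * z) = 46 := by
    rw [htz.orderOf_mul_eq_mul_orderOf_of_coprime (by rw [ht, hz]; norm_num), ht, hz]
  -- the value at the involution
  obtain ⟨j, hj, hjd⟩ := exists_int_value χ (t := t) (ht ▸ pow_orderOf_eq_one t)
  set H := Subgroup.zpowers (t * z)
  obtain ⟨m, hm⟩ := sum_over (isCharacter_irr χ) H
  have hH : Nat.card H = 46 := by rw [Nat.card_zpowers, hto]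
  have htH : t ∈ H := ⟨23, by
    show (t * z) ^ (23 : ℤ) = t
    rw [zpow_ofNat, htz.mul_pow, ← hz, pow_orderOf_eq_one, mul_one, hz, show 23 = 2 * 11 + 1 from rfl,
      pow_succ, pow_mul, ← ht, pow_orderOf_eq_one, one_pow, one_mul]⟩
  have hsum : ∑ g : H, (χ : G → ℂ) (g : G) = 23 + (j : ℂ) := by
    have hne : (1 : H) ≠ ⟨t, htH⟩ := fun e => by
      have e' : t = 1 := (congrArg Subtype.val e).symm
      rw [e', orderOf_one] at ht
      norm_num at ht
    rw [← hj, ← hone,
      show (χ : G → ℂ) 1 + (χ : G → ℂ) t = ∑ g ∈ ({1, ⟨t, htH⟩} : Finset H), (χ : G → ℂ) (g : G) from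
        (sum_pair hne (f := fun g : H => (χ : G → ℂ) (g : G))).symm]
    refine (sum_subset (subset_univ _) fun g _ hg => ?_).symm
    simp only [mem_insert, mem_singleton, not_or] at hg
    refine hv _ ?_
    have hdvd : orderOf (g : G) ∣ 46 := hH ▸ Subgroup.orderOf_dvd_natCard H g.2
    by_contra hnd
    have h2 : orderOf (g : G) ∣ 2 := by
      refine (Nat.Coprime.dvd_of_dvd_mul_left ?_ (show orderOf (g : G) ∣ 23 * 2 from hdvd))
      exact (((by norm_num : Nat.Prime 23).coprime_iff_not_dvd).2 hnd).symm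
    rcases (Nat.dvd_prime Nat.prime_two).1 h2 with h1 | h1
    · exact hg.1 (Subtype.ext (orderOf_eq_one_iff.1 h1))
    · refine hg.2 (Subtype.ext ?_)
      haveI : IsCyclic H := inferInstance
      have hu : ∀ u : H, orderOf u = 2 → u = ⟨t, htH⟩ := by
        have hc : (univ.filter fun u : H => orderOf u = 2).card = 1 := by
          rw [IsCyclic.card_orderOf_eq_totient (by rw [← Nat.card_eq_fintype_card, hH]; norm_num)]
          rfl
        obtain ⟨w, hw⟩ := card_eq_one.1 hc
        intro u hu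
        have m1 : u ∈ univ.filter fun u : H => orderOf u = 2 := mem_filter.2 ⟨mem_univ _, hu⟩
        have m2 : (⟨t, htH⟩ : H) ∈ univ.filter fun u : H => orderOf u = 2 :=
          mem_filter.2 ⟨mem_univ _, by rw [Subgroup.orderOf_mk, ht]⟩
        rw [hw, mem_singleton] at m1 m2
        rw [m1, m2]
      exact congrArg Subtype.val (hu g (by rw [← h1, Subgroup.orderOf_coe]))
  rw [hm, hH] at hsum
  have hjm : (j : ℤ) = 46 * m - 23 := by
    have : ((j : ℤ) : ℂ) = ((46 * (m : ℤ) - 23 : ℤ) : ℂ) := by push_cast at hsum ⊢; linear_combination -hsum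
    exact_mod_cast this
  rw [show deg χ = (23 : ℤ) by show (charDegree (χ : G → ℂ) : ℤ) = 23; rw [hd]; rfl, abs_le] at hjd
  have hj2 : j = -23 ∨ j = 23 := by omega
  have hnorm : ‖(χ : G → ℂ) t‖ = 23 := by rcases hj2 with rfl | rfl <;> rw [hj] <;> norm_num
  obtain ⟨S⟩ : Nonempty (Sylow 23 G) := inferInstance
  have h : Setup G 23 S := setup hcard S (m := 443520) (by norm_num) (by norm_num)
  have hne : χ ≠ trivIrr G := fun e => by rw [e, trivIrr_apply] at hone; norm_num at hone
  obtain ⟨d, ρ, hρ, hρχ⟩ := χ.2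
  have hd' : d = 23 := by
    have h1 := congrFun hρχ 1
    rw [ρ.char_one, Module.finrank_fin_fun, hone] at h1
    exact_mod_cast h1
  subst hd'
  obtain ⟨ω, hω⟩ := (CfsgLib.Char.norm_character_eq_iff ρ t).1 (by
    rw [congrFun hρχ t, hnorm, Module.finrank_fin_fun]; norm_num)
  have hcent : t ∈ Subgroup.center G := Subgroup.mem_center_iff.2 fun g => by
    have hc : ρ (g * t * (t * g)⁻¹) = 1 := by
      have h1 : ρ (g * t) = ρ (t * g) := by
        rw [map_mul, map_mul, hω, ← Module.End.one_eq_id, mul_smul_comm, mul_one, smul_mul_assoc,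
          one_mul]
      rw [map_mul, h1, ← map_mul, mul_inv_cancel, map_one]
    exact mul_inv_eq_one.1 (faithful_of_simple h hne _ (by
      rw [← congrFun hρχ, ← congrFun hρχ 1, ρ.char_one, Representation.character, hc,
        LinearMap.trace_one]))
  have hbot : Subgroup.center G = ⊥ := by
    refine (Subgroup.Normal.eq_bot_or_eq_top inferInstance).resolve_right fun htop => ?_
    exact not_normalizer_le h fun x _ => Subgroup.mem_centralizer_iff.2 fun y _ =>
      Subgroup.mem_center_iff.1 (htop ▸ Subgroup.mem_top x) y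
  rw [hbot, Subgroup.mem_bot] at hcent
  rw [hcent, orderOf_one] at ht
  norm_num at ht

end CfsgLib.M23Ord
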