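import Cfsg.Agent.M23Ord.Tools

/-!
# Simple groups of order 10200960: the Sylow subgroups of order 23

There are 40320 of them, each is its own centralizer and its normalizer has order 253.
-/

set_option autoImplicit false
set_option linter.style.haveILetI false
set_option linter.unusedSectionVars false

namespace CfsgLib.M23Ord

open Cfsg Subgroup CfsgLib.Block CfsgLib.Block.Chr CfsgLib.BrauerPrime CfsgLib.BrauerPairs

universe u

variable {G : Type u} [Group G] [Fintype G]

theorem count_options {n : ℕ} (hd : 1 + n * 23 ∣ 443520) (hn : 1 ≤ n) :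
    n ∈ [1, 3, 10, 25, 43, 73, 153, 241, 1753, 19283] := by
  have h : (List.range 19284).all (fun k =>
      if 1 + k * 23 ∣ 443520 ∧ 1 ≤ k then decide (k ∈ [1, 3, 10, 25, 43, 73, 153, 241, 1753, 19283])
      else true) = true := by decide +kernel
  have hle := Nat.le_of_dvd (by norm_num) hd
  have := all_range h (show n < 19284 by omega)
  simpa [hd, hn] using this

theorem eleven_options {n e : ℕ} (he : e ∈ [2, 5, 10]) (hn : 1 ≤ n) (hd : e * (1 + n * 11) ∣ 38640)
    (h23 : 23 ∣ 1 + n * 11) :
    (n, e) ∈ [(2, 2), (2, 5), (2, 10), (25, 2), (25, 5), (25, 10), (117, 2), (117, 5), (117, 10), (439, 2)] := by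
  have h : ∀ e ∈ [2, 5, 10], (List.range 1757).all (fun k =>
      if e * (1 + k * 11) ∣ 38640 ∧ 23 ∣ 1 + k * 11 ∧ 1 ≤ k then
        decide ((k, e) ∈ [(2, 2), (2, 5), (2, 10), (25, 2), (25, 5), (25, 10), (117, 2), (117, 5), (117, 10), (439, 2)])
      else true) = true := by decide +kernel
  have hle := Nat.le_of_dvd (by norm_num) hd
  have he2 : 2 ≤ e := by simp at he; omega
  have h2 : 2 * (1 + n * 11) ≤ e * (1 + n * 11) := Nat.mul_le_mul_right _ he2
  have := all_range (h e he) (show n < 1757 by omega)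
  simpa [hd, hn, h23] using this

/-- The normalizer of a Sylow subgroup acts on it through a cyclic group. -/
theorem mul_comm_of_quot {p : ℕ} [Fact p.Prime] {S : Sylow p G} (h : Setup G p S) {g a : G}
    (hg : g ∈ normalizer ((S : Subgroup G) : Set G)) (ha : a ∈ normalizer ((S : Subgroup G) : Set G)) :
    g * a * g⁻¹ * a⁻¹ ∈ centralizer ((S : Subgroup G) : Set G) := by
  haveI : IsCyclic (S : Subgroup G) := isCyclic_of_prime_card h.cardP
  haveI := IsCyclic.commGroup (α := (S : Subgroup G))
  set f := (S : Subgroup G).normalizerMonoidHom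
  have hk : (⟨g, hg⟩ * ⟨a, ha⟩ * ⟨g, hg⟩⁻¹ * ⟨a, ha⟩⁻¹ :
      normalizer ((S : Subgroup G) : Set G)) ∈ f.ker := by
    rw [MonoidHom.mem_ker, map_mul, map_mul, map_mul, map_inv, map_inv]
    refine (IsCyclic.mulAutMulEquiv (S : Subgroup G)).injective ?_
    simp only [map_mul, map_inv, map_one]
    rw [mul_comm ((IsCyclic.mulAutMulEquiv (S : Subgroup G)) (f ⟨g, hg⟩)), mul_inv_cancel_right,
      mul_inv_cancel]
  rw [normalizerMonoidHom_ker, mem_subgroupOf] at hk
  simpa using hk

variable [IsSimpleGroup G]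

/-- No principal block at eleven fits a centralizer of order divisible by 264 with an involution
commuting with an element of order 23. -/
theorem no_eleven (hcard : Nat.card G = 10200960) [Fact (Nat.Prime 11)] (S : Sylow 11 G)
    (hC : 264 ∣ Nat.card (centralizer ((S : Subgroup G) : Set G)))
    (h23 : ¬ 23 ∣ Nat.card (centralizer ((S : Subgroup G) : Set G))) {t z : G}
    (ht : orderOf t = 2) (hz : orderOf z = 23) (htz : Commute t z) : False := by
  classical
  have h : Setup G 11 S := setup hcard S (m := 927360) (by norm_num) (by norm_num)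
  obtain ⟨n, hn⟩ : ∃ n, Nat.card (Sylow 11 G) = 1 + n * 11 := by
    have hm : Nat.card (Sylow 11 G) % 11 = 1 := card_sylow_modEq_one 11 G
    exact ⟨Nat.card (Sylow 11 G) / 11, by omega⟩
  obtain ⟨c, e, num⟩ := exists_num h hn
  obtain ⟨M, hM⟩ := exists_isPModular (Fact.out : Nat.Prime 11)
  haveI := hM.2.1.isPrime
  obtain ⟨s, X, Y, sg, ε, B⟩ := exists_blk hM h num
  have hG := num.cardG
  rw [hcard] at hG
  rw [num.cardC] at hC h23
  have hc24 : 24 ∣ c := Nat.dvd_of_mul_dvd_mul_left (by norm_num : 0 < 11)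
    (by norm_num; exact hC)
  have hc1 : c ≠ 1 := fun e1 => by subst e1; norm_num at hc24
  have hes := B.hes
  have he : e ∈ [2, 5, 10] := by
    have hd : e ∣ 10 := ⟨s, by omega⟩
    have := num.epos
    have := Nat.le_of_dvd (by norm_num) hd
    interval_cases e <;> simp_all
  have h23n : 23 ∣ 1 + n * 11 := by
    have h1 : 23 ∣ 11 * c * e * (1 + n * 11) := ⟨443520, by rw [← hG]⟩
    refine (Nat.Prime.dvd_mul (by norm_num)).1 h1 |>.resolve_left fun h2 => ?_
    refine h23 ((Nat.Prime.dvd_mul (by norm_num)).1 h2 |>.resolve_right fun h3 => ?_)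
    simp at he
    rcases he with rfl | rfl | rfl <;> norm_num at h3
  have hd : e * (1 + n * 11) ∣ 38640 := by
    obtain ⟨k, hk⟩ := hc24
    refine ⟨k, ?_⟩
    rw [hk] at hG
    refine Nat.eq_of_mul_eq_mul_left (show 0 < 264 by norm_num) ?_
    calc 264 * 38640 = 10200960 := by norm_num
      _ = _ := hG
      _ = _ := by ring
  have hopt := eleven_options he num.npos hd h23n
  let bad : ℕ → Bool := fun d => decide (d < 22) || decide (d = 23)
  have hbad : ∀ χ : IrrCharacter G, χ ∈ X ∨ χ ∈ Y → χ ≠ trivIrr G →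
      bad (charDegree (χ : G → ℂ)) = false := fun χ hχ hne => by
    have h1 : ¬ charDegree (χ : G → ℂ) < 22 := fun hlt =>
      hc1 (c_eq_one_of_lt hM h num B hχ hne (by omega))
    simp [bad, h1, deg_ne_twentyThree hcard χ ht hz htz]
  simp only [List.mem_cons, Prod.mk.injEq, List.not_mem_nil, or_false] at hopt
  rcases hopt with ⟨rfl, rfl⟩ | ⟨rfl, rfl⟩ | ⟨rfl, rfl⟩ | ⟨rfl, rfl⟩ | ⟨rfl, rfl⟩ | ⟨rfl, rfl⟩ |
    ⟨rfl, rfl⟩ | ⟨rfl, rfl⟩ | ⟨rfl, rfl⟩ | ⟨rfl, rfl⟩
  · exact not_few hcard (Or.inr rfl) h hn (by norm_num)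
  · exact not_few hcard (Or.inr rfl) h hn (by norm_num)
  · exact not_few hcard (Or.inr rfl) h hn (by norm_num)
  · exact no_block hM h num B bad hbad 1000003 [276] (by norm_num) (by decide +kernel) (by decide +kernel)
  · exact no_block hM h num B bad hbad 14 [10, 8] (by norm_num) (by decide +kernel) (by decide +kernel)
  · exact no_block hM h num B bad hbad 2 [0] (by norm_num) (by decide +kernel) (by decide +kernel)
  · exact no_block hM h num B bad hbad 1000003 [56, 1288] (by norm_num) (by decide +kernel) (by decide +kernel)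
  · exact no_block hM h num B bad hbad 28 [0, 22] (by norm_num) (by decide +kernel) (by decide +kernel)
  · exact no_block hM h num B bad hbad 2 [0] (by norm_num) (by decide +kernel) (by decide +kernel)
  · exact no_block hM h num B bad hbad 1000003 [210, 276, 4830, -230, -483] (by norm_num)
      (by decide +kernel) (by decide +kernel)

/-- The case of 1680 Sylow subgroups of order 23. -/
theorem not_1680 (hcard : Nat.card G = 10200960) [Fact (Nat.Prime 23)] {S : Sylow 23 G}
    (h : Setup G 23 S) {c e : ℕ} (num : Num S c e 73)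
    (hce : c = 24 ∧ e = 11 ∨ c = 12 ∧ e = 22) : False := by
  classical
  haveI : Fact (Nat.Prime 11) := ⟨by norm_num⟩
  haveI : Fact (Nat.Prime 3) := ⟨by norm_num⟩
  set C := centralizer ((S : Subgroup G) : Set G) with hCdef
  set N := normalizer ((S : Subgroup G) : Set G) with hNdef
  have hCN : C ≤ N := Subgroup.centralizer_le_normalizer _
  have hN : Nat.card N = 6072 := by
    rw [num.cardN]; rcases hce with ⟨rfl, rfl⟩ | ⟨rfl, rfl⟩ <;> norm_num
  have hC : Nat.card C = 23 * c := num.cardC
  have hc : c = 24 ∨ c = 12 := by rcases hce with ⟨rfl, -⟩ | ⟨rfl, -⟩ <;> simp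
  have h11C : ¬ 11 ∣ Nat.card C := by rw [hC]; rcases hc with rfl | rfl <;> norm_num
  obtain ⟨A⟩ : Nonempty (Sylow 11 N) := inferInstance
  have hA : Nat.card (A : Subgroup N) = 11 := by
    simpa using CfsgLib.SmallSimple.card_sylow_eq A (k := 1) (m := 552) (by rw [hN]; norm_num) (by norm_num)
  obtain ⟨⟨a, haA⟩, ha'⟩ := exists_prime_orderOf_dvd_card' (G := (A : Subgroup N)) 11 (by rw [hA])
  have hao : orderOf (a : G) = 11 := by
    rw [← ha', Subgroup.orderOf_mk, Subgroup.orderOf_coe]
  have hAz : (A : Subgroup N) = zpowers a := (eq_of_le_of_card_ge (zpowers_le.2 haA) (by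
    rw [hA, Nat.card_zpowers, ← Subgroup.orderOf_coe, hao])).symm
  have haC : (a : G) ∉ C := fun hh => h11C (hao ▸ Subgroup.orderOf_dvd_natCard C hh)
  -- the fixed points of `a` on `C`
  haveI hCnormal : (C.subgroupOf N).Normal := by
    rw [hCdef, hNdef, ← normalizerMonoidHom_ker]; exact MonoidHom.normal_ker _
  set K := C.subgroupOf N ⊓ centralizer ({a} : Set N) with hKdef
  have hK3 : 3 ∣ Nat.card K := by
    have hcount : Nat.card (Sylow 3 (C.subgroupOf N)) ∣ 184 := by
      obtain ⟨Q⟩ : Nonempty (Sylow 3 (C.subgroupOf N)) := inferInstance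
      have hcardC : Nat.card (C.subgroupOf N) = 23 * c :=
        (Nat.card_congr (subgroupOfEquivOfLe hCN).toEquiv).trans hC
      have hQ : Nat.card (Q : Subgroup (C.subgroupOf N)) = 3 := by
        rcases hc with rfl | rfl
        · simpa using CfsgLib.SmallSimple.card_sylow_eq Q (k := 1) (m := 184) (by rw [hcardC]; norm_num) (by norm_num)
        · simpa using CfsgLib.SmallSimple.card_sylow_eq Q (k := 1) (m := 92) (by rw [hcardC]; norm_num) (by norm_num)
      have h1 := Sylow.card_dvd_index Q
      have h2 := (Q : Subgroup (C.subgroupOf N)).card_mul_index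
      rw [hQ, hcardC] at h2
      refine h1.trans ?_
      rcases hc with rfl | rfl
      · exact ⟨1, by omega⟩
      · exact ⟨2, by omega⟩
    -- the centre contains the Sylow subgroup of order 23
    have hne : ¬ 23 ∣ Nat.card (Sylow 3 (C.subgroupOf N)) := by
      intro h23
      obtain ⟨z, hz, hz1⟩ := exists_ne_one h
      have hzo := orderOf_eq h hz hz1
      have hzN : z ∈ N := hCN (le_centralizer h hz)
      set z' : C.subgroupOf N := ⟨⟨z, hzN⟩, le_centralizer h hz⟩
      obtain ⟨Q⟩ : Nonempty (Sylow 3 (C.subgroupOf N)) := inferInstance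
      have hzc : z' ∈ normalizer ((Q : Subgroup (C.subgroupOf N)) : Set (C.subgroupOf N)) := by
        refine Subgroup.centralizer_le_normalizer _ (mem_centralizer_iff.2 fun y _ => Subtype.ext (Subtype.ext ?_))
        exact ((mem_centralizer_iff.1 (y.2 : ((y : N) : G) ∈ C) z hz)).symm
      have h3 := Subgroup.orderOf_dvd_natCard _ hzc
      have hzo' : orderOf z' = 23 := by
        rw [← Subgroup.orderOf_coe, ← Subgroup.orderOf_coe]; exact hzo
      rw [hzo'] at h3
      have hmul := CfsgLib.SmallSimple.card_sylow_mul Q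
      have hcardC : Nat.card (C.subgroupOf N) = 23 * c :=
        (Nat.card_congr (subgroupOfEquivOfLe hCN).toEquiv).trans hC
      rw [hcardC] at hmul
      have h4 : 23 * 23 ∣ 23 * c := hmul ▸ Nat.mul_dvd_mul h23 h3
      rcases hc with rfl | rfl <;> norm_num at h4
    have hsmall : Nat.card (Sylow 3 (C.subgroupOf N)) < 11 := by
      have h8 : Nat.card (Sylow 3 (C.subgroupOf N)) ∣ 8 :=
        (((show Nat.Prime 23 by norm_num).coprime_iff_not_dvd.2 hne).symm).dvd_of_dvd_mul_left
          (show _ ∣ 23 * 8 from hcount)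
      have := Nat.le_of_dvd (by norm_num) h8
      omega
    set φ := MulAut.conjNormal (H := C.subgroupOf N) a
    have hφ : φ ^ 11 = 1 := by
      rw [← map_pow, show a ^ 11 = 1 from Subtype.ext (by
        rw [SubgroupClass.coe_pow, ← hao, pow_orderOf_eq_one]; rfl), map_one]
    obtain ⟨Q⟩ : Nonempty (Sylow 3 (C.subgroupOf N)) := inferInstance
    haveI : Fintype (Sylow 3 (C.subgroupOf N)) := Fintype.ofFinite _
    have hfix : φ • Q = Q := by
      set σ : Equiv.Perm (Sylow 3 (C.subgroupOf N)) := MulAction.toPermHom (MulAut (C.subgroupOf N)) _ φ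
      have h1 : orderOf σ ∣ 11 := (orderOf_map_dvd _ _).trans (orderOf_dvd_of_pow_eq_one hφ)
      rcases (Nat.dvd_prime (by norm_num : Nat.Prime 11)).1 h1 with h2 | h2
      · exact Equiv.congr_fun (orderOf_eq_one_iff.1 h2 : σ = 1) Q
      · have h3 : orderOf σ ∣ Fintype.card (Equiv.Perm (Sylow 3 (C.subgroupOf N))) := orderOf_dvd_card
        rw [h2, Fintype.card_perm, ← Nat.card_eq_fintype_card, (by norm_num : Nat.Prime 11).dvd_factorial] at h3
        omega
    have hQ3 : Nat.card (Q : Subgroup (C.subgroupOf N)) = 3 := by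
      have hcardC : Nat.card (C.subgroupOf N) = 23 * c :=
        (Nat.card_congr (subgroupOfEquivOfLe hCN).toEquiv).trans hC
      rcases hc with rfl | rfl
      · simpa using CfsgLib.SmallSimple.card_sylow_eq Q (k := 1) (m := 184) (by rw [hcardC]; norm_num) (by norm_num)
      · simpa using CfsgLib.SmallSimple.card_sylow_eq Q (k := 1) (m := 92) (by rw [hcardC]; norm_num) (by norm_num)
    obtain ⟨⟨q, hqQ⟩, hq⟩ := exists_prime_orderOf_dvd_card' (G := (Q : Subgroup (C.subgroupOf N))) 3 (by rw [hQ3])
    rw [Subgroup.orderOf_mk] at hq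
    have hQz : (Q : Subgroup (C.subgroupOf N)) = zpowers q :=
      (eq_of_le_of_card_ge (zpowers_le.2 hqQ) (by rw [hQ3, Nat.card_zpowers, hq])).symm
    have hmem : φ q ∈ (Q : Subgroup (C.subgroupOf N)) := by
      have h1 : φ • q ∈ (φ • Q : Sylow 3 (C.subgroupOf N)).toSubgroup :=
        Subgroup.smul_mem_pointwise_smul q φ _ hqQ
      rwa [hfix] at h1
    have hq2 : φ q = q := by
      have hcases : ∀ x ∈ zpowers q, x = 1 ∨ x = q ∨ x = q * q := by
        intro x hx
        obtain ⟨i, rfl⟩ := Submonoid.mem_powers_iff _ _ |>.1 (mem_powers_iff_mem_zpowers.2 hx)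
        rw [← pow_mod_orderOf, hq]
        have hi := Nat.mod_lt i (show 0 < 3 by norm_num)
        generalize i % 3 = i at hi
        interval_cases i <;> simp [pow_two]
      rcases hcases _ (hQz ▸ hmem) with h1 | h1 | h1
      · rw [MulEquiv.map_eq_one_iff] at h1
        rw [h1, orderOf_one] at hq; norm_num at hq
      · exact h1
      · exfalso
        have h2 : (φ * φ) q = q := by
          rw [MulAut.mul_apply, h1, map_mul, h1]
          calc q * q * (q * q) = q * (q * q * q) := by group
            _ = q * q ^ 3 := by rw [pow_succ, pow_two]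
            _ = q := by rw [← hq, pow_orderOf_eq_one, mul_one]
        have h3 : φ q = q := by
          have h4 : ((φ * φ) ^ 6) q = q := by
            have : ∀ k : ℕ, ((φ * φ) ^ k) q = q := by
              intro k; induction k with
              | zero => rfl
              | succ k ih => rw [pow_succ, MulAut.mul_apply, h2, ih]
            exact this 6
          rwa [← pow_two, ← pow_mul, show 2 * 6 = 11 + 1 from rfl, pow_succ, hφ, one_mul] at h4
        rw [h3] at h1
        have : q = 1 := by simpa using h1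
        rw [this, orderOf_one] at hq; norm_num at hq
    have hqK : (q : N) ∈ K := by
      refine ⟨q.2, mem_centralizer_singleton_iff.2 ?_⟩
      have h1 := congrArg (fun u : C.subgroupOf N => (u : N)) hq2
      simp only [φ, MulAut.conjNormal_apply] at h1
      exact (mul_inv_eq_iff_eq_mul.1 h1).symm
    have := Subgroup.orderOf_dvd_natCard K hqK
    rwa [Subgroup.orderOf_coe, hq] at this
  have hKc : Nat.card K = c := by
    set φ := MulAut.conjNormal (H := C.subgroupOf N) a
    have hφ : φ ^ 11 = 1 := by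
      rw [← map_pow, show a ^ 11 = 1 from Subtype.ext (by
        rw [SubgroupClass.coe_pow, ← hao, pow_orderOf_eq_one]; rfl), map_one]
    have hP : IsPGroup 11 (zpowers φ) := fun x => ⟨1, by
      obtain ⟨i, hi⟩ := mem_zpowers_iff.1 x.2
      refine Subtype.ext ?_
      rw [SubgroupClass.coe_pow, ← hi, pow_one, ← zpow_natCast, ← zpow_mul, mul_comm, zpow_mul,
        zpow_natCast, hφ, one_zpow]
      rfl⟩
    have hmod := hP.card_modEq_card_fixedPoints (C.subgroupOf N)
    have hfp : Nat.card (MulAction.fixedPoints (zpowers φ) (C.subgroupOf N)) = Nat.card K := by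
      refine Nat.card_congr
        { toFun := fun u => ⟨(u.1 : N), u.1.2, mem_centralizer_singleton_iff.2 ?_⟩
          invFun := fun u => ⟨⟨u.1, u.2.1⟩, fun y => ?_⟩
          left_inv := fun u => rfl
          right_inv := fun u => rfl }
      · have h1 := congrArg (fun w : C.subgroupOf N => (w : N)) (u.2 ⟨φ, mem_zpowers φ⟩)
        change ((φ u.1 : C.subgroupOf N) : N) = (u.1 : N) at h1
        simp only [φ, MulAut.conjNormal_apply] at h1
        exact (mul_inv_eq_iff_eq_mul.1 h1).symm
      · have hu : φ ∈ MulAction.stabilizer (MulAut (C.subgroupOf N)) (⟨u.1, u.2.1⟩ : C.subgroupOf N) := by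
          refine Subtype.ext ?_
          change ((φ ⟨u.1, u.2.1⟩ : C.subgroupOf N) : N) = u.1
          simp only [φ, MulAut.conjNormal_apply]
          exact mul_inv_eq_iff_eq_mul.2 (mem_centralizer_singleton_iff.1 u.2.2).symm
        exact (zpowers_le.2 hu y.2 :)
    rw [hfp, Nat.card_congr (subgroupOfEquivOfLe hCN).toEquiv, hC] at hmod
    have hdvd : Nat.card K ∣ 23 * c := by
      have h1 := card_dvd_of_le (inf_le_left : K ≤ C.subgroupOf N)
      rwa [Nat.card_congr (subgroupOfEquivOfLe hCN).toEquiv, hC] at h1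
    have hK23 : ¬ 23 ∣ Nat.card K := by
      intro h23
      obtain ⟨⟨w, hw⟩, hwo⟩ := exists_prime_orderOf_dvd_card' 23 h23
      rw [Subgroup.orderOf_mk] at hwo
      have hwo' : orderOf (w : G) = 23 := by rw [Subgroup.orderOf_coe, hwo]
      have hwS : (w : G) ∈ (S : Subgroup G) := by
        have hn : (w : G) ∈ N := w.2
        exact CfsgLib.SmallSimple.mem_sylow_of_smul_eq (n := 1) (y := (w : G))
          (by rw [pow_one, ← hwo', pow_orderOf_eq_one]) S (Sylow.smul_eq_iff_mem_normalizer.2 hn)
      have hw1 : (w : G) ≠ 1 := fun e1 => by rw [e1, orderOf_one] at hwo'; norm_num at hwo'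
      have h1 : (a : G) ∈ centralizer ({(w : G)} : Set G) := mem_centralizer_singleton_iff.2
        (congrArg Subtype.val (mem_centralizer_singleton_iff.1 hw.2)).symm
      rw [centralizer_singleton h hwS hw1] at h1
      exact haC h1
    have hc' : Nat.card K ∣ c :=
      (((show Nat.Prime 23 by norm_num).coprime_iff_not_dvd.2 hK23).symm).dvd_of_dvd_mul_left hdvd
    obtain ⟨k, hk⟩ := hK3
    rcases hc with rfl | rfl <;> (have := Nat.le_of_dvd (by norm_num) hc'; unfold Nat.ModEq at hmod; omega)
  -- the normalizer of `A` inside `N`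
  set L := normalizer ((A : Subgroup N) : Set N) with hL
  have hKL : K ≤ L := fun u hu => Subgroup.centralizer_le_normalizer _ (by
    rw [hAz, mem_centralizer_iff]
    intro y hy
    obtain ⟨i, rfl⟩ := mem_zpowers_iff.1 hy
    exact ((show Commute u a from mem_centralizer_singleton_iff.1 hu.2).zpow_right i).eq.symm)
  have hAL : (A : Subgroup N) ≤ L := Subgroup.le_normalizer
  have hLcard : Nat.card L = 264 := by
    have h1 : c ∣ Nat.card L := hKc ▸ card_dvd_of_le hKL
    have h2 : 11 ∣ Nat.card L := hA ▸ card_dvd_of_le hAL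
    have h3 : 11 * c ∣ Nat.card L := Nat.Coprime.mul_dvd_of_dvd_of_dvd
      (by rcases hc with rfl | rfl <;> norm_num) h2 h1
    have hmul := (CfsgLib.SmallSimple.card_sylow_mul A).trans hN
    have hmod : Nat.card (Sylow 11 N) % 11 = 1 := card_sylow_modEq_one 11 N
    have h23L : ¬ 23 ∣ Nat.card L := by
      intro h23
      obtain ⟨⟨w, hw⟩, hwo⟩ := exists_prime_orderOf_dvd_card' 23 h23
      rw [Subgroup.orderOf_mk] at hwo
      have hwo' : orderOf (w : G) = 23 := by rw [Subgroup.orderOf_coe, hwo]
      have hw1 : (w : G) ≠ 1 := fun e1 => by rw [e1, orderOf_one] at hwo'; norm_num at hwo'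
      have hwS : (w : G) ∈ (S : Subgroup G) :=
        CfsgLib.SmallSimple.mem_sylow_of_smul_eq (n := 1) (y := (w : G))
          (by rw [pow_one, ← hwo', pow_orderOf_eq_one]) S (Sylow.smul_eq_iff_mem_normalizer.2 w.2)
      -- the commutator lies in both Sylow subgroups
      have hcA : w * a * w⁻¹ * a⁻¹ ∈ (A : Subgroup N) :=
        mul_mem ((mem_normalizer_iff.1 hw a).1 haA) (inv_mem haA)
      have hcS : ((w * a * w⁻¹ * a⁻¹ : N) : G) ∈ (S : Subgroup G) := by
        have : (a : G) * (w : G)⁻¹ * (a : G)⁻¹ ∈ (S : Subgroup G) :=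
          (mem_normalizer_iff.1 a.2 _).1 (inv_mem hwS)
        simpa [mul_assoc] using mul_mem hwS this
      have h4 : orderOf ((w * a * w⁻¹ * a⁻¹ : N) : G) = 1 :=
        Nat.eq_one_of_dvd_coprimes (show Nat.Coprime 23 11 by norm_num)
          (h.cardP ▸ Subgroup.orderOf_dvd_natCard _ hcS)
          (by rw [Subgroup.orderOf_coe]; exact hA ▸ Subgroup.orderOf_dvd_natCard _ hcA)
      have h5 : (a : G) ∈ centralizer ({(w : G)} : Set G) := by
        refine mem_centralizer_singleton_iff.2 ?_
        have h6 := orderOf_eq_one_iff.1 h4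
        simp only [Subgroup.coe_mul, Subgroup.coe_inv] at h6
        rw [mul_inv_eq_one, mul_inv_eq_iff_eq_mul] at h6
        exact h6.symm
      rw [centralizer_singleton h hwS hw1] at h5
      exact haC h5
    have hd : Nat.card L ∣ 264 := by
      refine (((show Nat.Prime 23 by norm_num).coprime_iff_not_dvd.2 h23L).symm).dvd_of_dvd_mul_left ?_
      exact ⟨Nat.card (Sylow 11 N), by rw [mul_comm (Nat.card L), hmul]⟩
    have hle := Nat.le_of_dvd (by norm_num) hd
    have hle' := Nat.le_of_dvd Nat.card_pos h3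
    obtain ⟨m, hm⟩ := h3
    rw [hm] at hmul hle ⊢
    rcases hc with rfl | rfl
    · omega
    · have : m = 1 ∨ m = 2 := by omega
      rcases this with rfl | rfl <;> omega
  -- `L` centralizes `a`
  have hLC : L.map N.subtype ≤ centralizer ((A : Subgroup N).map N.subtype : Set G) := by
    rintro _ ⟨g, hg, rfl⟩
    refine mem_centralizer_iff.2 fun y hy => ?_
    obtain ⟨y, hyA, rfl⟩ := hy
    have h1 : g * y * g⁻¹ * y⁻¹ ∈ (A : Subgroup N) :=
      mul_mem ((mem_normalizer_iff.1 hg y).1 hyA) (inv_mem hyA)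
    have h2 : ((g * y * g⁻¹ * y⁻¹ : N) : G) ∈ C := by
      simp only [Subgroup.coe_mul, Subgroup.coe_inv]
      exact mul_comm_of_quot h g.2 y.2
    have h3 : g * y * g⁻¹ * y⁻¹ = 1 := by
      refine orderOf_eq_one_iff.1 ((Nat.dvd_prime (by norm_num : Nat.Prime 11)).1
        (hA ▸ Subgroup.orderOf_dvd_natCard _ h1) |>.resolve_right fun h4 => h11C ?_)
      have h5 := Subgroup.orderOf_dvd_natCard C h2
      rwa [Subgroup.orderOf_coe, h4] at h5
    rw [mul_inv_eq_one, mul_inv_eq_iff_eq_mul] at h3
    exact (congrArg Subtype.val h3).symm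
  have hAG : Nat.card ((A : Subgroup N).map N.subtype) = 11 := by
    rw [card_map_of_injective N.subtype_injective, hA]
  set T : Sylow 11 G := Sylow.ofCard ((A : Subgroup N).map N.subtype) (by
    rw [hAG, CfsgLib.FixedPoints.factorization_eq_one (by norm_num) Nat.card_pos.ne'
      (by rw [hcard]; norm_num) (by rw [hcard]; norm_num), pow_one])
  obtain ⟨⟨t, htK⟩, hto⟩ := exists_prime_orderOf_dvd_card' (G := K) 2
    (by rw [hKc]; rcases hc with rfl | rfl <;> norm_num)
  rw [Subgroup.orderOf_mk] at hto
  obtain ⟨z, hz, hz1⟩ := exists_ne_one h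
  refine no_eleven hcard T ?_ ?_ (t := (t : G)) (by rw [Subgroup.orderOf_coe, hto]) (orderOf_eq h hz hz1) ?_
  · have := card_dvd_of_le hLC
    rwa [card_map_of_injective N.subtype_injective, hLcard] at this
  · intro h23
    obtain ⟨⟨w, hw⟩, hwo⟩ := exists_prime_orderOf_dvd_card' 23 h23
    rw [Subgroup.orderOf_mk] at hwo
    obtain ⟨U, hU⟩ := (IsPGroup.of_card (n := 1) (by rw [Nat.card_zpowers, hwo, pow_one]) :
      IsPGroup 23 (zpowers w)).exists_le_sylow
    obtain ⟨g, hg⟩ := MulAction.exists_smul_eq G U S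
    have hw' : g * w * g⁻¹ ∈ (S : Subgroup G) := by
      rw [← hg]; exact ⟨w, hU (mem_zpowers w), rfl⟩
    have hw1 : g * w * g⁻¹ ≠ 1 := fun e1 => by
      rw [mul_inv_eq_one, mul_eq_left] at e1; rw [e1, orderOf_one] at hwo; norm_num at hwo
    have hga : g * (a : G) * g⁻¹ ∈ centralizer ({g * w * g⁻¹} : Set G) := by
      refine mem_centralizer_singleton_iff.2 ?_
      have h1 : (a : G) * w = w * (a : G) := mem_centralizer_iff.1 hw (a : G) ⟨a, haA, rfl⟩
      calc g * a * g⁻¹ * (g * w * g⁻¹) = g * (a * w) * g⁻¹ := by group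
        _ = g * (w * a) * g⁻¹ := by rw [h1]
        _ = g * w * g⁻¹ * (g * a * g⁻¹) := by group
    rw [centralizer_singleton h hw' hw1] at hga
    have h2 := Subgroup.orderOf_dvd_natCard _ hga
    rw [← MulAut.conj_apply, MulEquiv.orderOf_eq, hao] at h2
    exact h11C h2
  · exact (mem_centralizer_iff.1 htK.1 z hz).symm

/-- **There are 40320 Sylow subgroups of order 23, with normalizers of order 253.** -/
theorem sylow_twentyThree (hcard : Nat.card G = 10200960) [Fact (Nat.Prime 23)] (S : Sylow 23 G) :
    Nat.card (Sylow 23 G) = 40320 ∧ centralizer ((S : Subgroup G) : Set G) = (S : Subgroup G) ∧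
      Nat.card (normalizer ((S : Subgroup G) : Set G)) = 253 := by
  classical
  have h : Setup G 23 S := setup hcard S (m := 443520) (by norm_num) (by norm_num)
  obtain ⟨n, hn⟩ : ∃ n, Nat.card (Sylow 23 G) = 1 + n * 23 := by
    have hm : Nat.card (Sylow 23 G) % 23 = 1 := card_sylow_modEq_one 23 G
    exact ⟨Nat.card (Sylow 23 G) / 23, by omega⟩
  obtain ⟨c, e, num⟩ := exists_num h hn
  have hG := num.cardG
  rw [hcard] at hG
  have hG' : c * e * (1 + n * 23) = 443520 := by
    refine Nat.eq_of_mul_eq_mul_left (show 0 < 23 by norm_num) ?_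
    calc 23 * (c * e * (1 + n * 23)) = 23 * c * e * (1 + n * 23) := by ring
      _ = _ := hG.symm
      _ = _ := by norm_num
  have hopt := count_options ⟨c * e, by rw [← hG']; ring⟩ num.npos
  obtain ⟨M, hM⟩ := exists_isPModular (Fact.out : Nat.Prime 23)
  haveI := hM.2.1.isPrime
  obtain ⟨s, X, Y, sg, ε, B⟩ := exists_blk hM h num
  have hes := B.hes
  have he : e ∈ [2, 11, 22] := by
    have hd : e ∣ 22 := ⟨s, by omega⟩
    have := num.epos
    have := Nat.le_of_dvd (by norm_num) hd
    interval_cases e <;> simp_all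
  let bad : ℕ → Bool := fun d => decide (d < 46)
  have hbad : c ≠ 1 → ∀ χ : IrrCharacter G, χ ∈ X ∨ χ ∈ Y → χ ≠ trivIrr G →
      bad (charDegree (χ : G → ℂ)) = false := fun hc χ hχ hne => by
    simp only [bad, decide_eq_false_iff_not]
    exact fun hlt => hc (c_eq_one_of_lt hM h num B hχ hne (by omega))
  simp only [List.mem_cons, List.not_mem_nil, or_false] at hopt he
  rcases hopt with rfl | rfl | rfl | rfl | rfl | rfl | rfl | rfl | rfl | rfl <;>
    rcases he with rfl | rfl | rfl
  all_goals norm_num at hG'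
  any_goals omega
  any_goals (refine (not_few hcard (Or.inl rfl) h hn ?_).elim; norm_num; done)
  · exact (no_block hM h num B bad (hbad (by omega)) 1000003 [576] (by norm_num)
      (by decide +kernel) (by decide +kernel)).elim
  · exact (no_block hM h num B bad (hbad (by omega)) 24 [0] (by norm_num)
      (by decide +kernel) (by decide +kernel)).elim
  · exact (no_block hM h num B bad (hbad (by omega)) 24 [0] (by norm_num)
      (by decide +kernel) (by decide +kernel)).elim
  · exact (no_block hM h num B bad (hbad (by omega)) 1000003 [990] (by norm_num)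
      (by decide +kernel) (by decide +kernel)).elim
  · exact (no_block hM h num B bad (hbad (by omega)) 1000003 [70, 1680, -160] (by norm_num)
      (by decide +kernel) (by decide +kernel)).elim
  · exact (not_1680 hcard h num (Or.inl ⟨by omega, rfl⟩)).elim
  · exact (not_1680 hcard h num (Or.inr ⟨by omega, rfl⟩)).elim
  · exact (no_block hM h num B bad (hbad (by omega)) 1000003 [3520, -160] (by norm_num)
      (by decide +kernel) (by decide +kernel)).elim
  · exact (no_block hM h num B bad (hbad (by omega)) 1000003 [231, 5544, -252, -528] (by norm_num)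
      (by decide +kernel) (by decide +kernel)).elim
  · obtain rfl : c = 1 := by omega
    refine ⟨hn, ?_, num.cardN⟩
    refine (eq_of_le_of_card_ge (le_centralizer h) ?_).symm
    rw [num.cardC, mul_one]; exact h.cardP.ge

end CfsgLib.M23Ord
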